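import Mathlib.AlgebraicGeometry.Morphisms.FlatDescent
import Mathlib.AlgebraicGeometry.Morphisms.LocalFlatDescent
import Mathlib.AlgebraicGeometry.Morphisms.Descent
import Mathlib.AlgebraicGeometry.Morphisms.Finite

/-!
# Descent of properties of morphisms of schemes along finite affine flat families
-/

universe u

open CategoryTheory CategoryTheory.Limits AlgebraicGeometry MorphismProperty

namespace Groth.Agent.AlgSpCov

theorem flat_codescendsAlong_faithfullyFlat :
    RingHom.CodescendsAlong RingHom.Flat RingHom.FaithfullyFlat := by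
  refine .mk _ RingHom.Flat.respectsIso fun R S T _ _ _ _ _ h h' ↦ ?_
  rw [RingHom.flat_algebraMap_iff] at h' ⊢
  rw [RingHom.faithfullyFlat_algebraMap_iff] at h
  exact Module.Flat.of_flat_tensorProduct R T S

/-- The class of morphisms along which properties descend in the fpqc topology. -/
abbrev Fpqc : MorphismProperty Scheme.{u} := @Surjective ⊓ @Flat ⊓ @QuasiCompact

instance descendsAlong_flat_fpqc : MorphismProperty.DescendsAlong @Flat Fpqc.{u} :=
  HasRingHomProperty.descendsAlong_flat flat_codescendsAlong_faithfullyFlat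

set_option backward.isDefEq.respectTransparency false in
/-- A property stable under base change, Zariski local on the target and descending along fpqc morphisms descends
along finite jointly surjective families of flat morphisms between affine schemes. -/
theorem of_finite_family {P : MorphismProperty Scheme.{u}} [P.IsStableUnderBaseChange]
    [IsZariskiLocalAtTarget P] [P.DescendsAlong Fpqc] {ι : Type} [Finite ι] {Z U : Scheme.{u}}
    (g : U ⟶ Z) (W : ι → Scheme.{u}) (c : ∀ j, W j ⟶ Z) [IsAffine Z] [∀ j, IsAffine (W j)]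
    [∀ j, Flat (c j)] (hs : ∀ z : Z, ∃ j, z ∈ Set.range (c j))
    (H : ∀ j, ∃ (T : Scheme.{u}) (fst : T ⟶ W j) (snd : T ⟶ U), IsPullback fst snd (c j) g ∧ P fst) :
    P g := by
  let e : ULift.{u} ι → Scheme.{u} := fun j => W j.down
  let d : (∐ e) ⟶ Z := Sigma.desc fun j => c j.down
  have hd : ∀ j, Sigma.ι e j ≫ d = c j.down := fun j => Sigma.ι_desc _ _
  have : Surjective d := ⟨fun z => by
    obtain ⟨j, w, rfl⟩ := hs z
    exact ⟨Sigma.ι e ⟨j⟩ w, by rw [← Scheme.Hom.comp_apply, hd]⟩⟩
  have : Flat d := (IsZariskiLocalAtSource.iff_of_openCover (P := @Flat) (sigmaOpenCover e)).2 fun j => by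
    change Flat (Sigma.ι e j ≫ d)
    rw [hd]
    infer_instance
  have : QuasiCompact d := inferInstance
  refine MorphismProperty.of_pullback_fst_of_descendsAlong (P := P) (Q := Fpqc) (f := d)
    ⟨⟨‹_›, ‹_›⟩, ‹_›⟩ ?_
  refine (IsZariskiLocalAtTarget.iff_of_openCover (P := P) (sigmaOpenCover e)).2 fun j => ?_
  obtain ⟨T, fst, snd, hT, hP⟩ := H j.down
  have h2 : IsPullback (pullback.snd (pullback.fst d g) (Sigma.ι e j))
      (pullback.fst (pullback.fst d g) (Sigma.ι e j) ≫ pullback.snd d g) (c j.down) g := by
    rw [← hd j]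
    exact (IsPullback.of_hasPullback (pullback.fst d g) (Sigma.ι e j)).flip.paste_vert
      (IsPullback.of_hasPullback d g)
  have h3 : pullback.snd (pullback.fst d g) (Sigma.ι e j) = (h2.isoIsPullback _ _ hT).hom ≫ fst :=
    (IsPullback.isoIsPullback_hom_fst _ _ _ _).symm
  change P (pullback.snd (pullback.fst d g) (Sigma.ι e j))
  rw [h3, P.cancel_left_of_respectsIso]
  exact hP

end Groth.Agent.AlgSpCov
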