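import Mathlib.RingTheory.Smooth.NoetherianDescent
import Mathlib.RingTheory.Smooth.Flat
import Mathlib.RingTheory.Finiteness.Descent
import Mathlib.RingTheory.Flat.FaithfullyFlat.Descent
import Mathlib.RingTheory.Spectrum.Prime.Chevalley
import Mathlib.RingTheory.TensorProduct.Nontrivial

/-!
# Finite type and finite presentation descend along smooth faithfully flat maps on the source
-/

universe u

open TensorProduct PrimeSpectrum

namespace Groth.Agent.AlgSpCov

/-- Two field extensions embed compatibly in a common field. -/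
theorem exists_common_extension {L K₁ K₂ : Type u} [Field L] [Field K₁] [Field K₂] (φ₁ : L →+* K₁)
    (φ₂ : L →+* K₂) :
    ∃ (Ω : Type u) (_ : Field Ω) (i₁ : K₁ →+* Ω) (i₂ : K₂ →+* Ω), i₁.comp φ₁ = i₂.comp φ₂ := by
  let _ := φ₁.toAlgebra
  let _ := φ₂.toAlgebra
  have : Nontrivial (K₁ ⊗[L] K₂) :=
    Algebra.TensorProduct.nontrivial_of_algebraMap_injective_of_isDomain L K₁ K₂
      (algebraMap L K₁).injective (algebraMap L K₂).injective
  obtain ⟨m, hm⟩ := Ideal.exists_maximal (K₁ ⊗[L] K₂)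
  refine ⟨K₁ ⊗[L] K₂ ⧸ m, Ideal.Quotient.field m,
    (Ideal.Quotient.mk m).comp Algebra.TensorProduct.includeLeftRingHom,
    (Ideal.Quotient.mk m).comp
      (Algebra.TensorProduct.includeRight (R := L) (A := K₁) (B := K₂)).toRingHom, ?_⟩
  ext x
  change Ideal.Quotient.mk m (algebraMap L K₁ x ⊗ₜ[L] (1 : K₂)) =
    Ideal.Quotient.mk m ((1 : K₁) ⊗ₜ[L] algebraMap L K₂ x)
  rw [Algebra.TensorProduct.tmul_one_eq_one_tmul]

/-- A prime downstairs in the image lifts to a tensor product. -/
theorem comap_surjective_tensor {A₀ A' B₀ : Type u} [CommRing A₀] [CommRing A'] [CommRing B₀]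
    [Algebra A₀ A'] [Algebra A₀ B₀]
    (h : ∀ q : PrimeSpectrum A', comap (algebraMap A₀ A') q ∈ Set.range (comap (algebraMap A₀ B₀))) :
    Function.Surjective (comap (algebraMap A' (A' ⊗[A₀] B₀))) := by
  intro q
  obtain ⟨P, hP⟩ := h q
  let kq := q.asIdeal.ResidueField
  let kP := P.asIdeal.ResidueField
  let p := comap (algebraMap A₀ A') q
  let kp := p.asIdeal.ResidueField
  have hP' : p.asIdeal = P.asIdeal.comap (algebraMap A₀ B₀) := by
    change (comap (algebraMap A₀ A') q).asIdeal = _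
    rw [← hP]; rfl
  let i₁ : kp →+* kq := Ideal.ResidueField.map p.asIdeal q.asIdeal (algebraMap A₀ A') rfl
  let i₂ : kp →+* kP := Ideal.ResidueField.map p.asIdeal P.asIdeal (algebraMap A₀ B₀) hP'
  obtain ⟨Ω, _, j₁, j₂, hj⟩ := exists_common_extension i₁ i₂
  let f : A' →+* Ω := j₁.comp (algebraMap A' kq)
  let g : B₀ →+* Ω := j₂.comp (algebraMap B₀ kP)
  have hfg : f.comp (algebraMap A₀ A') = g.comp (algebraMap A₀ B₀) := by
    ext a
    have h1 : algebraMap A' kq (algebraMap A₀ A' a) = i₁ (algebraMap A₀ kp a) :=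
      (Ideal.ResidueField.map_algebraMap _ _ _ _ _).symm
    have h2 : algebraMap B₀ kP (algebraMap A₀ B₀ a) = i₂ (algebraMap A₀ kp a) :=
      (Ideal.ResidueField.map_algebraMap _ _ _ _ _).symm
    change j₁ (algebraMap A' kq (algebraMap A₀ A' a)) = j₂ (algebraMap B₀ kP (algebraMap A₀ B₀ a))
    rw [h1, h2]
    exact RingHom.congr_fun hj _
  let _ := (f.comp (algebraMap A₀ A')).toAlgebra
  let F : A' ⊗[A₀] B₀ →ₐ[A₀] Ω :=
    Algebra.TensorProduct.lift { f with commutes' := fun _ => rfl }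
      { g with commutes' := fun a => (RingHom.congr_fun hfg a).symm } (fun _ _ => Commute.all _ _)
  refine ⟨⟨RingHom.ker F.toRingHom, RingHom.ker_isPrime _⟩, PrimeSpectrum.ext (Ideal.ext fun a => ?_)⟩
  change F (a ⊗ₜ[A₀] (1 : B₀)) = 0 ↔ a ∈ q.asIdeal
  have hF : F (a ⊗ₜ[A₀] (1 : B₀)) = f a := by simp [F, g]
  rw [hF, ← Ideal.algebraMap_residueField_eq_zero (I := q.asIdeal)]
  exact map_eq_zero_iff j₁ j₁.injective

/-- Surjectivity descends from a faithfully flat base change. -/
theorem surjective_of_map_surjective {A₀ A' A B₀ : Type u} [CommRing A₀] [CommRing A'] [CommRing A]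
    [CommRing B₀] [Algebra A₀ A'] [Algebra A' A] [Algebra A₀ A] [IsScalarTower A₀ A' A] [Algebra A₀ B₀]
    [Module.FaithfullyFlat A' (A' ⊗[A₀] B₀)]
    (h : Function.Surjective
      (Algebra.TensorProduct.map (IsScalarTower.toAlgHom A₀ A' A) (AlgHom.id A₀ B₀))) :
    Function.Surjective (algebraMap A' A) := by
  refine (Module.FaithfullyFlat.lTensor_surjective_iff_surjective A' (A' ⊗[A₀] B₀)
    (Algebra.linearMap A' A)).1 fun z => ?_
  obtain ⟨b, hb⟩ := h (Algebra.TensorProduct.cancelBaseChange A₀ A' A A B₀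
    ((TensorProduct.comm A' (A' ⊗[A₀] B₀) A) z))
  refine ⟨b ⊗ₜ 1, ?_⟩
  apply (TensorProduct.comm A' (A' ⊗[A₀] B₀) A).injective
  apply (Algebra.TensorProduct.cancelBaseChange A₀ A' A A B₀).injective
  rw [← hb, LinearMap.lTensor_tmul, Algebra.linearMap_apply, map_one, TensorProduct.comm_tmul]
  clear hb
  induction b using TensorProduct.induction_on with
  | zero => rw [tmul_zero, map_zero, map_zero]
  | add x y hx hy => rw [tmul_add, map_add, map_add, hx, hy]
  | tmul a' b₀ => simp [Algebra.smul_def]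

/-- Finite presentation descends from a faithfully flat base change. -/
theorem finitePresentation_of_map {R A₀ A' A B₀ : Type u} [CommRing R] [CommRing A₀] [CommRing A']
    [CommRing A] [CommRing B₀] [Algebra R A'] [Algebra R A] [Algebra A' A] [IsScalarTower R A' A]
    [Algebra A₀ A'] [Algebra A₀ A] [IsScalarTower A₀ A' A] [Algebra A₀ B₀]
    [Module.FaithfullyFlat A' (A' ⊗[A₀] B₀)] [Algebra.FinitePresentation R A']
    [Algebra.FinitePresentation A₀ B₀] [Algebra.FinitePresentation R (A ⊗[A₀] B₀)]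
    (hθ : Function.Surjective (algebraMap A' A)) : Algebra.FinitePresentation R A := by
  let φ := Algebra.TensorProduct.map (IsScalarTower.toAlgHom A₀ A' A) (AlgHom.id A₀ B₀)
  let φR : A' ⊗[A₀] B₀ →ₐ[R] A ⊗[A₀] B₀ :=
    { φ.toRingHom with
      commutes' := fun r => by
        change φ (algebraMap R A' r ⊗ₜ[A₀] 1) = algebraMap R A r ⊗ₜ[A₀] 1
        simp [φ, ← IsScalarTower.algebraMap_apply R A' A] }
  have : Algebra.FinitePresentation R (A' ⊗[A₀] B₀) :=
    Algebra.FinitePresentation.trans R A' (A' ⊗[A₀] B₀)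
  have hs : Function.Surjective φ :=
    Algebra.TensorProduct.map_surjective (IsScalarTower.toAlgHom A₀ A' A) (AlgHom.id A₀ B₀) hθ
      fun z => ⟨z, rfl⟩
  have hfg : (RingHom.ker φR.toRingHom).FG :=
    Algebra.FinitePresentation.ker_fG_of_surjective φR fun z => hs z
  refine Algebra.FinitePresentation.of_surjective (f := IsScalarTower.toAlgHom R A' A) hθ ?_
  refine Ideal.FG.of_FG_map_of_faithfullyFlat (S := A' ⊗[A₀] B₀) ?_
  have hk : Ideal.map (algebraMap A' (A' ⊗[A₀] B₀)) (RingHom.ker (algebraMap A' A)) =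
      RingHom.ker φR.toRingHom :=
    (Algebra.TensorProduct.rTensor_ker (R := A₀) (S := A₀) (C := B₀)
      (IsScalarTower.toAlgHom A₀ A' A) hθ).symm
  exact hk ▸ hfg

/-- If `B` is smooth and faithfully flat over `A` and of finite type over `R`, then `A` is a quotient of a
finitely presented `R`-algebra, by a finitely generated ideal if `B` is finitely presented over `R`. -/
theorem finiteType_and_finitePresentation_of_smooth {R A B : Type u} [CommRing R] [CommRing A]
    [CommRing B] [Algebra R A] [Algebra A B] [Algebra R B] [IsScalarTower R A B]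
    [Algebra.Smooth A B] [Module.FaithfullyFlat A B] [Algebra.FiniteType R B] :
    Algebra.FiniteType R A ∧
      (Algebra.FinitePresentation R B → Algebra.FinitePresentation R A) := by
  classical
  obtain ⟨A₀, B₀, _, _, hA₀, _, ⟨e⟩⟩ := Algebra.Smooth.exists_subalgebra_fg ℤ A B
  -- the open image of `Spec B₀`
  have hU : IsOpen (Set.range (comap (algebraMap A₀ B₀))) :=
    (isOpenMap_comap_of_hasGoingDown_of_finitePresentation (R := A₀) (S := B₀)).isOpen_range
  obtain ⟨I, hI⟩ := (PrimeSpectrum.isClosed_iff_zeroLocus_ideal _).1 hU.isClosed_compl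
  have hIA : I.map (algebraMap A₀ A) = ⊤ := by
    by_contra hne
    obtain ⟨m, hm, hIm⟩ := Ideal.exists_le_maximal _ hne
    obtain ⟨Q, hQ⟩ := PrimeSpectrum.comap_surjective_of_faithfullyFlat (A := A) (B := B) ⟨m, hm.isPrime⟩
    have hmem : comap (algebraMap A₀ A) ⟨m, hm.isPrime⟩ ∈ PrimeSpectrum.zeroLocus (I : Set A₀) :=
      fun x hx => hIm (Ideal.mem_map_of_mem _ hx)
    rw [← hI] at hmem
    refine hmem ⟨comap ((e.symm.toRingHom).comp
      (Algebra.TensorProduct.includeRight (R := A₀) (A := A) (B := B₀)).toRingHom) Q, ?_⟩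
    rw [← hQ, ← PrimeSpectrum.comap_comp_apply, ← PrimeSpectrum.comap_comp_apply]
    congr 1
    ext a
    have := e.symm.commutes (algebraMap A₀ A a)
    rw [Algebra.TensorProduct.algebraMap_apply, Algebra.algebraMap_self_apply] at this
    simpa [Algebra.TensorProduct.tmul_one_eq_one_tmul] using this
  obtain ⟨c, hc⟩ := (Finsupp.mem_span_iff_linearCombination A (algebraMap A₀ A '' (I : Set A₀)) 1).1
    (show (1 : A) ∈ Ideal.span (algebraMap A₀ A '' (I : Set A₀)) by
      change (1 : A) ∈ I.map (algebraMap A₀ A); simp [hIA])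
  -- coefficients of generators of `B`
  obtain ⟨gB, hgB⟩ := ‹Algebra.FiniteType R B›.out
  choose s hs using fun b : B => TensorProduct.exists_finset (e b)
  let t : Finset A := c.support.image c ∪ gB.biUnion fun b => (s b).image Prod.fst
  let A₁ : Subalgebra ℤ A := A₀ ⊔ Algebra.adjoin ℤ (t : Set A)
  have hA₁ : A₁.FG := hA₀.sup ⟨t, rfl⟩
  have ht : ∀ a ∈ t, a ∈ A₁ := fun a ha => (le_sup_right : _ ≤ A₁) (Algebra.subset_adjoin ha)
  let _ : Algebra A₀ A₁ := (Subalgebra.inclusion (le_sup_left : A₀ ≤ A₁)).toRingHom.toAlgebra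
  have : IsScalarTower A₀ A₁ A := IsScalarTower.of_algebraMap_eq fun _ => rfl
  have : Algebra.FiniteType ℤ A₁ := (Subalgebra.fg_iff_finiteType _).1 hA₁
  have : Algebra.FinitePresentation ℤ A₁ := Algebra.FinitePresentation.of_finiteType.1 this
  let A' := R ⊗[ℤ] A₁
  let θ : A' →ₐ[R] A := Algebra.TensorProduct.lift (Algebra.ofId R A) A₁.val (fun _ _ => Commute.all _ _)
  let _ : Algebra A' A := θ.toRingHom.toAlgebra
  have : IsScalarTower R A' A := IsScalarTower.of_algebraMap_eq fun r => (θ.commutes r).symm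
  let j : A₁ →+* A' := Algebra.TensorProduct.includeRight.toRingHom
  have hj : ∀ a : A₁, θ (j a) = (a : A) := fun a => by
    change Algebra.TensorProduct.lift _ _ _ ((1 : R) ⊗ₜ[ℤ] a) = _
    rw [Algebra.TensorProduct.lift_tmul]
    simp
  let _ : Algebra A₀ A' := (j.comp (algebraMap A₀ A₁)).toAlgebra
  have : IsScalarTower A₀ A' A := IsScalarTower.of_algebraMap_eq fun a =>
    (hj (algebraMap A₀ A₁ a)).symm
  let B' := A' ⊗[A₀] B₀
  have hsurjSpec : Function.Surjective (comap (algebraMap A' B')) := comap_surjective_tensor fun q => by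
    by_contra hq
    rw [← Set.mem_compl_iff, hI] at hq
    refine q.isPrime.ne_top ((Ideal.eq_top_iff_one _).2 ?_)
    have hone : (1 : A₁) ∈ I.map (algebraMap A₀ A₁) := by
      have hmem : ∀ x ∈ c.support, c x ∈ A₁ := fun x hx =>
        ht _ (Finset.mem_union_left _ (Finset.mem_image_of_mem _ hx))
      choose x₀ hx₀ hx₀' using fun x : ↥(algebraMap A₀ A '' (I : Set A₀)) => x.2
      have : (1 : A₁) = ∑ x ∈ c.support.attach, (⟨c x.1, hmem _ x.2⟩ : A₁) * algebraMap A₀ A₁ (x₀ x.1) := by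
        apply Subtype.ext
        rw [AddSubmonoidClass.coe_finsetSum]
        change (1 : A) = ∑ x ∈ c.support.attach, c x.1 * algebraMap A₀ A (x₀ x.1)
        conv_lhs => rw [← hc, Finsupp.linearCombination_apply, Finsupp.sum, ← Finset.sum_attach]
        exact Finset.sum_congr rfl fun x _ => by rw [hx₀', smul_eq_mul]
      rw [this]
      exact Ideal.sum_mem _ fun x _ => Ideal.mul_mem_left _ _ (Ideal.mem_map_of_mem _ (hx₀ _))
    have h2 : I.map (algebraMap A₀ A₁) ≤ q.asIdeal.comap j :=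
      Ideal.map_le_iff_le_comap.2 fun x hx => hq hx
    simpa using h2 hone
  have : Algebra.Smooth A' B' := inferInstance
  have hFF := Module.FaithfullyFlat.of_comap_surjective (A := A') (B := B') hsurjSpec
  -- `B'` surjects onto `B`
  let φ : B' →ₐ[A₀] A ⊗[A₀] B₀ :=
    Algebra.TensorProduct.map (IsScalarTower.toAlgHom A₀ A' A) (AlgHom.id A₀ B₀)
  let φR : B' →ₐ[R] A ⊗[A₀] B₀ :=
    { φ.toRingHom with
      commutes' := fun r => by
        change φ (algebraMap R A' r ⊗ₜ[A₀] 1) = algebraMap R A r ⊗ₜ[A₀] 1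
        exact congrArg (· ⊗ₜ[A₀] (1 : B₀)) (θ.commutes r) }
  let eR : B ≃ₐ[R] A ⊗[A₀] B₀ := e.restrictScalars R
  have hφ : Function.Surjective φR := by
    have hle : (gB : Set B) ⊆ φR.range.comap (eR : B →ₐ[R] A ⊗[A₀] B₀) := by
      intro b hb
      change e b ∈ φR.range
      rw [hs b]
      refine sum_mem fun x hx => ?_
      have hx' : x.1 ∈ A₁ := ht _ (Finset.mem_union_right _ (Finset.mem_biUnion.2
        ⟨b, hb, Finset.mem_image_of_mem _ hx⟩))
      refine ⟨j ⟨x.1, hx'⟩ ⊗ₜ x.2, ?_⟩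
      change φ _ = _
      exact congrArg (· ⊗ₜ[A₀] x.2) (hj ⟨x.1, hx'⟩)
    intro z
    exact (top_le_iff.2 rfl : (⊤ : Subalgebra R B) ≤ ⊤).trans (hgB.ge.trans (Algebra.adjoin_le hle))
      (Algebra.mem_top (x := eR.symm z)) |> fun h => by
        have h' : eR (eR.symm z) ∈ φR.range := h
        rwa [AlgEquiv.apply_symm_apply] at h'
  -- descend surjectivity
  have hθ : Function.Surjective (algebraMap A' A) :=
    surjective_of_map_surjective (A₀ := A₀) (B₀ := B₀) hφ
  have hFT : Algebra.FiniteType R A := Algebra.FiniteType.of_surjective θ hθ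
  refine ⟨hFT, fun hB => ?_⟩
  have : Algebra.FinitePresentation R (A ⊗[A₀] B₀) := Algebra.FinitePresentation.equiv eR
  exact finitePresentation_of_map (A₀ := A₀) (B₀ := B₀) hθ

end Groth.Agent.AlgSpCov
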