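import Mathlib.RingTheory.Etale.Kaehler
import Mathlib.RingTheory.Unramified.LocalStructure
import Mathlib.RingTheory.Smooth.Flat
import Mathlib.RingTheory.RingHom.Smooth
import Mathlib.RingTheory.Flat.FaithfullyFlat.Algebra
import Groth.Agent.AlgSpCov.SmoothSourceDescent

/-!
# Smoothness descends along smooth faithfully flat maps on the source

If `A → B` is smooth and faithfully flat and `R → B` is smooth, then `R → A` is smooth.
-/

universe u

open TensorProduct

namespace Groth.Agent.AlgSpCov

set_option backward.isDefEq.respectTransparency false in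
/-- If the surjection `P ↠ A` lifts to a flat `P`-algebra `Q ↠ C` with kernel generated by the kernel of
`P ↠ A`, and `H¹(L_Q) = 0`, then `C ⊗ H¹(L_P) = 0`. -/
theorem subsingleton_tensor_h1Cotangent {R A C : Type u} [CommRing R] [CommRing A] [CommRing C]
    [Algebra R A] [Algebra R C] [Algebra A C] [IsScalarTower R A C] [Module.Flat A C]
    {P : Algebra.Extension.{u} R A} {Q : Algebra.Extension.{u} R C} (f : P.Hom Q)
    [Algebra P.Ring Q.Ring] (halg : algebraMap P.Ring Q.Ring = f.toRingHom)
    (H : Function.Bijective ((f.mapKer halg).liftBaseChange Q.Ring)) [Subsingleton Q.H1Cotangent] :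
    Subsingleton (C ⊗[A] P.H1Cotangent) := by
  refine subsingleton_of_forall_eq 0 fun x => ?_
  apply Module.Flat.lTensor_preserves_injective_linearMap _ Algebra.Extension.h1Cotangentι_injective
  apply (Algebra.Extension.tensorCotangent f halg H).injective
  simp only [map_zero]
  have hx : ((Algebra.Extension.H1Cotangent.map f).liftBaseChange C) x = 0 := Subsingleton.elim _ _
  rw [← Algebra.Extension.h1Cotangentι.map_zero, ← hx]
  change ((Algebra.Extension.Cotangent.map f).liftBaseChange C ∘ₗ
      Algebra.Extension.h1Cotangentι.baseChange C) x =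
    (Algebra.Extension.h1Cotangentι ∘ₗ _) x
  congr 1
  ext y
  simp

set_option backward.isDefEq.respectTransparency false in
/-- If `C` is standard etale over a polynomial ring over `A` and smooth over `R`, then `C ⊗ H¹(L_{A/R}) = 0`. -/
theorem subsingleton_tensor_h1_of_isStandardEtale {R A C : Type u} [CommRing R] [CommRing A] [CommRing C]
    [Algebra R A] [Algebra R C] [Algebra A C] [IsScalarTower R A C] (n : ℕ)
    [Algebra (MvPolynomial (Fin n) A) C] [IsScalarTower A (MvPolynomial (Fin n) A) C]
    [Algebra.IsStandardEtale (MvPolynomial (Fin n) A) C] [Algebra.FormallySmooth R C] :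
    Subsingleton (C ⊗[A] Algebra.H1Cotangent R A) := by
  classical
  obtain ⟨S⟩ := Algebra.IsStandardEtale.nonempty_standardEtalePresentation
    (R := MvPolynomial (Fin n) A) (S := C)
  let P : Algebra.Extension.{u} R A := (Algebra.Generators.self R A).toExtension
  have hPA : Function.Surjective (algebraMap P.Ring A) := P.algebraMap_surjective
  have : Algebra.FormallySmooth R P.Ring :=
    inferInstanceAs (Algebra.FormallySmooth R (MvPolynomial _ _))
  let μ : MvPolynomial (Fin n) P.Ring →+* MvPolynomial (Fin n) A := MvPolynomial.map (algebraMap P.Ring A)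
  have hμ : Function.Surjective μ := MvPolynomial.map_surjective _ hPA
  -- the lifted standard etale pair
  obtain ⟨F, hF, -, hFm⟩ := Polynomial.lifts_and_natDegree_eq_and_monic (f := μ)
    ((Polynomial.map_surjective μ hμ S.f).imp fun _ h => h) S.monic_f
  obtain ⟨G, hG⟩ := Polynomial.map_surjective μ hμ S.g
  let S' : StandardEtalePair (MvPolynomial (Fin n) P.Ring) :=
    { f := F, monic_f := hFm, g := G * Polynomial.derivative F, cond := ⟨G, 0, 1, by ring⟩ }
  letI aPC : Algebra (MvPolynomial (Fin n) P.Ring) C :=
    ((algebraMap (MvPolynomial (Fin n) A) C).comp μ).toAlgebra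
  have heq : ∀ p : Polynomial (MvPolynomial (Fin n) P.Ring),
      Polynomial.aeval S.x p = Polynomial.aeval S.x (p.map μ) := fun p => by
    simp [Polynomial.aeval_def, Polynomial.eval₂_map, RingHom.algebraMap_toAlgebra]
  have hx : S'.HasMap S.x := by
    refine ⟨?_, ?_⟩
    · rw [heq, show S'.f.map μ = S.f from hF]
      exact S.hasMap.1
    · change IsUnit (Polynomial.aeval S.x (G * Polynomial.derivative F))
      rw [map_mul, heq G, hG, heq, ← Polynomial.derivative_map, hF]
      exact S.hasMap.2.mul S.hasMap.isUnit_derivative_f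
  let π : S'.Ring →ₐ[MvPolynomial (Fin n) P.Ring] C := S'.lift S.x hx
  -- the inverse modulo the kernel of `P ↠ A`
  let J : Ideal S'.Ring :=
    (RingHom.ker μ).map (algebraMap (MvPolynomial (Fin n) P.Ring) S'.Ring)
  have hJ : ∀ a ∈ RingHom.ker μ,
      ((Ideal.Quotient.mk J).comp (algebraMap (MvPolynomial (Fin n) P.Ring) S'.Ring)) a = 0 := fun a ha =>
    Ideal.Quotient.eq_zero_iff_mem.mpr (Ideal.mem_map_of_mem _ ha)
  letI aAQ : Algebra (MvPolynomial (Fin n) A) (S'.Ring ⧸ J) :=
    ((RingHom.liftOfSurjective μ hμ) ⟨_, hJ⟩).toAlgebra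
  have hmu : ∀ a, algebraMap (MvPolynomial (Fin n) A) (S'.Ring ⧸ J) (μ a) =
      Ideal.Quotient.mk J (algebraMap _ _ a) := fun a => RingHom.liftOfRightInverse_comp_apply _ _ _ _ a
  have heq' : ∀ p : Polynomial (MvPolynomial (Fin n) P.Ring),
      Polynomial.aeval (Ideal.Quotient.mk J S'.X) (p.map μ) =
        Ideal.Quotient.mk J (Polynomial.aeval S'.X p) := fun p => by
    rw [Polynomial.aeval_def, Polynomial.aeval_def, Polynomial.hom_eval₂, Polynomial.eval₂_map]
    congr 1
    exact RingHom.ext hmu
  have hX : S.HasMap (Ideal.Quotient.mk J S'.X) := by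
    refine ⟨?_, ?_⟩
    · rw [← hF, heq']
      exact (congrArg _ S'.hasMap_X.1).trans (map_zero _)
    · rw [← hG, heq']
      refine IsUnit.map _ (isUnit_of_mul_isUnit_left (y := Polynomial.aeval S'.X (Polynomial.derivative F)) ?_)
      rw [← map_mul]
      exact S'.hasMap_X.2
  let ψ : C →+* S'.Ring ⧸ J :=
    ((S.lift _ hX).comp S.equivRing.toAlgHom).toRingHom
  have hψalg : ∀ a, ψ (algebraMap (MvPolynomial (Fin n) P.Ring) C a) =
      Ideal.Quotient.mk J (algebraMap _ _ a) := fun a => by
    rw [← hmu]
    exact ((S.lift _ hX).comp S.equivRing.toAlgHom).commutes (μ a)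
  have hψx : ψ S.x = Ideal.Quotient.mk J S'.X := by
    change S.lift _ hX (S.equivRing S.x) = _
    rw [S.equivRing_x, StandardEtalePair.lift_X]
  let ψ' : C →ₐ[MvPolynomial (Fin n) P.Ring] S'.Ring ⧸ J := { ψ with commutes' := hψalg }
  have hψπ : ψ'.comp π = Ideal.Quotient.mkₐ (MvPolynomial (Fin n) P.Ring) J := by
    refine StandardEtalePair.hom_ext ?_
    change ψ (π S'.X) = Ideal.Quotient.mk J S'.X
    rw [StandardEtalePair.lift_X, hψx]
  have hker : RingHom.ker π.toRingHom = J := by
    apply le_antisymm
    · intro x hx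
      rw [← Ideal.Quotient.eq_zero_iff_mem]
      refine (DFunLike.congr_fun hψπ x).symm.trans ?_
      change ψ (π x) = 0
      rw [show π x = 0 from hx, map_zero]
    · refine Ideal.map_le_iff_le_comap.2 fun a ha => ?_
      change π (algebraMap _ _ a) = 0
      rw [π.commutes]
      change algebraMap (MvPolynomial (Fin n) A) C (μ a) = 0
      rw [show μ a = 0 from ha, map_zero]
  let π' : S'.Ring ⧸ J →+* C := Ideal.Quotient.lift J π.toRingHom fun a ha => by
    rw [← RingHom.mem_ker, hker]; exact ha
  have hπψ : ∀ c, π' (ψ c) = c := by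
    let e : C →ₐ[MvPolynomial (Fin n) A] C :=
      { π'.comp ψ with
        commutes' := fun a => by
          obtain ⟨a, rfl⟩ := hμ a
          change π' (ψ (algebraMap (MvPolynomial (Fin n) P.Ring) C a)) = _
          rw [hψalg]
          exact π.commutes a }
    suffices e = AlgHom.id _ _ from fun c => DFunLike.congr_fun this c
    have : e.comp S.equivRing.symm.toAlgHom = S.equivRing.symm.toAlgHom := by
      refine StandardEtalePair.hom_ext ?_
      change π' (ψ (S.equivRing.symm S.X)) = S.equivRing.symm S.X
      rw [S.equivRing_symm_X, hψx]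
      exact S'.lift_X S.x hx
    ext c
    have := DFunLike.congr_fun this (S.equivRing c)
    simpa using this
  have hπs : Function.Surjective π := fun c => by
    obtain ⟨x, hx⟩ := Ideal.Quotient.mk_surjective (ψ c)
    exact ⟨x, by rw [← hπψ c, ← hx]; rfl⟩
  -- the extension
  letI : Algebra P.Ring S'.Ring :=
    ((algebraMap (MvPolynomial (Fin n) P.Ring) S'.Ring).comp MvPolynomial.C).toAlgebra
  have : IsScalarTower P.Ring (MvPolynomial (Fin n) P.Ring) S'.Ring := .of_algebraMap_eq' rfl
  letI : Algebra R S'.Ring := ((algebraMap P.Ring S'.Ring).comp (algebraMap R P.Ring)).toAlgebra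
  have : IsScalarTower R P.Ring S'.Ring := .of_algebraMap_eq' rfl
  have : IsScalarTower R (MvPolynomial (Fin n) P.Ring) S'.Ring := .of_algebraMap_eq fun r => by
    rw [IsScalarTower.algebraMap_apply R P.Ring S'.Ring,
      IsScalarTower.algebraMap_apply P.Ring (MvPolynomial (Fin n) P.Ring) S'.Ring,
      ← IsScalarTower.algebraMap_apply R P.Ring (MvPolynomial (Fin n) P.Ring)]
  have hπR : ∀ r, π (algebraMap R S'.Ring r) = algebraMap R C r := fun r => by
    rw [IsScalarTower.algebraMap_apply R (MvPolynomial (Fin n) P.Ring) S'.Ring, π.commutes,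
      IsScalarTower.algebraMap_apply R A C, IsScalarTower.algebraMap_apply A (MvPolynomial (Fin n) A) C,
      RingHom.algebraMap_toAlgebra]
    change algebraMap (MvPolynomial (Fin n) A) C (μ (MvPolynomial.C (algebraMap R P.Ring r))) = _
    rw [show μ (MvPolynomial.C (algebraMap R P.Ring r)) = _ from MvPolynomial.map_C _ _,
      ← IsScalarTower.algebraMap_apply R P.Ring A]
    rfl
  let Q : Algebra.Extension.{u} R C :=
    .ofSurjective ({ π.toRingHom with commutes' := hπR } : S'.Ring →ₐ[R] C) hπs
  letI aPQ : Algebra P.Ring Q.Ring := (inferInstance : Algebra P.Ring S'.Ring)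
  have hPC : ∀ p, π (algebraMap P.Ring S'.Ring p) = algebraMap A C (algebraMap P.Ring A p) := fun p => by
    rw [IsScalarTower.algebraMap_apply P.Ring (MvPolynomial (Fin n) P.Ring) S'.Ring, π.commutes,
      IsScalarTower.algebraMap_apply A (MvPolynomial (Fin n) A) C, RingHom.algebraMap_toAlgebra]
    change algebraMap _ C (μ (MvPolynomial.C p)) = _
    rw [show μ (MvPolynomial.C p) = MvPolynomial.C (algebraMap P.Ring A p) from MvPolynomial.map_C _ _]
    rfl
  let f : P.Hom Q :=
    { toRingHom := algebraMap P.Ring S'.Ring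
      toRingHom_algebraMap := fun r => (IsScalarTower.algebraMap_apply R P.Ring S'.Ring r).symm
      algebraMap_toRingHom := hPC }
  have : Module.Flat P.Ring S'.Ring := Module.Flat.trans P.Ring (MvPolynomial (Fin n) P.Ring) _
  have hinj : Function.Injective ((f.mapKer rfl).liftBaseChange S'.Ring) := by
    have h1 : Function.Injective ((TensorProduct.rid P.Ring S'.Ring).toLinearMap ∘ₗ
        LinearMap.lTensor S'.Ring P.ker.subtype) :=
      (TensorProduct.rid P.Ring S'.Ring).injective.comp
        (Module.Flat.lTensor_preserves_injective_linearMap _ Subtype.val_injective)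
    intro x y hxy
    apply h1
    have key : ∀ z, ((f.mapKer rfl).liftBaseChange S'.Ring z).val =
        (TensorProduct.rid P.Ring S'.Ring) (LinearMap.lTensor S'.Ring P.ker.subtype z) := by
      intro z
      induction z with
      | zero => simp only [map_zero, ZeroMemClass.coe_zero]
      | add a b ha hb => simp only [map_add, Submodule.coe_add, ha, hb]
      | tmul q i =>
        simp only [LinearMap.liftBaseChange_tmul, LinearMap.lTensor_tmul, TensorProduct.rid_tmul,
          SetLike.val_smul, Algebra.Extension.Hom.mapKer_apply_coe, Algebra.smul_def]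
        rw [mul_comm]
        rfl
    exact (key x).symm.trans ((congrArg Subtype.val hxy).trans (key y))
  have hsurj : Function.Surjective ((f.mapKer rfl).liftBaseChange S'.Ring) := by
    have hJ' : J = P.ker.map (algebraMap P.Ring S'.Ring) := by
      change (RingHom.ker (MvPolynomial.map (algebraMap P.Ring A))).map _ = _
      rw [MvPolynomial.ker_map, Ideal.map_map]
      rfl
    intro z
    have hz : (show S'.Ring from z.1) ∈ P.ker.map (algebraMap P.Ring S'.Ring) := by
      rw [← hJ', ← hker]; exact z.2
    suffices ∀ w ∈ P.ker.map (algebraMap P.Ring S'.Ring), ∃ t,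
        ((f.mapKer rfl).liftBaseChange S'.Ring t).val = w by
      obtain ⟨t, ht⟩ := this _ hz
      exact ⟨t, Subtype.ext ht⟩
    intro w hw
    refine Submodule.span_induction ?_ ?_ ?_ ?_ hw
    · rintro _ ⟨i, hi, rfl⟩
      refine ⟨1 ⊗ₜ ⟨i, hi⟩, ?_⟩
      simp only [LinearMap.liftBaseChange_tmul, one_smul, Algebra.Extension.Hom.mapKer_apply_coe]
      rfl
    · exact ⟨0, by simp only [map_zero, ZeroMemClass.coe_zero]⟩
    · intro a b _ _ ha hb
      obtain ⟨s, rfl⟩ := ha
      obtain ⟨t, rfl⟩ := hb
      exact ⟨s + t, by simp only [map_add, Submodule.coe_add]⟩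
    · intro r a _ ha
      obtain ⟨t, rfl⟩ := ha
      exact ⟨r • t, by simp only [map_smul, SetLike.val_smul]⟩
  have : Algebra.FormallySmooth (MvPolynomial (Fin n) P.Ring) S'.Ring := inferInstance
  have : Algebra.FormallySmooth R (MvPolynomial (Fin n) P.Ring) :=
    Algebra.FormallySmooth.comp R P.Ring _
  have : Algebra.FormallySmooth R Q.Ring :=
    Algebra.FormallySmooth.comp R (MvPolynomial (Fin n) P.Ring) S'.Ring
  have : Subsingleton Q.H1Cotangent :=
    (Algebra.Extension.equivH1CotangentOfFormallySmooth Q).subsingleton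
  have : Module.Flat A C := Module.Flat.trans A (MvPolynomial (Fin n) A) C
  exact subsingleton_tensor_h1Cotangent f rfl ⟨hinj, hsurj⟩

set_option backward.isDefEq.respectTransparency false in
/-- If `A → B` is smooth and faithfully flat, `R → A` is of finite presentation and `R → B` is smooth, then
`R → A` is smooth. -/
theorem smooth_of_smooth_source {R A B : Type u} [CommRing R] [CommRing A] [CommRing B]
    [Algebra R A] [Algebra R B] [Algebra A B] [IsScalarTower R A B] [Algebra.Smooth A B]
    [Module.FaithfullyFlat A B] [Algebra.Smooth R B] [Algebra.FinitePresentation R A] :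
    Algebra.Smooth R A := by
  refine ⟨(Algebra.formallySmooth_iff R A).2 ⟨?_, ?_⟩, inferInstance⟩
  · -- differentials
    have hinj : Function.Injective (KaehlerDifferential.mapBaseChange R A B) := by
      rw [injective_iff_map_eq_zero]
      intro x hx
      obtain ⟨y, rfl⟩ := (Algebra.H1Cotangent.exact_δ_mapBaseChange R A B x).mp hx
      rw [Subsingleton.elim y 0, map_zero]
    have hsurj : Function.Surjective (KaehlerDifferential.map R A B B) :=
      KaehlerDifferential.map_surjective R A B
    obtain ⟨s, hs⟩ := Module.projective_lifting_property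
      (KaehlerDifferential.map R A B B) LinearMap.id hsurj
    obtain ⟨l, hl⟩ := ((KaehlerDifferential.exact_mapBaseChange_map R A B).split_tfae'.out 0 1 rfl rfl).mp
      ⟨hinj, s, hs⟩ |>.2
    have : Module.Projective B (B ⊗[A] Ω[A⁄R]) :=
      Module.Projective.of_split (KaehlerDifferential.mapBaseChange R A B) l hl
    have : Module.Flat B (B ⊗[A] Ω[A⁄R]) := inferInstance
    have : Module.Flat A Ω[A⁄R] := Module.Flat.of_flat_tensorProduct _ _ B
    exact Module.Flat.projective_of_finitePresentation
  · -- first cotangent module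
    suffices Subsingleton (B ⊗[A] Algebra.H1Cotangent R A) from
      Module.FaithfullyFlat.lTensor_reflects_triviality A B _
    refine subsingleton_of_forall_eq 0 fun x => ?_
    by_contra hx
    let I : Ideal B := LinearMap.ker (LinearMap.toSpanSingleton B (B ⊗[A] Algebra.H1Cotangent R A) x)
    have hI : I ≠ ⊤ := fun h => hx (by
      have : (1 : B) ∈ I := h ▸ Submodule.mem_top
      simpa [I] using this)
    obtain ⟨q, hq, hIq⟩ := Ideal.exists_le_maximal I hI
    have : Algebra.IsSmoothAt A q :=
      Algebra.FormallySmooth.comp A B (Localization.AtPrime q)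
    obtain ⟨h, hh, n, _, _, _⟩ :=
      Algebra.IsSmoothAt.exists_isStandardEtale_mvPolynomial (R := A) (p := q)
    have : Algebra.FormallySmooth R (Localization.Away h) :=
      Algebra.FormallySmooth.comp R B (Localization.Away h)
    have := subsingleton_tensor_h1_of_isStandardEtale (R := R) (A := A) (C := Localization.Away h) n
    have : Subsingleton (Localization.Away h ⊗[B] (B ⊗[A] Algebra.H1Cotangent R A)) :=
      (AlgebraTensorModule.cancelBaseChange A B B (Localization.Away h)
        (Algebra.H1Cotangent R A)).subsingleton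
    obtain ⟨c, hc⟩ := (IsLocalizedModule.eq_zero_iff (Submonoid.powers h)
      (TensorProduct.mk B (Localization.Away h) (B ⊗[A] Algebra.H1Cotangent R A) 1)).1
      (Subsingleton.elim _ 0 : TensorProduct.mk B (Localization.Away h) _ 1 x = 0)
    obtain ⟨k, hk⟩ := c.2
    refine hh (hq.isPrime.mem_of_pow_mem k (hIq ?_))
    simpa [I, Submonoid.smul_def, ← hk] using hc

/-- Ring map form of smoothness descent along smooth faithfully flat maps on the source. -/
theorem ringHom_smooth_of_comp {R A B : Type u} [CommRing R] [CommRing A] [CommRing B] (f : R →+* A)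
    (g : A →+* B) (hg : g.Smooth) (hgf : g.FaithfullyFlat) (h : (g.comp f).Smooth) : f.Smooth := by
  algebraize [f, g, g.comp f]
  have : Algebra.FinitePresentation R A :=
    (finiteType_and_finitePresentation_of_smooth (R := R) (A := A) (B := B)).2 inferInstance
  exact smooth_of_smooth_source (B := B)

end Groth.Agent.AlgSpCov
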