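import Mathlib.AlgebraicGeometry.Morphisms.Flat
import Mathlib.AlgebraicGeometry.Morphisms.UniversallyOpen

/-!
# Descending properties of morphisms along coverings of the source
-/

universe u

open CategoryTheory CategoryTheory.Limits AlgebraicGeometry MorphismProperty

namespace Groth.Agent.AlgSpCov

set_option backward.isDefEq.respectTransparency false in
/-- To descend `P` along surjective universally open morphisms with property `E` on the source, it suffices to do
so when all three schemes are affine. -/
theorem of_comp_of_affine {E P : MorphismProperty Scheme.{u}} [IsZariskiLocalAtTarget P]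
    [IsZariskiLocalAtSource P] [IsZariskiLocalAtSource E] [P.IsStableUnderBaseChange]
    [E.IsStableUnderBaseChange]
    (H : ∀ ⦃X Y Z : Scheme.{u}⦄ [IsAffine X] [IsAffine Y] [IsAffine Z] (e : X ⟶ Y) (h : Y ⟶ Z),
      E e → Surjective e → P (e ≫ h) → P h)
    {X Y Z : Scheme.{u}} (e : X ⟶ Y) (h : Y ⟶ Z) [Surjective e] [UniversallyOpen e] (he : E e)
    (hh : P (e ≫ h)) : P h := by
  wlog hZ : IsAffine Z generalizing X Y Z
  · refine (IsZariskiLocalAtTarget.iff_of_openCover (P := P) Z.affineCover).2 fun i => ?_
    change P (pullback.snd h (Z.affineCover.f i))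
    have h2 := (IsPullback.of_hasPullback e (pullback.fst h (Z.affineCover.f i))).paste_vert
      (IsPullback.of_hasPullback h (Z.affineCover.f i)).flip.flip
    refine this (pullback.snd e (pullback.fst h (Z.affineCover.f i)))
      (pullback.snd h (Z.affineCover.f i)) (E.pullback_snd _ _ he) ?_ inferInstance
    exact P.of_isPullback h2 hh
  wlog hY : IsAffine Y generalizing X Y
  · refine (IsZariskiLocalAtSource.iff_of_openCover (P := P) Y.affineCover).2 fun j => ?_
    change P (Y.affineCover.f j ≫ h)
    refine this (pullback.snd e (Y.affineCover.f j)) (Y.affineCover.f j ≫ h)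
      (E.pullback_snd _ _ he) ?_ inferInstance
    rw [← Category.assoc, ← pullback.condition, Category.assoc]
    exact IsZariskiLocalAtSource.comp hh _
  obtain ⟨t, ht⟩ := isCompact_univ.elim_finite_subcover
    (fun j => Set.range (X.affineCover.f j ≫ e))
    (fun j => by
      rw [show Set.range (X.affineCover.f j ≫ e) = e '' Set.range (X.affineCover.f j) by
        rw [← Set.range_comp]; exact congrArg Set.range (funext fun x => Scheme.Hom.comp_apply _ _ x)]
      exact e.isOpenMap _ (X.affineCover.f j).isOpenEmbedding.isOpen_range)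
    (fun y _ => by
      obtain ⟨x, rfl⟩ := Surjective.surj (f := e) y
      obtain ⟨w, hw⟩ := X.affineCover.covers x
      exact Set.mem_iUnion.2 ⟨_, w, by rw [Scheme.Hom.comp_apply, hw]⟩)
  let W : t → Scheme.{u} := fun j => X.affineCover.X j.1
  let d : (∐ W) ⟶ Y := Sigma.desc fun j => X.affineCover.f j.1 ≫ e
  have hd : ∀ j, Sigma.ι W j ≫ d = X.affineCover.f j.1 ≫ e := fun j => Sigma.ι_desc _ _
  have hs : Surjective d := ⟨fun y => by
    obtain ⟨j, hj, x, hx⟩ := Set.mem_iUnion₂.1 (ht (Set.mem_univ y))
    exact ⟨Sigma.ι W ⟨j, hj⟩ x, by rw [← Scheme.Hom.comp_apply, hd]; exact hx⟩⟩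
  have hE : E d := (IsZariskiLocalAtSource.iff_of_openCover (P := E) (sigmaOpenCover W)).2 fun j => by
    change E (Sigma.ι W j ≫ d)
    rw [hd]
    exact IsZariskiLocalAtSource.comp he _
  refine H d h hE hs ((IsZariskiLocalAtSource.iff_of_openCover (P := P) (sigmaOpenCover W)).2 fun j => ?_)
  change P (Sigma.ι W j ≫ d ≫ h)
  rw [← Category.assoc, hd, Category.assoc]
  exact IsZariskiLocalAtSource.comp hh _

set_option backward.isDefEq.respectTransparency false in
/-- The affine case for properties given by properties of ring maps. -/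
theorem of_comp_of_ringHom {P E : MorphismProperty Scheme.{u}}
    {Q QE : ∀ {R S : Type u} [CommRing R] [CommRing S], (R →+* S) → Prop}
    [HasRingHomProperty P Q] [HasRingHomProperty E QE] (hE : E ≤ @Flat)
    (hQ : ∀ ⦃R A B : Type u⦄ [CommRing R] [CommRing A] [CommRing B] (f : R →+* A) (g : A →+* B),
      QE g → g.FaithfullyFlat → Q (g.comp f) → Q f)
    ⦃X Y Z : Scheme.{u}⦄ [IsAffine X] [IsAffine Y] [IsAffine Z] (e : X ⟶ Y) (h : Y ⟶ Z)
    (he : E e) (hs : Surjective e) (hh : P (e ≫ h)) : P h := by
  have hff := (Flat.flat_and_surjective_iff_faithfullyFlat_of_isAffine e).1 ⟨hE _ he, hs⟩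
  rw [HasRingHomProperty.iff_of_isAffine (P := P)] at hh ⊢
  rw [HasRingHomProperty.iff_of_isAffine (P := E)] at he
  rw [Scheme.Hom.comp_appTop, CommRingCat.hom_comp] at hh
  exact hQ _ _ he hff hh

end Groth.Agent.AlgSpCov
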