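import Groth.Agent.AlgSpCov.LocP
import Groth.Agent.AlgSpCov.Transfer
import Groth.Agent.AlgSpCov.SmoothDescent
import Groth.Agent.FpqcDesc.Props
import Mathlib.AlgebraicGeometry.Morphisms.Etale
import Mathlib.AlgebraicGeometry.Morphisms.FormallyUnramified
import Mathlib.AlgebraicGeometry.Morphisms.QuasiFinite
import Mathlib.AlgebraicGeometry.Morphisms.LocalFlatDescent
import Mathlib.RingTheory.RingHom.Etale
import Mathlib.RingTheory.Etale.Descent

/-!
# The standard properties of morphisms of schemes which are etale local on source and target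
-/

universe u

open CategoryTheory CategoryTheory.Limits AlgebraicGeometry MorphismProperty TensorProduct

set_option backward.isDefEq.respectTransparency false

namespace Groth.Agent.AlgSpCov

section Ring

variable {R A B : Type u} [CommRing R] [CommRing A] [CommRing B]

theorem flat_of_comp_of_faithfullyFlat (f : R →+* A) (g : A →+* B) (hg : g.FaithfullyFlat)
    (h : (g.comp f).Flat) : f.Flat := by
  algebraize [f, g, g.comp f]
  have : Module.FaithfullyFlat A B := hg
  have : Module.Flat R B := h
  change Module.Flat R A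
  rw [Module.Flat.iff_lTensor_preserves_injective_linearMap]
  intro M N _ _ _ _ φ hφ
  refine (Module.FaithfullyFlat.lTensor_injective_iff_injective A B
    (AlgebraTensorModule.map (LinearMap.id (R := A) (M := A)) φ)).1 ?_
  have key : ∀ x : B ⊗[A] (A ⊗[R] M),
      AlgebraTensorModule.cancelBaseChange R A A B N
        (LinearMap.lTensor B (AlgebraTensorModule.map (LinearMap.id (R := A) (M := A)) φ) x) =
      LinearMap.lTensor B φ (AlgebraTensorModule.cancelBaseChange R A A B M x) := by
    intro x
    induction x with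
    | zero => simp only [map_zero]
    | add a b ha hb => simp only [map_add, ha, hb]
    | tmul b y =>
      induction y with
      | zero => simp only [tmul_zero, map_zero]
      | add a c ha hc => simp only [tmul_add, map_add, ha, hc]
      | tmul a m => simp
  intro x y hxy
  apply (AlgebraTensorModule.cancelBaseChange R A A B M).injective
  apply Module.Flat.lTensor_preserves_injective_linearMap (M := B) φ hφ
  rw [← key, ← key, hxy]

theorem quasiFinite_of_comp_of_faithfullyFlat (f : R →+* A) (g : A →+* B) (hg : g.FaithfullyFlat)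
    (h : (g.comp f).QuasiFinite) : f.QuasiFinite := by
  algebraize [f, g, g.comp f]
  have : Module.FaithfullyFlat A B := hg
  have : Algebra.QuasiFinite R B := h
  refine ⟨fun P _ => ?_⟩
  let l : P.ResidueField ⊗[R] A →ₗ[P.ResidueField] P.ResidueField ⊗[R] B :=
    AlgebraTensorModule.map LinearMap.id (IsScalarTower.toAlgHom R A B).toLinearMap
  have hl : Function.Injective l := by
    have key : ∀ x : P.ResidueField ⊗[R] A,
        TensorProduct.comm R _ _ (l x) =
          AlgebraTensorModule.cancelBaseChange R A A B P.ResidueField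
            ((1 : B) ⊗ₜ[A] TensorProduct.comm R _ _ x) := by
      intro x
      induction x with
      | zero => simp only [map_zero, tmul_zero]
      | add a b ha hb => simp only [map_add, tmul_add, ha, hb]
      | tmul k a => simp [l, Algebra.smul_def]
    intro x y hxy
    apply (TensorProduct.comm R _ _).injective
    apply Module.FaithfullyFlat.tensorProduct_mk_injective (A := A) (B := B) (A ⊗[R] P.ResidueField)
    apply (AlgebraTensorModule.cancelBaseChange R A A B P.ResidueField).injective
    exact (key x).symm.trans ((congrArg _ hxy).trans (key y))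
  exact Module.Finite.of_injective l hl

theorem formallyUnramified_of_comp_of_smooth (f : R →+* A) (g : A →+* B) (hg' : g.Smooth)
    (hg : g.FaithfullyFlat) (h : (g.comp f).FormallyUnramified) : f.FormallyUnramified := by
  algebraize [f, g, g.comp f]
  have : Module.FaithfullyFlat A B := hg
  have : Algebra.FormallyUnramified R B := h
  have hsub : Subsingleton (B ⊗[A] Ω[A⁄R]) := subsingleton_of_forall_eq 0 fun x => by
    obtain ⟨y, rfl⟩ := (Algebra.H1Cotangent.exact_δ_mapBaseChange R A B x).mp (Subsingleton.elim _ _)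
    rw [Subsingleton.elim y 0, map_zero]
  exact ⟨Module.FaithfullyFlat.lTensor_reflects_triviality A B _⟩

theorem etale_of_comp_of_smooth (f : R →+* A) (g : A →+* B) (hg' : g.Smooth)
    (hg : g.FaithfullyFlat) (h : (g.comp f).Etale) : f.Etale := by
  rw [RingHom.etale_iff_formallyUnramified_and_smooth] at h ⊢
  exact ⟨formallyUnramified_of_comp_of_smooth f g hg' hg h.1, ringHom_smooth_of_comp f g hg' hg h.2⟩

end Ring

theorem smooth_le_flat : (@Smooth : MorphismProperty Scheme.{u}) ≤ @Flat :=
  fun _ _ _ hf => have : Smooth _ := hf; inferInstance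

theorem etale_le_smooth : (@Etale : MorphismProperty Scheme.{u}) ≤ @Smooth :=
  fun _ _ _ hf => have : Etale _ := hf; inferInstance

/-- Source descent along smooth surjective morphisms from the statement for ring maps. -/
theorem of_comp_smooth {P : MorphismProperty Scheme.{u}}
    {Q : ∀ {R S : Type u} [CommRing R] [CommRing S], (R →+* S) → Prop} [HasRingHomProperty P Q]
    [P.IsStableUnderBaseChange]
    (hQ : ∀ ⦃R A B : Type u⦄ [CommRing R] [CommRing A] [CommRing B] (f : R →+* A) (g : A →+* B),
      g.Smooth → g.FaithfullyFlat → Q (g.comp f) → Q f)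
    {X Y Z : Scheme.{u}} (e : X ⟶ Y) (h : Y ⟶ Z) [Smooth e] [Surjective e] (hh : P (e ≫ h)) : P h :=
  of_comp_of_affine (E := @Smooth) (of_comp_of_ringHom smooth_le_flat hQ) e h inferInstance hh

theorem flat_of_comp_smooth {X Y Z : Scheme.{u}} (e : X ⟶ Y) (h : Y ⟶ Z) [Smooth e] [Surjective e]
    (hh : Flat (e ≫ h)) : Flat h :=
  of_comp_smooth (P := @Flat) (fun _ _ _ _ _ _ f g _ hg' hh => flat_of_comp_of_faithfullyFlat f g hg' hh)
    e h hh

theorem locallyOfFiniteType_of_comp_smooth {X Y Z : Scheme.{u}} (e : X ⟶ Y) (h : Y ⟶ Z) [Smooth e]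
    [Surjective e] (hh : LocallyOfFiniteType (e ≫ h)) : LocallyOfFiniteType h :=
  of_comp_smooth (P := @LocallyOfFiniteType) (fun R A B _ _ _ f g hg hg' hh => by
    algebraize [f, g, g.comp f]
    exact (finiteType_and_finitePresentation_of_smooth (R := R) (A := A) (B := B)).1) e h hh

theorem locallyOfFinitePresentation_of_comp_smooth {X Y Z : Scheme.{u}} (e : X ⟶ Y) (h : Y ⟶ Z)
    [Smooth e] [Surjective e] (hh : LocallyOfFinitePresentation (e ≫ h)) :
    LocallyOfFinitePresentation h :=
  of_comp_smooth (P := @LocallyOfFinitePresentation) (fun R A B _ _ _ f g hg hg' hh => by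
    algebraize [f, g, g.comp f]
    exact (finiteType_and_finitePresentation_of_smooth (R := R) (A := A) (B := B)).2 inferInstance) e h hh

theorem smooth_of_comp_smooth {X Y Z : Scheme.{u}} (e : X ⟶ Y) (h : Y ⟶ Z) [Smooth e] [Surjective e]
    (hh : Smooth (e ≫ h)) : Smooth h :=
  of_comp_smooth (P := @Smooth) (fun _ _ _ _ _ _ f g hg hg' hh => ringHom_smooth_of_comp f g hg hg' hh)
    e h hh

theorem formallyUnramified_of_comp_smooth {X Y Z : Scheme.{u}} (e : X ⟶ Y) (h : Y ⟶ Z) [Smooth e]
    [Surjective e] (hh : FormallyUnramified (e ≫ h)) : FormallyUnramified h :=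
  of_comp_smooth (P := @FormallyUnramified)
    (fun _ _ _ _ _ _ f g hg hg' hh => formallyUnramified_of_comp_of_smooth f g hg hg' hh) e h hh

theorem etale_of_comp_smooth {X Y Z : Scheme.{u}} (e : X ⟶ Y) (h : Y ⟶ Z) [Smooth e] [Surjective e]
    (hh : Etale (e ≫ h)) : Etale h :=
  of_comp_smooth (P := @Etale) (fun _ _ _ _ _ _ f g hg hg' hh => etale_of_comp_of_smooth f g hg hg' hh)
    e h hh

theorem locallyQuasiFinite_of_comp_smooth {X Y Z : Scheme.{u}} (e : X ⟶ Y) (h : Y ⟶ Z) [Smooth e]
    [Surjective e] (hh : LocallyQuasiFinite (e ≫ h)) : LocallyQuasiFinite h :=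
  of_comp_smooth (P := @LocallyQuasiFinite)
    (fun _ _ _ _ _ _ f g _ hg' hh => quasiFinite_of_comp_of_faithfullyFlat f g hg' hh) e h hh

theorem EtaleLocal.of_descendsAlong {P : MorphismProperty Scheme.{u}} [P.IsStableUnderBaseChange]
    [P.IsStableUnderComposition] [IsZariskiLocalAtTarget P]
    [P.DescendsAlong (@Surjective ⊓ @Flat ⊓ @QuasiCompact)]
    (hE : (@Etale : MorphismProperty Scheme.{u}) ≤ P)
    (h : ∀ ⦃X Y Z : Scheme.{u}⦄ (e : X ⟶ Y) (h : Y ⟶ Z), Etale e → Surjective e → P (e ≫ h) → P h) :
    EtaleLocal P where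
  precomp _ _ _ e g he hg := P.comp_mem e g (hE _ _ _ he) hg
  ofPrecomp := h
  descend U' U W' W h' eU c g hsq hc hcs hh :=
    MorphismProperty.of_isPullback_of_descendsAlong
      (Q := @Surjective ⊓ @Flat ⊓ @LocallyOfFinitePresentation) hsq.flip.flip
      ⟨⟨hcs, have := hc; inferInstance⟩, have := hc; inferInstance⟩ hh

theorem EtaleLocal.inf {P Q : MorphismProperty Scheme.{u}} (hP : EtaleLocal P) (hQ : EtaleLocal Q) :
    EtaleLocal (P ⊓ Q) where
  precomp _ _ _ e h he hh := ⟨hP.precomp e h he hh.1, hQ.precomp e h he hh.2⟩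
  ofPrecomp _ _ _ e h he hs hh := ⟨hP.ofPrecomp e h he hs hh.1, hQ.ofPrecomp e h he hs hh.2⟩
  descend _ _ _ _ h' eU c h sq hc hcs hh :=
    ⟨hP.descend h' eU c h sq hc hcs hh.1, hQ.descend h' eU c h sq hc hcs hh.2⟩

theorem etale_le_locallyQuasiFinite : (@Etale : MorphismProperty Scheme.{u}) ≤ @LocallyQuasiFinite :=
  fun _ _ f hf => by
    have : Etale f := hf
    refine ⟨fun {U} hU {V} hV e => ?_⟩
    have h1 := (f.etale_appLE hU hV e).formallyUnramified
    have h2 := (f.etale_appLE hU hV e)
    algebraize [(f.appLE U V e).hom]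
    exact RingHom.quasiFinite_algebraMap.2 inferInstance

theorem etaleLocal_flat : EtaleLocal.{u} @Flat :=
  .of_descendsAlong (fun _ _ _ hf => have : Etale _ := hf; inferInstance)
    fun _ _ _ e h _ _ => flat_of_comp_smooth e h

theorem etaleLocal_locallyOfFiniteType : EtaleLocal.{u} @LocallyOfFiniteType :=
  .of_descendsAlong (fun _ _ _ hf => have : Etale _ := hf; inferInstance)
    fun _ _ _ e h _ _ => locallyOfFiniteType_of_comp_smooth e h

theorem etaleLocal_locallyOfFinitePresentation : EtaleLocal.{u} @LocallyOfFinitePresentation :=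
  .of_descendsAlong (fun _ _ _ hf => have : Etale _ := hf; inferInstance)
    fun _ _ _ e h _ _ => locallyOfFinitePresentation_of_comp_smooth e h

theorem etaleLocal_smooth : EtaleLocal.{u} @Smooth :=
  .of_descendsAlong etale_le_smooth fun _ _ _ e h _ _ => smooth_of_comp_smooth e h

theorem etaleLocal_etale : EtaleLocal.{u} @Etale :=
  .of_descendsAlong le_rfl fun _ _ _ e h _ _ => etale_of_comp_smooth e h

theorem etaleLocal_formallyUnramified : EtaleLocal.{u} @FormallyUnramified :=
  .of_descendsAlong (fun _ _ _ hf => have : Etale _ := hf; inferInstance)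
    fun _ _ _ e h _ _ => formallyUnramified_of_comp_smooth e h

theorem etaleLocal_locallyQuasiFinite : EtaleLocal.{u} @LocallyQuasiFinite := by
  have := FpqcDesc.descendsAlong_locallyQuasiFinite.{u}
  exact .of_descendsAlong etale_le_locallyQuasiFinite
    fun _ _ _ e h _ _ => locallyQuasiFinite_of_comp_smooth e h

end Groth.Agent.AlgSpCov
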