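import Groth.Agent.AlgSpCov.Instances

/-!
# One chart suffices, composition, representable morphisms, etale morphisms
-/

universe u

open CategoryTheory CategoryTheory.Limits AlgebraicGeometry Opposite

set_option backward.isDefEq.respectTransparency false

namespace Groth.Agent.AlgSpCov

open AlgSp

variable {S : Scheme.{u}} {P : MorphismProperty Scheme.{u}}

/-- One chart diagram with a surjective source chart decides `LocP P`. -/
theorem locP_of_one_chart [P.IsStableUnderBaseChange] [P.IsStableUnderComposition] (hP : EtaleLocal P)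
    (hE : ∀ ⦃A B : Scheme.{u}⦄ (e : A ⟶ B), Etale e → P e)
    {F G : Sp S} {f : F ⟶ G} (hG : IsAlgSpace G) {U V : Over S} {a : (yon S).obj U ⟶ F}
    {b : (yon S).obj V ⟶ G} {h : U ⟶ V} (ha : RepWith @Etale a) (has : RepWith @Surjective a)
    (hb : RepWith @Etale b) (comm : a ≫ f = (yon S).map h ≫ b) (hh : P h.left) : LocP P f := by
  obtain ⟨V₀, b₀, hb₀, hbs₀⟩ := hG.atlas
  obtain ⟨R₀, s, t, hR₀⟩ := exists_pullback (hG.representable_from_yon (a ≫ f)) b₀
  obtain ⟨V₁, q₁, q₂, hV₁⟩ := exists_pullback (hG.representable_from_yon b) b₀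
  obtain ⟨l, hl⟩ := (yon S).map_surjective (hV₁.lift ((yon S).map (s ≫ h)) ((yon S).map t)
    (by rw [Functor.map_comp, Category.assoc, ← comm, hR₀.w]))
  have ht : l ≫ q₂ = t := (yon S).map_injective (by rw [Functor.map_comp, hl, hV₁.lift_snd])
  have hsq : IsPullback ((yon S).map s) ((yon S).map l) ((yon S).map h) ((yon S).map q₁) := by
    refine IsPullback.of_bot ?_ (by rw [hl, hV₁.lift_fst, ← Functor.map_comp]) hV₁
    rw [← Functor.map_comp, ht, ← comm]
    exact hR₀
  have hq₂ : Etale q₂.left := hb.2 b₀ _ q₂ hV₁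
  have hl' : P l.left := P.of_isPullback (isPullback_left hsq) hh
  have ht' : P t.left := by
    rw [← ht, Over.comp_left]
    exact P.comp_mem _ _ hl' (hE _ hq₂)
  intro U' V' a' b' h' ha' hb' w'
  have hQ := IsPullback.of_hasPullback f b'
  obtain ⟨m, hm, -, hm2⟩ := etale_toPullback ha' hb' w' hQ
  exact chart_of_atlas hP f hG.diag ha has hb₀ hbs₀ hR₀ ht' b' hQ hm h' hm2

/-- Composites of morphisms with `P` etale locally. -/
theorem locP_comp [P.IsStableUnderComposition] (hP : EtaleLocal P) {F G H : Sp S} {f : F ⟶ G}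
    {g : G ⟶ H} (hG : IsAlgSpace G) (hH : IsAlgSpace H) (hf : LocP P f) (hg : LocP P g) :
    LocP P (f ≫ g) := by
  intro U W a c h ha hc w
  obtain ⟨V, b, hb, hbs⟩ := hG.atlas
  obtain ⟨R, r₁, r₂, hR⟩ := exists_pullback (hG.representable_from_yon (a ≫ f)) b
  obtain ⟨V', p₁, p₂, hV'⟩ := exists_pullback (hH.representable_from_yon (b ≫ g)) c
  obtain ⟨l, hl⟩ := (yon S).map_surjective (hV'.lift ((yon S).map r₂) ((yon S).map (r₁ ≫ h)) (by
    rw [← reassoc_of% hR.w, Functor.map_comp, Category.assoc, ← w]))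
  have hl₁ : l ≫ p₁ = r₂ := (yon S).map_injective (by rw [Functor.map_comp, hl, hV'.lift_fst])
  have hl₂ : l ≫ p₂ = r₁ ≫ h := (yon S).map_injective (by rw [Functor.map_comp, hl, hV'.lift_snd])
  have hr₁ : Etale r₁.left := hb.2 _ _ r₁ hR.flip
  have hr₁s : Surjective r₁.left := hbs.2 _ _ r₁ hR.flip
  have hp₁ : Etale p₁.left := hc.2 _ _ p₁ hV'.flip
  have hb' : RepWith @Etale ((yon S).map p₁ ≫ b) := repWith_comp ((repWith_yon_map_iff _ _).2 hp₁) hb
  have ha' : RepWith @Etale ((yon S).map r₁ ≫ a) := repWith_comp ((repWith_yon_map_iff _ _).2 hr₁) ha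
  have hlP : P l.left := hf _ _ l ha' hb'
    (by rw [Category.assoc, hR.w, ← Category.assoc ((yon S).map l), ← Functor.map_comp, hl₁])
  have hp₂ : P p₂.left := hg _ c p₂ hb' hc (by rw [Category.assoc, hV'.w])
  refine hP.ofPrecomp r₁.left h.left hr₁ hr₁s ?_
  rw [← Over.comp_left, ← hl₂, Over.comp_left]
  exact P.comp_mem _ _ hlP hp₂

/-- A representable morphism with `P` has `P` etale locally. -/
theorem locP_of_repWith (hP : EtaleLocal P) {F G : Sp S} {f : F ⟶ G} (hf : RepWith P f) :
    LocP P f := by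
  intro U V a b h ha hb w
  obtain ⟨T, snd, fst, hT⟩ := hf.1 b
  obtain ⟨m, hm, -, hm2⟩ := etale_toPullback ha hb w hT
  obtain ⟨m, rfl⟩ := (yon S).map_surjective m
  have : h = m ≫ snd := (yon S).map_injective (by rw [Functor.map_comp, hm2])
  rw [this, Over.comp_left]
  exact hP.precomp _ _ ((repWith_yon_map_iff _ _).1 hm) (hf.2 b _ snd hT)

/-- For a representable morphism of algebraic spaces `P` etale locally implies `P`. -/
theorem repWith_of_locP [P.IsStableUnderBaseChange] (hP : EtaleLocal P) {F G : Sp S} {f : F ⟶ G}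
    (hF : IsAlgSpace F) (hG : IsAlgSpace G) (hr : Representable f) (hf : LocP P f) : RepWith P f :=
  ⟨hr, fun _ _ g _ snd hT =>
    chart_of_locP hP hF hG hf g hT (repWith_id _ _) snd (Category.id_comp _)⟩

theorem locP_iff_repWith [P.IsStableUnderBaseChange] (hP : EtaleLocal P) {F G : Sp S} {f : F ⟶ G}
    (hF : IsAlgSpace F) (hG : IsAlgSpace G) (hr : Representable f) : LocP P f ↔ RepWith P f :=
  ⟨repWith_of_locP hP hF hG hr, locP_of_repWith hP⟩

/-- The composite of a chart with a morphism with `P` etale locally has `P`. -/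
theorem repWith_chart_comp [P.IsStableUnderBaseChange] (hP : EtaleLocal P) {F G : Sp S} {f : F ⟶ G}
    (hF : IsAlgSpace F) (hG : IsAlgSpace G) (hf : LocP P f) {U : Over S} {φ : (yon S).obj U ⟶ F}
    (hφ : RepWith @Etale φ) : RepWith P (φ ≫ f) := by
  refine ⟨hG.representable_from_yon _, fun W _ g fst snd hT => ?_⟩
  have hQ := IsPullback.of_hasPullback f g
  let m := hQ.lift (fst ≫ φ) ((yon S).map snd) (by rw [Category.assoc, hT.w])
  have hm : IsPullback fst m φ (pullback.fst f g) := by
    refine IsPullback.of_bot ?_ (by simp [m]) hQ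
    simpa [m] using hT
  exact chart_of_locP hP hF hG hf g hQ (repWith_bc hm hφ) snd (hQ.lift_snd ..)

/-- An etale morphism (composites with charts are etale) is etale on every chart diagram. -/
theorem locP_etale_of_isEtaleMor {F G : Sp S} {f : F ⟶ G} (hf : IsEtaleMor f) : LocP @Etale f := by
  intro U V a b h ha hb w
  exact (repWith_yon_map_iff _ _).1 (repWith_etale_cancel _ b hb (w ▸ hf a ha))

theorem isEtaleMor_iff_locP_etale {F G : Sp S} {f : F ⟶ G} (hF : IsAlgSpace F) (hG : IsAlgSpace G) :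
    IsEtaleMor f ↔ LocP @Etale f :=
  ⟨locP_etale_of_isEtaleMor, fun hf _ _ hφ => repWith_chart_comp etaleLocal_etale hF hG hf hφ⟩

end Groth.Agent.AlgSpCov
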