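import Groth.Agent.AlgSpCov.LocPBasic

/-!
# The seven standard properties
-/

universe u

open CategoryTheory CategoryTheory.Limits AlgebraicGeometry MorphismProperty

set_option backward.isDefEq.respectTransparency false

namespace Groth.Agent.AlgSpCov

/-- What is used about each of the seven standard properties. -/
structure Standard (P : MorphismProperty Scheme.{u}) : Prop where
  bc : P.IsStableUnderBaseChange
  comp : P.IsStableUnderComposition
  etaleLocal : EtaleLocal P
  of_etale : ∀ ⦃A B : Scheme.{u}⦄ (e : A ⟶ B), Etale e → P e

theorem standard_flat : Standard.{u} @Flat :=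
  ⟨inferInstance, inferInstance, etaleLocal_flat, fun _ _ e _ => inferInstance⟩

theorem standard_locallyOfFiniteType : Standard.{u} @LocallyOfFiniteType :=
  ⟨inferInstance, inferInstance, etaleLocal_locallyOfFiniteType, fun _ _ e _ => inferInstance⟩

theorem standard_locallyOfFinitePresentation : Standard.{u} @LocallyOfFinitePresentation :=
  ⟨inferInstance, inferInstance, etaleLocal_locallyOfFinitePresentation, fun _ _ e _ => inferInstance⟩

theorem standard_smooth : Standard.{u} @Smooth :=
  ⟨inferInstance, inferInstance, etaleLocal_smooth, fun _ _ e _ => inferInstance⟩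

theorem standard_etale : Standard.{u} @Etale :=
  ⟨inferInstance, inferInstance, etaleLocal_etale, fun _ _ _ h => h⟩

theorem standard_locallyQuasiFinite : Standard.{u} (@LocallyQuasiFinite ⊓ @LocallyOfFiniteType) :=
  ⟨inferInstance, inferInstance, etaleLocal_locallyQuasiFinite.inf etaleLocal_locallyOfFiniteType,
    fun _ _ e he => ⟨etale_le_locallyQuasiFinite _ _ e he, inferInstance⟩⟩

theorem standard_unramified : Standard.{u} (@LocallyOfFiniteType ⊓ @FormallyUnramified) :=
  ⟨inferInstance, inferInstance, etaleLocal_locallyOfFiniteType.inf etaleLocal_formallyUnramified,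
    fun _ _ e _ => ⟨inferInstance, inferInstance⟩⟩

/-- The list used in the statements. -/
theorem standard_of_listed {P : MorphismProperty Scheme.{u}}
    (hP : P = @LocallyOfFiniteType ∨ P = @LocallyOfFinitePresentation ∨ P = @Flat ∨ P = @Smooth ∨ P = @Etale ∨
      (∀ ⦃A B : Scheme.{u}⦄ (g : A ⟶ B), P g ↔ (LocallyQuasiFinite g ∧ LocallyOfFiniteType g)) ∨
      (∀ ⦃A B : Scheme.{u}⦄ (g : A ⟶ B), P g ↔ (LocallyOfFiniteType g ∧ FormallyUnramified g))) :
    Standard P := by
  rcases hP with rfl | rfl | rfl | rfl | rfl | h | h
  · exact standard_locallyOfFiniteType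
  · exact standard_locallyOfFinitePresentation
  · exact standard_flat
  · exact standard_smooth
  · exact standard_etale
  · obtain rfl : P = (@LocallyQuasiFinite ⊓ @LocallyOfFiniteType : MorphismProperty Scheme.{u}) := by
      ext A B g; exact h g
    exact standard_locallyQuasiFinite
  · obtain rfl : P = (@LocallyOfFiniteType ⊓ @FormallyUnramified : MorphismProperty Scheme.{u}) := by
      ext A B g; exact h g
    exact standard_unramified

end Groth.Agent.AlgSpCov
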