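import Groth.Agent.AlgSpCov.FpqcBase
import Groth.Agent.AlgSp.PointsMor
import Groth.Agent.AlgSp.QCMor

/-!
# Topological properties of morphisms of algebraic spaces are fpqc local on the base
-/

universe u

open CategoryTheory CategoryTheory.Limits AlgebraicGeometry Opposite Topology

set_option backward.isDefEq.respectTransparency false

namespace Groth.Agent.AlgSpCov

open _root_.AlgSp

variable {S : Scheme.{u}}

/-- Over an affine scheme mapping to the base, the base change of `f` is covered by base changes of the `p i`. -/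
theorem exists_pieces {ι : Type u} {Y : Sp S} {Yi : ι → Sp S} {g : ∀ i, Yi i ⟶ Y}
    (hg : IsFpqcCover Yi g) {X : Sp S} {f : X ⟶ Y} {Xi : ι → Sp S} {p : ∀ i, Xi i ⟶ Yi i}
    {q : ∀ i, Xi i ⟶ X} (sq : ∀ i, IsPullback (q i) (p i) f (g i)) {Z : Over S} (hZ : IsAffine Z.left)
    (z : (yon S).obj Z ⟶ Y) {P : Sp S} {fst : P ⟶ X} {snd : P ⟶ (yon S).obj Z}
    (hP : IsPullback fst snd f z) :
    ∃ (n : ℕ) (W : Fin n → Over S) (c : ∀ j, W j ⟶ Z),
      (∀ j, IsAffine (W j).left) ∧ (∀ j, Flat (c j).left) ∧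
      (∀ t : ↥Z.left, ∃ j, t ∈ Set.range (c j).left) ∧
      ∀ j (Pj : Sp S) (r : Pj ⟶ P) (sj : Pj ⟶ (yon S).obj (W j)),
        IsPullback r sj snd ((yon S).map (c j)) →
        ∃ (i : ι) (l : (yon S).obj (W j) ⟶ Yi i) (r' : Pj ⟶ Xi i), IsPullback r' sj (p i) l := by
  obtain ⟨n, W, c, hW, hc, hs, hl⟩ := hg.2 Z hZ z
  refine ⟨n, W, c, hW, hc, hs, fun j Pj r sj hj => ?_⟩
  obtain ⟨i, l, hli⟩ := hl j
  have hbig := hj.paste_horiz hP
  obtain ⟨r', hr₁, hr₂⟩ := (sq i).exists_lift (r ≫ fst) (sj ≫ l) (by rw [hbig.w, Category.assoc, hli])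
  refine ⟨i, l, r', IsPullback.of_right ?_ hr₂ (sq i)⟩
  rw [hr₁, hli]
  exact hbig

/-- A set is closed if its preimages along a finite flat jointly surjective family of affines are. -/
theorem isClosed_of_family {ι : Type} [Finite ι] {Z : Scheme.{u}} (W : ι → Scheme.{u}) (c : ∀ j, W j ⟶ Z)
    [IsAffine Z] [∀ j, IsAffine (W j)] [∀ j, Flat (c j)] (hs : ∀ z : Z, ∃ j, z ∈ Set.range (c j))
    {E : Set Z} (h : ∀ j, IsClosed (c j ⁻¹' E)) : IsClosed E := by
  let e : ULift.{u} ι → Scheme.{u} := fun j => W j.down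
  let d : (∐ e) ⟶ Z := Sigma.desc fun j => c j.down
  have hd : ∀ j, Sigma.ι e j ≫ d = c j.down := fun j => Sigma.ι_desc _ _
  have : Surjective d := ⟨fun z => by
    obtain ⟨j, w, rfl⟩ := hs z
    exact ⟨Sigma.ι e ⟨j⟩ w, by rw [← Scheme.Hom.comp_apply, hd]⟩⟩
  have : Flat d := (IsZariskiLocalAtSource.iff_of_openCover (P := @Flat) (sigmaOpenCover e)).2 fun j => by
    change Flat (Sigma.ι e j ≫ d)
    rw [hd]
    infer_instance
  have : QuasiCompact d := inferInstance
  rw [← (Flat.isQuotientMap_of_surjective d).isClosed_preimage]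
  rw [← isOpen_compl_iff, ((sigmaOpenCover e).isOpenCover_opensRange).isOpen_iff_inter]
  intro j
  have hj : IsClosed ((sigmaOpenCover e).f j ⁻¹' (d ⁻¹' E)) := by
    have : ((sigmaOpenCover e).f j ⁻¹' (d ⁻¹' E)) = c j.down ⁻¹' E := by
      rw [← hd j]
      ext x
      rfl
    rw [this]
    exact h _
  have := ((sigmaOpenCover e).f j).isOpenEmbedding.isOpenMap _ hj.isOpen_compl
  rwa [← Set.preimage_compl, Set.image_preimage_eq_inter_range] at this

theorem isOpen_of_family {ι : Type} [Finite ι] {Z : Scheme.{u}} (W : ι → Scheme.{u}) (c : ∀ j, W j ⟶ Z)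
    [IsAffine Z] [∀ j, IsAffine (W j)] [∀ j, Flat (c j)] (hs : ∀ z : Z, ∃ j, z ∈ Set.range (c j))
    {E : Set Z} (h : ∀ j, IsOpen (c j ⁻¹' E)) : IsOpen E :=
  isClosed_compl_iff.1 (isClosed_of_family W c hs fun j => (h j).isClosed_compl)

/-- The same for subsets of the points of a represented sheaf. -/
theorem isClosed_points_of_family {ι : Type} [Finite ι] {Z : Over S} (W : ι → Over S) (c : ∀ j, W j ⟶ Z)
    [IsAffine Z.left] [∀ j, IsAffine (W j).left] [∀ j, Flat (c j).left]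
    (hs : ∀ z : Z.left, ∃ j, z ∈ Set.range (c j).left) {E : Set (Points ((yon S).obj Z))}
    (h : ∀ j, IsClosed (Points.map ((yon S).map (c j)) ⁻¹' E)) : IsClosed E := by
  rw [← (Points.schemeHomeo Z).isClosed_preimage]
  refine isClosed_of_family (fun j => (W j).left) (fun j => (c j).left) hs fun j => ?_
  have e : (c j).left ⁻¹' (Points.schemeHomeo Z ⁻¹' E) =
      Points.schemeHomeo (W j) ⁻¹' (Points.map ((yon S).map (c j)) ⁻¹' E) := by
    ext t
    simp only [Set.mem_preimage, Points.map_yon_map_apply]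
  rw [e]
  exact (Points.schemeHomeo (W j)).isClosed_preimage.2 (h j)

theorem isOpen_points_of_family {ι : Type} [Finite ι] {Z : Over S} (W : ι → Over S) (c : ∀ j, W j ⟶ Z)
    [IsAffine Z.left] [∀ j, IsAffine (W j).left] [∀ j, Flat (c j).left]
    (hs : ∀ z : Z.left, ∃ j, z ∈ Set.range (c j).left) {E : Set (Points ((yon S).obj Z))}
    (h : ∀ j, IsOpen (Points.map ((yon S).map (c j)) ⁻¹' E)) : IsOpen E :=
  isClosed_compl_iff.1 (isClosed_points_of_family W c hs fun j => (h j).isClosed_compl)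

/-- Points of a represented sheaf lift along a jointly surjective family. -/
theorem exists_preimage_of_family {ι : Type} {Z : Over S} {W : ι → Over S} {c : ∀ j, W j ⟶ Z}
    (hs : ∀ z : Z.left, ∃ j, z ∈ Set.range (c j).left) (x : Points ((yon S).obj Z)) :
    ∃ j y, Points.map ((yon S).map (c j)) y = x := by
  obtain ⟨t, rfl⟩ := (Points.schemeHomeo Z).surjective x
  obtain ⟨j, w, rfl⟩ := hs t
  exact ⟨j, _, Points.map_yon_map_apply _ _⟩

variable {ι : Type u} {Y : Sp S} {Yi : ι → Sp S} {g : ∀ i, Yi i ⟶ Y} {X : Sp S} {f : X ⟶ Y}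
  {Xi : ι → Sp S} {p : ∀ i, Xi i ⟶ Yi i} {q : ∀ i, Xi i ⟶ X}

theorem isQuasiCompactMor_of_fpqc (hg : IsFpqcCover Yi g) (sq : ∀ i, IsPullback (q i) (p i) f (g i))
    (hX : IsAlgSpace X) (hY : IsAlgSpace Y) (hp : ∀ i, IsQuasiCompactMor (p i)) : IsQuasiCompactMor f := by
  refine AlgSp.isQuasiCompactMor_of_affine hX hY f fun Z hZ z P fst snd hP => ?_
  obtain ⟨n, W, c, hW, hc, hs, hl⟩ := exists_pieces hg sq hZ z hP
  let r := fun j => pullback.fst snd ((yon S).map (c j))
  have hcov : (Set.univ : Set (Points P)) = ⋃ j, Set.range (Points.map (r j)) := by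
    refine (Set.eq_univ_of_forall fun x => ?_).symm
    obtain ⟨j, y, hy⟩ := exists_preimage_of_family hs (Points.map snd x)
    obtain ⟨t, ht, -⟩ := AlgSpB.exists_of_isPullback (IsPullback.of_hasPullback snd ((yon S).map (c j)))
      x y hy.symm
    exact Set.mem_iUnion.2 ⟨j, t, ht⟩
  refine ⟨?_⟩
  rw [hcov]
  refine isCompact_iUnion fun j => ?_
  obtain ⟨i, l, r', h'⟩ := hl j _ _ _ (IsPullback.of_hasPullback snd ((yon S).map (c j)))
  have := hW j
  have := AlgSp.compactSpace_points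
    (hp i (IsAlgSpace.yon_obj (W j)) (AlgSp.isQuasiCompactSp_yon (W j)) l _ _ h')
  exact isCompact_range (Points.continuous_map _)

theorem isUnivClosedMor_of_fpqc (hg : IsFpqcCover Yi g) (sq : ∀ i, IsPullback (q i) (p i) f (g i))
    (hp : ∀ i, IsUnivClosedMor (p i)) : IsUnivClosedMor f := by
  refine (AlgSp.isUnivClosedMor_iff_affine f).2 fun Z hZ z P fst snd hP E hE => ?_
  obtain ⟨n, W, c, hW, hc, hs, hl⟩ := exists_pieces hg sq hZ z hP
  refine isClosed_points_of_family W c hs fun j => ?_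
  have hj := IsPullback.of_hasPullback snd ((yon S).map (c j))
  obtain ⟨i, l, r', h'⟩ := hl j _ _ _ hj
  rw [AlgSp.preimage_image_map hj]
  exact hp i (IsAlgSpace.yon_obj (W j)) l _ _ h' _ (hE.preimage (Points.continuous_map _))

theorem isUnivOpenMor_of_fpqc (hg : IsFpqcCover Yi g) (sq : ∀ i, IsPullback (q i) (p i) f (g i))
    (hp : ∀ i, IsUnivOpenMor (p i)) : IsUnivOpenMor f := by
  refine (AlgSp.isUnivOpenMor_iff_affine f).2 fun Z hZ z P fst snd hP E hE => ?_
  obtain ⟨n, W, c, hW, hc, hs, hl⟩ := exists_pieces hg sq hZ z hP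
  refine isOpen_points_of_family W c hs fun j => ?_
  have hj := IsPullback.of_hasPullback snd ((yon S).map (c j))
  obtain ⟨i, l, r', h'⟩ := hl j _ _ _ hj
  rw [AlgSp.preimage_image_map hj]
  exact hp i (IsAlgSpace.yon_obj (W j)) l _ _ h' _ (hE.preimage (Points.continuous_map _))

/-- Every point of a sheaf comes from an affine scheme (a field). -/
theorem exists_affine_point {Z : Sp S} (z : Points Z) :
    ∃ (T : Over S) (t : (yon S).obj T ⟶ Z) (y : Points ((yon S).obj T)),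
      IsAffine T.left ∧ Subsingleton (Points ((yon S).obj T)) ∧ Points.map t y = z := by
  obtain ⟨p, hp⟩ := AlgSpB.exists_eq_ofPt_toHom z
  let s : ↥p.pt.left := IsLocalRing.closedPoint p.K
  refine ⟨p.pt, p.toHom, Points.ofScheme p.pt s, inferInstanceAs (IsAffine (Spec _)), ?_, ?_⟩
  · have : Subsingleton ↥p.pt.left := inferInstanceAs (Subsingleton (PrimeSpectrum p.K))
    exact (Points.schemeHomeo p.pt).toEquiv.subsingleton_congr.1 this
  · exact (Points.ofPt_eq_map_ofScheme p.toHom s).symm.trans (hp s)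

theorem isUnivInjectiveMor_of_affine
    (h : ∀ (Z : Over S), IsAffine Z.left → ∀ (z : (yon S).obj Z ⟶ Y) (P : Sp S) (fst : P ⟶ X)
      (snd : P ⟶ (yon S).obj Z), IsPullback fst snd f z → Function.Injective (Points.map snd)) :
    IsUnivInjectiveMor f := by
  intro Z Z' _ z fst snd hZ' x₁ x₂ hx
  obtain ⟨T, t, y, hT, hsub, hy⟩ := exists_affine_point (Points.map snd x₁)
  have hj := IsPullback.of_hasPullback snd t
  obtain ⟨a₁, ha₁, hb₁⟩ := AlgSpB.exists_of_isPullback hj x₁ y hy.symm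
  obtain ⟨a₂, ha₂, hb₂⟩ := AlgSpB.exists_of_isPullback hj x₂ y (hy.trans hx).symm
  rw [← ha₁, ← ha₂, h T hT _ _ _ _ (hj.paste_horiz hZ') (hb₁.trans hb₂.symm)]

theorem isUnivInjectiveMor_of_fpqc (hg : IsFpqcCover Yi g) (sq : ∀ i, IsPullback (q i) (p i) f (g i))
    (hp : ∀ i, IsUnivInjectiveMor (p i)) : IsUnivInjectiveMor f := by
  refine isUnivInjectiveMor_of_affine fun Z hZ z P fst snd hP x₁ x₂ hx => ?_
  obtain ⟨n, W, c, hW, hc, hs, hl⟩ := exists_pieces hg sq hZ z hP
  obtain ⟨j, y, hy⟩ := exists_preimage_of_family hs (Points.map snd x₁)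
  have hj := IsPullback.of_hasPullback snd ((yon S).map (c j))
  obtain ⟨i, l, r', h'⟩ := hl j _ _ _ hj
  obtain ⟨a₁, ha₁, hb₁⟩ := AlgSpB.exists_of_isPullback hj x₁ y hy.symm
  obtain ⟨a₂, ha₂, hb₂⟩ := AlgSpB.exists_of_isPullback hj x₂ y (hy.trans hx).symm
  rw [← ha₁, ← ha₂, hp i (IsAlgSpace.yon_obj (W j)) l _ _ h' (hb₁.trans hb₂.symm)]

theorem isUnivSubmersiveMor_of_affine
    (h : ∀ (Z : Over S), IsAffine Z.left → ∀ (z : (yon S).obj Z ⟶ Y) (P : Sp S) (fst : P ⟶ X)
      (snd : P ⟶ (yon S).obj Z), IsPullback fst snd f z → IsQuotientMap (Points.map snd)) :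
    IsUnivSubmersiveMor f := by
  intro Z Z' _ z fst snd hZ'
  refine ⟨isCoinducing_iff.2 fun E => ⟨fun hE => AlgSp.isOpen_iff_affine.2 fun T hT t => ?_,
    fun hE => hE.preimage (Points.continuous_map snd)⟩, fun x => ?_⟩
  swap
  · obtain ⟨T, t, y, hT, -, hy⟩ := exists_affine_point x
    have hj := IsPullback.of_hasPullback snd t
    obtain ⟨a, ha⟩ := (h T hT _ _ _ _ (hj.paste_horiz hZ')).surjective y
    exact ⟨Points.map (pullback.fst snd t) a,
      by rw [← Points.map_comp, hj.w, Points.map_comp, ha, hy]⟩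
  · have hj := IsPullback.of_hasPullback snd t
    rw [AlgSp.ofPt_preimage_eq]
    refine ((h T hT _ _ _ _ (hj.paste_horiz hZ')).isOpen_preimage.1 ?_).preimage
      (Points.schemeHomeo T).continuous
    have e : Points.map (pullback.snd snd t) ⁻¹' (Points.map t ⁻¹' E) =
        Points.map (pullback.fst snd t) ⁻¹' (Points.map snd ⁻¹' E) := by
      ext a
      simp only [Set.mem_preimage, ← Points.map_comp, hj.w]
    rw [e]
    exact hE.preimage (Points.continuous_map _)

theorem isUnivSubmersiveMor_of_fpqc (hg : IsFpqcCover Yi g) (sq : ∀ i, IsPullback (q i) (p i) f (g i))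
    (hp : ∀ i, IsUnivSubmersiveMor (p i)) : IsUnivSubmersiveMor f := by
  refine isUnivSubmersiveMor_of_affine fun Z hZ z P fst snd hP => ?_
  obtain ⟨n, W, c, hW, hc, hs, hl⟩ := exists_pieces hg sq hZ z hP
  refine ⟨isCoinducing_iff.2 fun E => ⟨fun hE => isOpen_points_of_family W c hs fun j => ?_,
    fun hE => hE.preimage (Points.continuous_map snd)⟩, fun x => ?_⟩
  swap
  · obtain ⟨j, y, hy⟩ := exists_preimage_of_family hs x
    have hj := IsPullback.of_hasPullback snd ((yon S).map (c j))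
    obtain ⟨i, l, r', h'⟩ := hl j _ _ _ hj
    obtain ⟨a, ha⟩ := (hp i (IsAlgSpace.yon_obj (W j)) l _ _ h').surjective y
    exact ⟨Points.map (pullback.fst snd ((yon S).map (c j))) a,
      by rw [← Points.map_comp, hj.w, Points.map_comp, ha, hy]⟩
  · have hj := IsPullback.of_hasPullback snd ((yon S).map (c j))
    obtain ⟨i, l, r', h'⟩ := hl j _ _ _ hj
    refine (hp i (IsAlgSpace.yon_obj (W j)) l _ _ h').isOpen_preimage.1 ?_
    have e : Points.map (pullback.snd snd ((yon S).map (c j))) ⁻¹' (Points.map ((yon S).map (c j)) ⁻¹' E) =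
        Points.map (pullback.fst snd ((yon S).map (c j))) ⁻¹' (Points.map snd ⁻¹' E) := by
      ext a
      simp only [Set.mem_preimage, ← Points.map_comp, hj.w]
    rw [e]
    exact hE.preimage (Points.continuous_map _)

theorem isUnivHomeoMor_iff :
    IsUnivHomeoMor f ↔ IsUnivOpenMor f ∧ IsUnivInjectiveMor f ∧ IsUnivSubmersiveMor f := by
  refine ⟨fun h => ⟨fun _ _ hZ z _ _ sq => (h hZ z _ _ sq).isOpenMap,
    fun _ _ hZ z _ _ sq => (h hZ z _ _ sq).bijective.1,
    fun _ _ hZ z _ _ sq => (h hZ z _ _ sq).isQuotientMap⟩, fun h _ _ hZ z _ snd sq => ?_⟩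
  exact ⟨Points.continuous_map snd, h.1 hZ z _ _ sq, h.2.1 hZ z _ _ sq,
    (h.2.2 hZ z _ _ sq).surjective⟩

/-- `UnivSp Q` is stable under base change. -/
theorem univSp_baseChange {Q : MorphismProperty (Sp S)} {F G F' G' : Sp S} {f : F ⟶ G} {g : G' ⟶ G}
    {g' : F' ⟶ F} {f' : F' ⟶ G'} (sq : IsPullback g' f' f g) (h : UnivSp Q f) : UnivSp Q f' :=
  fun _ _ hZ z _ _ sq' => h hZ (z ≫ g) _ _ (sq'.paste_horiz sq)

end Groth.Agent.AlgSpCov
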