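import Groth.Agent.AlgSpCov.SchemeSourceLocal
import Groth.Agent.AlgSpCov.Listed
import Groth.Agent.GrpdLib.FppfSourceDescentScheme
import Groth.Agent.GrpScheme.FlatFib.Scheme
import Groth.Agent.RelDiv.SmoothDesc
import Groth.Agent.S18490

/-!
# Descent along fppf coverings and locally surjective maps of the source
-/

set_option autoImplicit false
set_option backward.isDefEq.respectTransparency false
set_option backward.isDefEq.respectTransparency.types false

universe u

open CategoryTheory CategoryTheory.Limits AlgebraicGeometry MorphismProperty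

namespace Groth.Agent.AlgSpCov

/-- The class of fppf morphisms of schemes. -/
abbrev Fppf : MorphismProperty Scheme.{u} := @Flat ⊓ @LocallyOfFinitePresentation

theorem fppf_of_etale {A B : Scheme.{u}} (e : A ⟶ B) (he : Etale e) : Fppf e :=
  ⟨inferInstance, inferInstance⟩

theorem isLocalAtSource_fppf_flat :
    MorphismProperty.IsLocalAtSource (@Flat : MorphismProperty Scheme.{u}) (Scheme.precoverage Fppf) :=
  isLocalAtSource_of_surjective
    (fun _ _ _ r k hr hk => have : Flat r := hr.1; have : Flat k := hk; inferInstanceAs (Flat (r ≫ k)))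
    (fun _ _ _ r h hr hs hh => have : Flat r := hr.1; have : Surjective r := hs; have : Flat (r ≫ h) := hh;
      Thick.FlatCancel.flat_of_comp r h)

theorem isLocalAtSource_fppf_locallyOfFiniteType :
    MorphismProperty.IsLocalAtSource (@LocallyOfFiniteType : MorphismProperty Scheme.{u})
      (Scheme.precoverage Fppf) :=
  isLocalAtSource_of_surjective
    (fun _ _ _ r k hr hk => have : LocallyOfFinitePresentation r := hr.2; have : LocallyOfFiniteType k := hk;
      inferInstanceAs (LocallyOfFiniteType (r ≫ k)))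
    (fun _ _ _ r h hr hs hh => have : Flat r := hr.1; have : LocallyOfFinitePresentation r := hr.2
      have : Surjective r := hs; have : LocallyOfFiniteType (r ≫ h) := hh
      GrpdLib.FppfSourceDescent.locallyOfFiniteType_of_comp_fppf r h)

theorem isLocalAtSource_fppf_locallyOfFinitePresentation :
    MorphismProperty.IsLocalAtSource (@LocallyOfFinitePresentation : MorphismProperty Scheme.{u})
      (Scheme.precoverage Fppf) :=
  isLocalAtSource_of_surjective
    (fun _ _ _ r k hr hk => have : LocallyOfFinitePresentation r := hr.2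
      have : LocallyOfFinitePresentation k := hk
      inferInstanceAs (LocallyOfFinitePresentation (r ≫ k)))
    (fun _ _ _ r h hr hs hh => have : Flat r := hr.1; have : LocallyOfFinitePresentation r := hr.2
      have : Surjective r := hs; have : LocallyOfFinitePresentation (r ≫ h) := hh
      GrpdLib.FppfSourceDescent.locallyOfFinitePresentation_of_comp_fppf r h)

theorem smooth_of_family_fppf {κ : Type u} {U Y : Scheme.{u}} (W : κ → Scheme.{u}) (c : ∀ i, W i ⟶ U)
    (hc : ∀ i, Fppf (c i)) (hs : ∀ x : U, ∃ i, x ∈ Set.range (c i)) (h : U ⟶ Y)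
    (H : ∀ i, Smooth (c i ≫ h)) : Smooth h := by
  let d : (∐ W) ⟶ U := Sigma.desc c
  have hd : ∀ i, Sigma.ι W i ≫ d = c i := fun i => Sigma.ι_desc _ _
  have : Surjective d := ⟨fun x => by
    obtain ⟨i, w, hw⟩ := hs x
    exact ⟨Sigma.ι W i w, by rw [← Scheme.Hom.comp_apply, hd, hw]⟩⟩
  have : Flat d := IsZariskiLocalAtSource.sigmaDesc fun i => (hc i).1
  have : LocallyOfFinitePresentation d := IsZariskiLocalAtSource.sigmaDesc fun i => (hc i).2
  have : Smooth (d ≫ h) := (IsZariskiLocalAtSource.iff_of_openCover (P := @Smooth) (sigmaOpenCover W)).2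
    fun i => by
      change Smooth (Sigma.ι W i ≫ d ≫ h)
      rw [← Category.assoc, hd]
      exact H i
  exact RelDiv.smooth_of_fppf_comp d h

theorem etale_of_family_fppf {κ : Type u} {U Y : Scheme.{u}} (W : κ → Scheme.{u}) (c : ∀ i, W i ⟶ U)
    (hc : ∀ i, Fppf (c i)) (hs : ∀ x : U, ∃ i, x ∈ Set.range (c i)) (h : U ⟶ Y)
    (H : ∀ i, Etale (c i ≫ h)) : Etale h := by
  have hce : ∀ i, Etale (c i) := fun i => by
    have : Flat (c i) := (hc i).1
    have : LocallyOfFinitePresentation (c i) := (hc i).2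
    have := H i
    have : FormallyUnramified (c i) := FormallyUnramified.of_comp (c i) h
    exact Etale.of_formallyUnramified_of_flat (c i)
  have := isLocalAtSource_etale.{u}
  exact of_family_of_isLocalAtSource W c hce hs h H

open _root_.AlgSp

variable {S : Scheme.{u}} {P : MorphismProperty Scheme.{u}}

theorem locP_fppf {X Y : Sp S} {f : X ⟶ Y} (h₁ : LocP @Flat f)
    (h₂ : LocP @LocallyOfFinitePresentation f) : LocP Fppf f :=
  fun _ _ a b h ha hb w => ⟨h₁ a b h ha hb w, h₂ a b h ha hb w⟩

/-- The three properties descending along locally surjective maps of the source. -/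
theorem locP_of_comp_isLocallySurjective [P.IsStableUnderBaseChange] [P.IsStableUnderComposition]
    [P.IsLocalAtSource (Scheme.precoverage Fppf)] (hP : EtaleLocal P)
    (hfppf : ∀ ⦃A B : Scheme.{u}⦄ (e : A ⟶ B), Flat e → LocallyOfFinitePresentation e → P e)
    (hret : ∀ ⦃A B C : Scheme.{u}⦄ (s : A ⟶ B) (r : B ⟶ A) (f : A ⟶ C), s ≫ r = 𝟙 A → P (r ≫ f) → P f)
    {X Y Z : Sp S} (hX : IsAlgSpace X) (hY : IsAlgSpace Y) (hZ : IsAlgSpace Z) {g : X ⟶ Y} {h : Y ⟶ Z}
    [Sheaf.IsLocallySurjective g] (hgh : LocP P (g ≫ h)) : LocP P h := by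
  intro U V a b k ha hb w
  obtain ⟨R, hR, hl⟩ := Groth.Agent.AlgSp.exists_cover_lift g a
  obtain ⟨ι, W, c, rfl⟩ := R.exists_eq_ofArrows
  obtain ⟨hs, hc⟩ := (Scheme.ofArrows_mem_precoverage_iff _).1 hR
  choose l hl using fun i => hl (c i) (Presieve.ofArrows.mk i)
  choose idx hidx using hs
  refine of_family_of_isLocalAtSource (P := P) (T := Fppf) (fun x : ↥U.left => W (idx x)) (fun x => c (idx x))
    (fun x => hc _) (fun x => ⟨x, hidx x⟩) k.left fun x => ?_
  let i := idx x
  let Wi : Over S := Over.mk (c i ≫ U.hom)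
  let ci : Wi ⟶ U := Over.homMk (c i) rfl
  have hQ := IsPullback.of_hasPullback g ((yon S).map ci ≫ a)
  obtain ⟨E, e, he, hes⟩ := (Groth.Agent.AlgSp.isAlgSpace_pullback hY hX (IsAlgSpace.yon_obj Wi) g
    ((yon S).map ci ≫ a)).atlas
  obtain ⟨π, hπ⟩ := (yon S).map_surjective (e ≫ pullback.snd g ((yon S).map ci ≫ a))
  have hfst : LocP P (pullback.fst g ((yon S).map ci ≫ a)) :=
    locP_baseChange hP (IsAlgSpace.yon_obj Wi) hY hQ.flip (locP_of_repWith hP (repWith_comp
      ((repWith_yon_map_iff _ ci).2 (hfppf _ (hc i).1 (hc i).2))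
      ⟨ha.1, fun _ _ j _ snd hT => have h := fppf_of_etale _ (ha.2 j _ snd hT); hfppf _ h.1 h.2⟩))
  have hm : P ((π ≫ ci) ≫ k).left := locP_comp hP hX hZ hfst hgh e b _ he hb (by
    rw [Functor.map_comp, Functor.map_comp, hπ]
    simp only [Category.assoc, ← w]
    rw [hQ.w_assoc, Category.assoc])
  obtain ⟨R, r₂, r₁, hR⟩ := exists_pullback he.1 (hQ.lift (l i) (𝟙 _) (by rw [Category.id_comp]; exact hl i))
  have hr₁ : Etale r₁.left := he.2 _ _ r₁ hR
  have hr₁s : Surjective r₁.left := hes.2 _ _ r₁ hR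
  have hr : r₂ ≫ π = r₁ := (yon S).map_injective (by
    rw [Functor.map_comp, hπ, ← Category.assoc, hR.w, Category.assoc, hQ.lift_snd, Category.comp_id])
  let s : R.left ⟶ pullback r₁.left π.left := pullback.lift (𝟙 _) r₂.left (by
    rw [Category.id_comp, ← Over.comp_left, hr])
  refine hP.ofPrecomp r₁.left (c i ≫ k.left) hr₁ hr₁s
    (hret s (pullback.fst _ _) _ (pullback.lift_fst _ _ _) ?_)
  rw [pullback.condition_assoc]
  exact hP.precomp _ _ (MorphismProperty.pullback_snd _ _ hr₁) (by simpa [Over.comp_left, ci] using hm)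

theorem retract_lft {A B C : Scheme.{u}} (s : A ⟶ B) (r : B ⟶ A) (f : A ⟶ C) (hsr : s ≫ r = 𝟙 A)
    (h : LocallyOfFiniteType (r ≫ f)) : LocallyOfFiniteType f := by
  have : IsImmersion (s ≫ r) := by rw [hsr]; infer_instance
  have : IsImmersion s := IsImmersion.of_comp s r
  have hf : f = s ≫ r ≫ f := by rw [reassoc_of% hsr]
  rw [hf]
  infer_instance

theorem retract_lfp {A B C : Scheme.{u}} (s : A ⟶ B) (r : B ⟶ A) (f : A ⟶ C) (hsr : s ≫ r = 𝟙 A)
    (h : LocallyOfFinitePresentation (r ≫ f)) : LocallyOfFinitePresentation f := by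
  have : LocallyOfFiniteType r := locallyOfFiniteType_of_comp r f
  have : LocallyOfFinitePresentation (s ≫ r) := by rw [hsr]; infer_instance
  have : LocallyOfFinitePresentation s := GrpScheme.FlatFib.locallyOfFinitePresentation_of_comp s r
  have hf : f = s ≫ r ≫ f := by rw [reassoc_of% hsr]
  rw [hf]
  infer_instance

end Groth.Agent.AlgSpCov
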