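import Groth.Agent.AlgSpCov.SourceLocal
import Groth.Agent.Thick.FlatCancel

/-!
# Standard properties of morphisms of schemes which are local on the source
-/

universe u

open CategoryTheory CategoryTheory.Limits AlgebraicGeometry MorphismProperty

set_option backward.isDefEq.respectTransparency false

namespace Groth.Agent.AlgSpCov

variable {P T : MorphismProperty Scheme.{u}}

/-- Criterion for locality at the source for `T`-coverings. -/
theorem isLocalAtSource_of_surjective [IsZariskiLocalAtSource P] [IsZariskiLocalAtSource T] [P.RespectsIso]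
    (hcomp : ∀ ⦃R W Y : Scheme.{u}⦄ (r : R ⟶ W) (k : W ⟶ Y), T r → P k → P (r ≫ k))
    (hdesc : ∀ ⦃R U Y : Scheme.{u}⦄ (r : R ⟶ U) (h : U ⟶ Y), T r → Surjective r → P (r ≫ h) → P h) :
    P.IsLocalAtSource (Scheme.precoverage T) where
  comp {X Y f R} hR U g hg hf := hcomp g f (hR.2 hg) hf
  of_forall_comp {X Y f R} hR h := by
    obtain ⟨ι, W, c, rfl⟩ := R.exists_eq_ofArrows
    obtain ⟨hs, hc⟩ := (Scheme.ofArrows_mem_precoverage_iff _).1 hR
    choose i hi using hs
    let W' : ↥X → Scheme.{u} := fun x => W (i x)
    let d : (∐ W') ⟶ X := Sigma.desc fun x => c (i x)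
    have hd : ∀ x, Sigma.ι W' x ≫ d = c (i x) := fun x => Sigma.ι_desc _ _
    have hs' : Surjective d := ⟨fun x => by
      obtain ⟨w, hw⟩ := hi x
      exact ⟨Sigma.ι W' x w, by rw [← Scheme.Hom.comp_apply, hd]; exact hw⟩⟩
    have hT : T d := (IsZariskiLocalAtSource.iff_of_openCover (P := T) (sigmaOpenCover W')).2 fun x => by
      change T (Sigma.ι W' x ≫ d)
      rw [hd]
      exact hc _
    refine hdesc d f hT hs' ((IsZariskiLocalAtSource.iff_of_openCover (P := P) (sigmaOpenCover W')).2
      fun x => ?_)
    change P (Sigma.ι W' x ≫ d ≫ f)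
    rw [← Category.assoc, hd]
    exact h (Presieve.ofArrows.mk (i x))

theorem isLocalAtSource_flat : MorphismProperty.IsLocalAtSource (@Flat : MorphismProperty Scheme.{u}) (Scheme.precoverage @Flat) :=
  isLocalAtSource_of_surjective
    (fun _ _ _ r k hr hk => have : Flat r := hr; have : Flat k := hk; inferInstanceAs (Flat (r ≫ k)))
    (fun _ _ _ r h hr hs hh => have : Flat r := hr; have : Surjective r := hs; have : Flat (r ≫ h) := hh;
      Thick.FlatCancel.flat_of_comp r h)

instance isLocalAtSource_flat_fpqc :
    MorphismProperty.IsLocalAtSource (@Flat : MorphismProperty Scheme.{u}) Scheme.fpqcPrecoverage :=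
  have := isLocalAtSource_flat.{u}
  { comp := fun hR _ g hg hf => MorphismProperty.IsLocalAtSource.comp (K := Scheme.precoverage @Flat)
      (Scheme.propQCPrecoverage_le_precoverage _ hR) g hg hf
    of_forall_comp := fun hR h => MorphismProperty.IsLocalAtSource.of_forall_comp
      (K := Scheme.precoverage @Flat) (Scheme.propQCPrecoverage_le_precoverage _ hR) h }

theorem isLocalAtSource_smooth :
    MorphismProperty.IsLocalAtSource (@Smooth : MorphismProperty Scheme.{u}) (Scheme.precoverage @Smooth) :=
  isLocalAtSource_of_surjective (fun _ _ _ r k hr hk => MorphismProperty.comp_mem @Smooth r k hr hk)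
    (fun _ _ _ r h hr hs hh => have : Smooth r := hr; have : Surjective r := hs; smooth_of_comp_smooth r h hh)

theorem isLocalAtSource_etale :
    MorphismProperty.IsLocalAtSource (@Etale : MorphismProperty Scheme.{u}) (Scheme.precoverage @Etale) :=
  isLocalAtSource_of_surjective (fun _ _ _ r k hr hk => MorphismProperty.comp_mem @Etale r k hr hk)
    (fun _ _ _ r h hr hs hh => have : Etale r := hr; have : Surjective r := hs; etale_of_comp_smooth r h hh)

/-- The standard properties are local at the source for etale coverings. -/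
theorem isLocalAtSource_etalePrecoverage [IsZariskiLocalAtSource P] [P.IsStableUnderComposition] (hE : ∀ ⦃A B : Scheme.{u}⦄ (e : A ⟶ B), Etale e → P e) (hP : EtaleLocal P) :
    P.IsLocalAtSource (Scheme.precoverage @Etale) :=
  isLocalAtSource_of_surjective (fun _ _ _ r k hr hk => P.comp_mem r k (hE r hr) hk)
    (fun _ _ _ r h hr hs hh => hP.ofPrecomp r h hr hs hh)

end Groth.Agent.AlgSpCov
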