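import Groth.Agent.AlgSpCov.FibreFlatFp
import Groth.Agent.AlgSpB.Open
import Groth.Agent.AlgSp.Space
import Groth.Agent.FlatOpen.Scheme
import Groth.Agent.Thick.FlatCancel

/-!
# The flat locus of a morphism of algebraic spaces
-/

universe u

open CategoryTheory CategoryTheory.Limits AlgebraicGeometry Opposite

set_option backward.isDefEq.respectTransparency.types false

namespace Groth.Agent.AlgSpCov.FlatLocus

open _root_.AlgSp Groth.Agent.AlgSp

section Scheme

/-- Flatness at a point is local on the source for flat morphisms. -/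
theorem flat_stalkMap_precomp {U' U V : Scheme.{u}} (e : U' ⟶ U) (g : U ⟶ V) [Flat e] (u' : U') :
    ((e ≫ g).stalkMap u').hom.Flat ↔ (g.stalkMap (e u')).hom.Flat := by
  refine ⟨Groth.Agent.Thick.FlatCancel.flat_stalkMap_of_comp e g u' (Flat.stalkMap e u'), fun h => ?_⟩
  rw [Scheme.Hom.stalkMap_comp]
  exact h.comp (Flat.stalkMap e u')

instance : MorphismProperty.HasOfPostcompProperty @Flat @Etale := by
  rw [MorphismProperty.hasOfPostcompProperty_iff_le_diagonal]
  intro X Y f hf
  have : Etale f := hf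
  exact (inferInstanceAs (Flat (pullback.diagonal f)))

/-- Flatness at a point is local on the target for etale morphisms. -/
theorem flat_stalkMap_postcomp {U V V' : Scheme.{u}} (h : U ⟶ V) (e : V ⟶ V') [Etale e]
    [LocallyOfFinitePresentation h] (u : U) :
    ((h ≫ e).stalkMap u).hom.Flat ↔ (h.stalkMap u).hom.Flat := by
  refine ⟨fun hu => ?_, fun hu => ?_⟩
  · let O : U.Opens := ⟨_, Groth.Agent.FlatOpen.Scheme.isOpen_stalkMap_flat (h ≫ e)⟩
    have h1 : Flat ((O.ι ≫ h) ≫ e) := Flat.of_stalkMap _ fun v => by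
      rw [Category.assoc]
      exact (flat_stalkMap_precomp O.ι (h ≫ e) v).2 v.2
    have h2 : Flat (O.ι ≫ h) := MorphismProperty.of_postcomp @Flat (W' := @Etale) _ e ‹_› h1
    exact (flat_stalkMap_precomp O.ι h ⟨u, hu⟩).1 (Flat.stalkMap _ _)
  · rw [Scheme.Hom.stalkMap_comp]
    exact (Flat.stalkMap e (h u)).comp hu

set_option maxHeartbeats 400000 in
/-- The formation of the flat locus commutes with base change. -/
theorem flat_stalkMap_baseChange {X Y Z X' Y' Z' : Scheme.{u}} {f : X ⟶ Y} {g : Y ⟶ Z} {h : Z' ⟶ Z}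
    {gY : Y' ⟶ Y} {g' : Y' ⟶ Z'} {gX : X' ⟶ X} {f' : X' ⟶ Y'} (hY : IsPullback gY g' g h)
    (hX : IsPullback gX f' f gY) [LocallyOfFinitePresentation (f ≫ g)] [LocallyOfFiniteType g]
    [Flat (f ≫ g)] (x' : X') :
    (f'.stalkMap x').hom.Flat ↔ (f.stalkMap (gX x')).hom.Flat := by
  have : LocallyOfFinitePresentation f :=
    Groth.Agent.GrpScheme.FlatFib.locallyOfFinitePresentation_of_comp f g
  refine ⟨fun hf' => ?_, fun hf => ?_⟩
  · let s' := g' (f' x')
    let s := g (f (gX x'))
    have hs : s = h s' := by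
      change g (f (gX x')) = h (g' (f' x'))
      rw [← Scheme.Hom.comp_apply, ← Scheme.Hom.comp_apply, ← Scheme.Hom.comp_apply,
        ← Scheme.Hom.comp_apply, reassoc_of% hX.w, hY.w]
    -- the residue field extension
    let k : Spec (Z'.residueField s') ⟶ Spec (Z.residueField s) :=
      Spec.map ((Z.residueFieldCongr hs).hom ≫ h.residueFieldMap s')
    have hk : k ≫ Z.fromSpecResidueField s = Z'.fromSpecResidueField s' ≫ h := by
      rw [← Scheme.Hom.SpecMap_residueFieldMap_fromSpecResidueField]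
      simp [k, Spec.map_comp]
    have : Flat k := inferInstance
    have P₀ : IsPullback ((g.fiberι s)) (g.fiberToSpecResidueField s) g (Z.fromSpecResidueField s) :=
      IsPullback.of_hasPullback _ _
    have P₁ : IsPullback (g'.fiberι s' ≫ gY) (g'.fiberToSpecResidueField s') g
        (Z'.fromSpecResidueField s' ≫ h) :=
      (IsPullback.of_hasPullback _ _).paste_horiz hY
    let eY : g'.fiber s' ⟶ g.fiber s := P₀.lift (g'.fiberι s' ≫ gY) (g'.fiberToSpecResidueField s' ≫ k)
      (by rw [Category.assoc (g'.fiberToSpecResidueField s'), hk]; exact P₁.w)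
    have hPY : IsPullback eY (g'.fiberToSpecResidueField s') (g.fiberToSpecResidueField s) k := by
      refine IsPullback.of_right ?_ (P₀.lift_snd ..) P₀
      rw [P₀.lift_fst, hk]
      exact P₁
    have : Flat eY := MorphismProperty.of_isPullback hPY.flip ‹Flat k›
    have Q₀ : IsPullback ((f ≫ g).fiberι s) ((f ≫ g).fiberToSpecResidueField s) (f ≫ g)
        (Z.fromSpecResidueField s) := IsPullback.of_hasPullback _ _
    have Q₁ : IsPullback ((f' ≫ g').fiberι s' ≫ gX) ((f' ≫ g').fiberToSpecResidueField s') (f ≫ g)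
        (Z'.fromSpecResidueField s' ≫ h) :=
      (IsPullback.of_hasPullback _ _).paste_horiz (hX.paste_vert hY)
    let eX : (f' ≫ g').fiber s' ⟶ (f ≫ g).fiber s := Q₀.lift ((f' ≫ g').fiberι s' ≫ gX)
      ((f' ≫ g').fiberToSpecResidueField s' ≫ k) (by rw [Category.assoc ((f' ≫ g').fiberToSpecResidueField s'), hk]; exact Q₁.w)
    have hPX : IsPullback eX ((f' ≫ g').fiberToSpecResidueField s')
        ((f ≫ g).fiberToSpecResidueField s) k := by
      refine IsPullback.of_right ?_ (Q₀.lift_snd ..) Q₀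
      rw [Q₀.lift_fst, hk]
      exact Q₁
    have : Flat eX := MorphismProperty.of_isPullback hPX.flip ‹Flat k›
    have hcomm : MoreMor.fiberMap f' g' s' ≫ eY = eX ≫ MoreMor.fiberMap f g s := by
      refine P₀.hom_ext ?_ ?_
      · rw [Category.assoc, P₀.lift_fst, ← Category.assoc]
        change (pullback.lift _ _ _ ≫ pullback.fst _ _) ≫ gY = _
        rw [pullback.lift_fst, Category.assoc, Category.assoc]
        change _ = eX ≫ pullback.lift _ _ _ ≫ pullback.fst _ _
        rw [pullback.lift_fst, reassoc_of% (Q₀.lift_fst _ _ _), Category.assoc, hX.w]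
      · rw [Category.assoc, P₀.lift_snd, ← Category.assoc]
        change (pullback.lift _ _ _ ≫ pullback.snd _ _) ≫ k = _
        rw [pullback.lift_snd, Category.assoc]
        change _ = eX ≫ pullback.lift _ _ _ ≫ pullback.snd _ _
        rw [pullback.lift_snd]
        exact (Q₀.lift_snd _ _ _).symm
    have : Flat ((f' ≫ g').fiberToSpecResidueField s') := inferInstance
    have hfib' : ((MoreMor.fiberMap f' g' s').stalkMap ((f' ≫ g').asFiber x')).hom.Flat := by
      have : LocallyOfFiniteType g' := MorphismProperty.of_isPullback hY ‹LocallyOfFiniteType g›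
      have : LocallyOfFinitePresentation (f' ≫ g') :=
        MorphismProperty.of_isPullback (hX.paste_vert hY) ‹LocallyOfFinitePresentation (f ≫ g)›
      have : Flat (f' ≫ g') := MorphismProperty.of_isPullback (hX.paste_vert hY) ‹Flat (f ≫ g)›
      exact (Groth.Agent.GrpScheme.FlatFib.fibre_of_flat f' g' x'
        (Groth.Agent.Thick.FlatCancel.flat_stalkMap_of_comp f' g' x' hf' (Flat.stalkMap _ _)) hf').2
    have h1 : ((MoreMor.fiberMap f' g' s' ≫ eY).stalkMap ((f' ≫ g').asFiber x')).hom.Flat := by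
      rw [Scheme.Hom.stalkMap_comp]
      exact (Flat.stalkMap eY _).comp hfib'
    rw [hcomm] at h1
    have h2 := (flat_stalkMap_precomp eX _ _).1 h1
    have he : eX ((f' ≫ g').asFiber x') = (f ≫ g).asFiber (gX x') := by
      apply ((f ≫ g).fiberι s).isEmbedding.injective
      refine Eq.trans ?_ ((f ≫ g).fiberι_asFiber (gX x')).symm
      rw [← Scheme.Hom.comp_apply, Q₀.lift_fst, Scheme.Hom.comp_apply]
      exact congrArg _ ((f' ≫ g').fiberι_asFiber x')
    exact (Groth.Agent.GrpScheme.FlatFib.flat_of_fibre f g (gX x') (Flat.stalkMap _ _) (he ▸ h2)).2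
  · let O : X.Opens := ⟨_, Groth.Agent.FlatOpen.Scheme.isOpen_stalkMap_flat f⟩
    have : Flat (O.ι ≫ f) := Flat.of_stalkMap _ fun v => (flat_stalkMap_precomp O.ι f v).2 v.2
    have : Flat ((gX ⁻¹ᵁ O).ι ≫ f') :=
      MorphismProperty.of_isPullback ((isPullback_morphismRestrict gX O).paste_vert hX)
        ‹Flat (O.ι ≫ f)›
    exact (flat_stalkMap_precomp (gX ⁻¹ᵁ O).ι f' ⟨x', hf⟩).1 (Flat.stalkMap _ _)

end Scheme

variable {S : Scheme.{u}}

/-- Points of a cartesian square of schemes over a point of two charts. -/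
theorem exists_point_of_charts {F : Sp S} {U U' P : Over S} {a : (yon S).obj U ⟶ F}
    {a' : (yon S).obj U' ⟶ F} {p : P ⟶ U} {p' : P ⟶ U'}
    (sq : IsPullback ((yon S).map p) ((yon S).map p') a a') {u : U.left} {u' : U'.left}
    (h : Points.ofPt a u = Points.ofPt a' u') : ∃ t : P.left, p.left t = u ∧ p'.left t = u' := by
  rw [Points.ofPt_eq_map_ofScheme, Points.ofPt_eq_map_ofScheme] at h
  obtain ⟨z, hz₁, hz₂⟩ := Groth.Agent.AlgSpB.exists_of_isPullback sq _ _ h
  obtain ⟨t, rfl⟩ := (Points.schemeHomeo P).surjective z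
  change Points.map _ (Points.ofScheme P t) = _ at hz₁ hz₂
  rw [← Points.ofPt_eq_map_ofScheme] at hz₁ hz₂
  exact ⟨t, (Points.schemeHomeo U).injective (by
      change Points.ofScheme U _ = Points.ofScheme U _
      rw [← hz₁]
      exact ((Groth.Agent.AlgSpB.ofPt_map_comp p (𝟙 _) t).symm.trans (by rw [Category.comp_id]))),
    (Points.schemeHomeo U').injective (by
      change Points.ofScheme U' _ = Points.ofScheme U' _
      rw [← hz₂]
      exact ((Groth.Agent.AlgSpB.ofPt_map_comp p' (𝟙 _) t).symm.trans (by rw [Category.comp_id])))⟩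

/-- Flatness at a point does not depend on the chart diagram. -/
theorem flatAt_agree {X Y : Sp S} (hX : IsAlgSpace X) (hY : IsAlgSpace Y) {f : X ⟶ Y}
    (hf : LocP @LocallyOfFinitePresentation f)
    {U V U' V' : Over S} {a : (yon S).obj U ⟶ X} {b : (yon S).obj V ⟶ Y} {g : U ⟶ V}
    {a' : (yon S).obj U' ⟶ X} {b' : (yon S).obj V' ⟶ Y} {g' : U' ⟶ V'} (ha : RepWith @Etale a)
    (hb : RepWith @Etale b) (ha' : RepWith @Etale a') (hb' : RepWith @Etale b')
    (w : a ≫ f = (yon S).map g ≫ b) (w' : a' ≫ f = (yon S).map g' ≫ b') (u : U.left) (u' : U'.left)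
    (hu : Points.ofPt a u = Points.ofPt a' u') :
    (g.left.stalkMap u).hom.Flat ↔ (g'.left.stalkMap u').hom.Flat := by
  obtain ⟨P, p, p', sqP⟩ := exists_pullback (hX.representable_from_yon a) a'
  obtain ⟨Q, q, q', sqQ⟩ := exists_pullback (hY.representable_from_yon b) b'
  have hpe : Etale p.left := ha'.2 _ _ p sqP.flip
  have hpe' : Etale p'.left := ha.2 _ _ p' sqP
  have hqe : Etale q.left := hb'.2 _ _ q sqQ.flip
  have hqe' : Etale q'.left := hb.2 _ _ q' sqQ
  let m₀ : (yon S).obj P ⟶ (yon S).obj Q := sqQ.lift ((yon S).map (p ≫ g)) ((yon S).map (p' ≫ g'))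
    (by rw [Functor.map_comp, Functor.map_comp, Category.assoc, Category.assoc, ← w, ← w', sqP.w_assoc])
  obtain ⟨m, hm⟩ := (yon S).map_surjective m₀
  have hm₁ : m ≫ q = p ≫ g := (yon S).map_injective (by
    rw [Functor.map_comp, hm]; exact sqQ.lift_fst ..)
  have hm₂ : m ≫ q' = p' ≫ g' := (yon S).map_injective (by
    rw [Functor.map_comp, hm]; exact sqQ.lift_snd ..)
  have hbQ : RepWith @Etale ((yon S).map q ≫ b) :=
    (repWith_isMultiplicative _).comp_mem _ _ ((repWith_yon_map_iff _ _).2 hqe) hb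
  have haP : RepWith @Etale ((yon S).map p ≫ a) :=
    (repWith_isMultiplicative _).comp_mem _ _ ((repWith_yon_map_iff _ _).2 hpe) ha
  have : LocallyOfFinitePresentation m.left := hf _ _ m haP hbQ (by
    rw [Category.assoc, w, ← Functor.map_comp_assoc, ← hm₁, Functor.map_comp_assoc])
  obtain ⟨t, rfl, rfl⟩ := exists_point_of_charts sqP hu
  rw [← flat_stalkMap_precomp p.left g.left t, ← flat_stalkMap_precomp p'.left g'.left t]
  have e₁ : p.left ≫ g.left = m.left ≫ q.left := congrArg CommaMorphism.left hm₁.symm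
  have e₂ : p'.left ≫ g'.left = m.left ≫ q'.left := congrArg CommaMorphism.left hm₂.symm
  rw [e₁, e₂, flat_stalkMap_postcomp, flat_stalkMap_postcomp]

/-- Flatness at a point can be tested on one chart diagram. -/
theorem isFlatAtMor_iff {X Y : Sp S} (hX : IsAlgSpace X) (hY : IsAlgSpace Y) {f : X ⟶ Y}
    (hf : LocP @LocallyOfFinitePresentation f) {U V : Over S} {a : (yon S).obj U ⟶ X}
    {b : (yon S).obj V ⟶ Y} {g : U ⟶ V} (ha : RepWith @Etale a) (hb : RepWith @Etale b)
    (w : a ≫ f = (yon S).map g ≫ b) (u : U.left) :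
    IsFlatAtMor f (Points.ofPt a u) ↔ (g.left.stalkMap u).hom.Flat :=
  ⟨fun h => h a b g u ha hb w rfl, fun h U' V' a' b' g' u' ha' hb' w' hu' =>
    (flatAt_agree hX hY hf ha hb ha' hb' w w' u u' hu'.symm).1 h⟩

/-- A chart of the base change of a morphism of algebraic spaces. -/
theorem exists_chart_baseChange {F G F' G' : Sp S} (hF : IsAlgSpace F) {f : F ⟶ G} {f' : F' ⟶ G'}
    {pF : F' ⟶ F} {pG : G' ⟶ G} (sq : IsPullback pF f' f pG)
    {V V' : Over S} {b : (yon S).obj V ⟶ G} {b' : (yon S).obj V' ⟶ G'} {k : V' ⟶ V}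
    (hb : RepWith @Etale b) (hb' : RepWith @Etale b') (hb's : RepWith @Surjective b')
    (wk : b' ≫ pG = (yon S).map k ≫ b) (hG : IsAlgSpace G) :
    ∃ (U U' : Over S) (a : (yon S).obj U ⟶ F) (g : U ⟶ V) (a' : (yon S).obj U' ⟶ F') (g' : U' ⟶ V')
      (v : U' ⟶ U), RepWith @Etale a ∧ a ≫ f = (yon S).map g ≫ b ∧ RepWith @Etale a' ∧
      RepWith @Surjective a' ∧ a' ≫ f' = (yon S).map g' ≫ b' ∧ a' ≫ pF = (yon S).map v ≫ a ∧
      IsPullback v g' g k := by
  have hQ := IsPullback.of_hasPullback f b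
  obtain ⟨U, m, hm, hms⟩ := (isAlgSpace_pullback hG hF (IsAlgSpace.yon_obj V) f b).atlas
  obtain ⟨g, hg⟩ := (yon S).map_surjective (m ≫ pullback.snd f b)
  have hQ' := IsPullback.of_hasPullback f' b'
  let e : pullback f' b' ⟶ pullback f b := hQ.lift (pullback.fst f' b' ≫ pF) (pullback.snd f' b' ≫ (yon S).map k)
    (by rw [Category.assoc, Category.assoc, ← wk, sq.w, hQ'.w_assoc])
  have hsq : IsPullback e (pullback.snd f' b') (pullback.snd f b) ((yon S).map k) := by
    refine IsPullback.of_right ?_ (hQ.lift_snd ..) hQ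
    rw [hQ.lift_fst, ← wk]
    exact hQ'.paste_horiz sq
  obtain ⟨U', v, g', sqU⟩ := exists_pullback
    (show Representable ((yon S).map g) from ((repWith_yon_map_iff ⊤ g).2 trivial).1) ((yon S).map k)
  let m' : (yon S).obj U' ⟶ pullback f' b' := hsq.lift ((yon S).map v ≫ m) ((yon S).map g')
    (by rw [Category.assoc, ← hg]; exact sqU.w)
  have sqm : IsPullback ((yon S).map v) m' m e := by
    refine IsPullback.of_bot ?_ (hsq.lift_fst ..).symm hsq
    rw [show m' ≫ pullback.snd f' b' = (yon S).map g' from hsq.lift_snd .., ← hg]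
    exact sqU
  refine ⟨U, U', m ≫ pullback.fst f b, g, m' ≫ pullback.fst f' b', g', v,
    (repWith_isMultiplicative _).comp_mem _ _ hm (repWith_bc hQ.flip hb), ?_,
    (repWith_isMultiplicative _).comp_mem _ _ (repWith_bc sqm hm) (repWith_bc hQ'.flip hb'),
    (repWith_isMultiplicative _).comp_mem _ _ (repWith_bc sqm hms) (repWith_bc hQ'.flip hb's), ?_, ?_,
    IsPullback.of_map (yon S) ((yon S).map_injective (by simpa using sqU.w)) sqU⟩
  · rw [Category.assoc, hQ.w, ← Category.assoc, ← hg]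
  · rw [Category.assoc, hQ'.w, ← Category.assoc]
    exact congrArg (· ≫ b') (hsq.lift_snd ..)
  · rw [Category.assoc, show pullback.fst f' b' ≫ pF = e ≫ pullback.fst f b from (hQ.lift_fst ..).symm,
      ← Category.assoc, ← sqm.w, Category.assoc]

end Groth.Agent.AlgSpCov.FlatLocus
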