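import Groth.Agent.AlgSpCov.EtaleMono
import Groth.Agent.AlgSp.Diag

/-!
# Diagonals, monomorphisms, isomorphisms and open immersions along fpqc coverings
-/

universe u

open CategoryTheory CategoryTheory.Limits AlgebraicGeometry Opposite Topology

set_option backward.isDefEq.respectTransparency false

namespace Groth.Agent.AlgSpCov

open _root_.AlgSp

variable {S : Scheme.{u}}

/-- The diagonal of a base change is a base change of the diagonal, over a base change of the fibre square. -/
theorem exists_diagonal_squares {C : Type*} [Category C] [HasPullbacks C] {X Y X' Y' : C} {f : X ⟶ Y}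
    {g : Y' ⟶ Y} {g' : X' ⟶ X} {f' : X' ⟶ Y'} (sq : IsPullback g' f' f g) :
    ∃ μ : pullback f' f' ⟶ pullback f f,
      IsPullback μ (pullback.fst f' f' ≫ f') (pullback.fst f f ≫ f) g ∧
      IsPullback g' (pullback.diagonal f') (pullback.diagonal f) μ := by
  let μ : pullback f' f' ⟶ pullback f f := pullback.map f' f' f f g' g' g sq.w.symm sq.w.symm
  have big := (IsPullback.of_hasPullback f' f').flip.paste_horiz sq
  have h1 : IsPullback μ (pullback.fst f' f') (pullback.fst f f) g' := by
    refine IsPullback.of_right ?_ (pullback.lift_fst _ _ _) (IsPullback.of_hasPullback f f).flip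
    rw [show μ ≫ pullback.snd f f = pullback.snd f' f' ≫ g' from pullback.lift_snd _ _ _, sq.w]
    exact big
  have hA := h1.paste_vert sq
  refine ⟨μ, hA, IsPullback.of_bot ?_ ?_ hA⟩
  · rw [pullback.diagonal_fst_assoc, pullback.diagonal_fst_assoc]
    exact sq
  · apply pullback.hom_ext <;> simp [μ]

variable {ι : Type u} {Y : Sp S} {Yi : ι → Sp S} {g : ∀ i, Yi i ⟶ Y} {X : Sp S} {f : X ⟶ Y}
  {Xi : ι → Sp S} {p : ∀ i, Xi i ⟶ Yi i} {q : ∀ i, Xi i ⟶ X}

/-- Properties of the diagonal descend along fpqc coverings. -/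
theorem repWith_diagonal_of_fpqc {P : MorphismProperty Scheme.{u}} [P.IsStableUnderBaseChange]
    [IsZariskiLocalAtTarget P] [P.DescendsAlong (@Surjective ⊓ @Flat ⊓ @QuasiCompact)]
    (hY : IsAlgSpace Y) (hYi : ∀ i, IsAlgSpace (Yi i)) (hg : IsFpqcCover Yi g) (hX : IsAlgSpace X)
    (sq : ∀ i, IsPullback (q i) (p i) f (g i)) (hp : ∀ i, RepWith P (pullback.diagonal (p i))) :
    RepWith P (pullback.diagonal f) := by
  choose μ hA hB using fun i => exists_diagonal_squares (sq i)
  have hcov : IsFpqcCover (fun i => pullback (p i) (p i)) μ :=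
    isFpqcCover_baseChange hY hYi (a := pullback.fst f f ≫ f) hA hg
  exact repWith_of_fpqc hcov (AlgSp.diagonal_props hX f).1 hB hp

/-- The diagonal of a base change has the properties of the diagonal. -/
theorem repWith_diagonal_baseChange {P : MorphismProperty Scheme.{u}} {X' Y' : Sp S} {g' : X' ⟶ X}
    {g₀ : Y' ⟶ Y} {f' : X' ⟶ Y'} (sq : IsPullback g' f' f g₀) (hf : RepWith P (pullback.diagonal f)) :
    RepWith P (pullback.diagonal f') := by
  obtain ⟨μ, -, hB⟩ := exists_diagonal_squares sq
  exact repWith_bc hB hf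

theorem repWith_isomorphisms_of_isIso {F G : Sp S} (φ : F ⟶ G) [IsIso φ] :
    RepWith (MorphismProperty.isomorphisms Scheme.{u}) φ := by
  refine ⟨fun V b => ⟨V, 𝟙 V, b ≫ inv φ, IsPullback.of_vert_isIso ⟨by simp⟩⟩, fun U V b fst snd h => ?_⟩
  have := h.isIso_snd_of_isIso
  have : IsIso snd := isIso_of_reflects_iso snd (yon S)
  exact inferInstanceAs (IsIso ((Over.forget S).map snd))

theorem isIso_of_repWith_isomorphisms {F G : Sp S} (φ : F ⟶ G)
    (h : RepWith (MorphismProperty.isomorphisms Scheme.{u}) φ) : IsIso φ := by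
  have : Mono φ := AlgSp.mono_of_repWith (fun g (hg : IsIso g) => inferInstance) φ h
  have : Sheaf.IsLocallySurjective φ := AlgSp.isLocallySurjective_of_etale_surjective φ
    (AlgSp.repWith_mono (fun g (hg : IsIso g) =>
      (IsZariskiLocalAtSource.of_isOpenImmersion g : Etale g)) h)
    (AlgSp.repWith_mono (fun g (hg : IsIso g) => (inferInstance : Surjective g)) h)
  exact isIso_of_mono_locallySurjective φ

theorem mono_iff_repWith_isomorphisms {F G : Sp S} (φ : F ⟶ G) :
    Mono φ ↔ RepWith (MorphismProperty.isomorphisms Scheme.{u}) (pullback.diagonal φ) := by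
  rw [← pullback.isIso_diagonal_iff]
  exact ⟨fun h => repWith_isomorphisms_of_isIso _, isIso_of_repWith_isomorphisms _⟩

/-- Monomorphisms descend along fpqc coverings. -/
theorem mono_of_fpqc (hY : IsAlgSpace Y) (hYi : ∀ i, IsAlgSpace (Yi i)) (hg : IsFpqcCover Yi g)
    (hX : IsAlgSpace X) (sq : ∀ i, IsPullback (q i) (p i) f (g i)) (hp : ∀ i, Mono (p i)) : Mono f :=
  (mono_iff_repWith_isomorphisms f).2
    (repWith_diagonal_of_fpqc hY hYi hg hX sq fun i => (mono_iff_repWith_isomorphisms (p i)).1 (hp i))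

theorem isEtaleMor_of_repWith {F G : Sp S} {φ : F ⟶ G} (h : RepWith @Etale φ) : IsEtaleMor φ :=
  fun _ _ ha => repWith_comp ha h

/-- Etale morphisms descend along fpqc coverings. -/
theorem isEtaleMor_of_fpqc (hY : IsAlgSpace Y) (hYi : ∀ i, IsAlgSpace (Yi i)) (hg : IsFpqcCover Yi g)
    (hX : IsAlgSpace X) (hXi : ∀ i, IsAlgSpace (Xi i)) (sq : ∀ i, IsPullback (q i) (p i) f (g i))
    (hp : ∀ i, IsEtaleMor (p i)) : IsEtaleMor f :=
  (isEtaleMor_iff_locP_etale hX hY).2
    (locP_of_fpqc etaleLocal_etale hYi hg hXi sq fun i => locP_etale_of_isEtaleMor (hp i))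

/-- Isomorphisms descend along fpqc coverings. -/
theorem isIso_of_fpqc (hY : IsAlgSpace Y) (hYi : ∀ i, IsAlgSpace (Yi i)) (hg : IsFpqcCover Yi g)
    (hX : IsAlgSpace X) (hXi : ∀ i, IsAlgSpace (Xi i)) (sq : ∀ i, IsPullback (q i) (p i) f (g i))
    (hp : ∀ i, IsIso (p i)) : IsIso f := by
  have := mono_of_fpqc hY hYi hg hX sq fun i => have := hp i; inferInstance
  refine isIso_of_mono_isEtaleMor hX f (isEtaleMor_of_fpqc hY hYi hg hX hXi sq fun i => ?_) ?_
  · have := hp i
    exact isEtaleMor_of_repWith (AlgSp.repWith_mono (fun φ (hφ : IsIso φ) =>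
      (IsZariskiLocalAtSource.of_isOpenImmersion φ : Etale φ)) (repWith_isomorphisms_of_isIso (p i)))
  · have hsub : IsUnivSubmersiveMor f := isUnivSubmersiveMor_of_fpqc hg sq fun i => by
      intro Z Z' _ z fst snd hZ
      have := hp i
      have := hZ.isIso_snd_of_isIso
      exact (Homeomorph.isQuotientMap
        { toFun := Points.map snd
          invFun := Points.map (inv snd)
          left_inv := fun x => by rw [← Points.map_comp, IsIso.hom_inv_id, Points.map_id]
          right_inv := fun x => by rw [← Points.map_comp, IsIso.inv_hom_id, Points.map_id]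
          continuous_toFun := Points.continuous_map snd
          continuous_invFun := Points.continuous_map (inv snd) } :)
    exact (hsub hY (𝟙 Y) (𝟙 X) f (IsPullback.of_id_fst ..)).surjective

/-- Open immersions descend along fpqc coverings. -/
theorem repWith_isOpenImmersion_of_fpqc (hY : IsAlgSpace Y) (hYi : ∀ i, IsAlgSpace (Yi i))
    (hg : IsFpqcCover Yi g) (hX : IsAlgSpace X) (hXi : ∀ i, IsAlgSpace (Xi i))
    (sq : ∀ i, IsPullback (q i) (p i) f (g i)) (hp : ∀ i, RepWith @IsOpenImmersion (p i)) :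
    RepWith @IsOpenImmersion f := by
  have := mono_of_fpqc hY hYi hg hX sq fun i =>
    AlgSp.mono_of_repWith (fun φ hφ => have : IsOpenImmersion φ := hφ; inferInstance) _ (hp i)
  exact repWith_isOpenImmersion_of_mono_isEtaleMor hX hY f (isEtaleMor_of_fpqc hY hYi hg hX hXi sq fun i =>
    isEtaleMor_of_repWith (AlgSp.repWith_mono (fun φ (hφ : IsOpenImmersion φ) =>
      (IsZariskiLocalAtSource.of_isOpenImmersion φ : Etale φ)) (hp i)))

end Groth.Agent.AlgSpCov
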