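import Groth.Agent.AlgSpCov.FpqcTop

/-!
# Descent of conjunctions
-/

universe u

open CategoryTheory AlgebraicGeometry

set_option backward.isDefEq.respectTransparency false

namespace Groth.Agent.AlgSpCov

/-- Conjunctions of descending properties descend. -/
theorem descendsAlong_inf (P Q : MorphismProperty Scheme.{u}) {D : MorphismProperty Scheme.{u}}
    [P.IsStableUnderBaseChange] [Q.IsStableUnderBaseChange] [P.DescendsAlong D] [Q.DescendsAlong D] :
    (P ⊓ Q).DescendsAlong D where
  of_isPullback h hf hq := ⟨MorphismProperty.of_isPullback_of_descendsAlong h hf hq.1,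
    MorphismProperty.of_isPullback_of_descendsAlong h hf hq.2⟩

end Groth.Agent.AlgSpCov
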