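import Groth.Agent.AlgSpCov.AffineDescent
import Groth.Agent.AlgSpCov.Inf
import Groth.Agent.FpqcDesc.Props
import Groth.Prelude.Def_AlgSpMor5
import Groth.Prelude.Def_AlgSpInf

/-!
# fpqc descent for classes of affine morphisms
-/

universe u

open CategoryTheory CategoryTheory.Limits AlgebraicGeometry Opposite

set_option backward.isDefEq.respectTransparency false

namespace Groth.Agent.AlgSpCov

open _root_.AlgSp

variable {S : Scheme.{u}} {P : MorphismProperty Scheme.{u}}

theorem isIntegralMor_iff {F G : Sp S} (a : F ⟶ G) : IsIntegralMor a ↔ RepWith @IsIntegralHom a := by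
  constructor
  · refine fun h => Groth.Agent.AlgSp.repWith_of_affine_baseChange a fun Z hZ g Q fst snd sq => ?_
    obtain ⟨W, i, fst', sW, hW, hi⟩ := h hZ g
    rw [← sq.isoIsPullback_hom_snd _ _ sW]
    exact (MorphismProperty.cancel_left_of_respectsIso _ _ _).2 ((repWith_yon_map_iff _ i).2 hi)
  · intro h Z hZ g
    have hi : IsIntegralHom (h.1.snd g).left := h.2 _ _ _ (h.1.isPullback g)
    exact ⟨_, _, _, h.1.isPullback g, isAffine_of_isAffineHom (h.1.snd g).left, hi⟩

theorem isFiniteMor_iff {F G : Sp S} (a : F ⟶ G) : IsFiniteMor a ↔ RepWith @IsFinite a := by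
  constructor
  · refine fun h => Groth.Agent.AlgSp.repWith_of_affine_baseChange a fun Z hZ g Q fst snd sq => ?_
    obtain ⟨W, i, fst', sW, hW, hi⟩ := h hZ g
    rw [← sq.isoIsPullback_hom_snd _ _ sW]
    exact (MorphismProperty.cancel_left_of_respectsIso _ _ _).2 ((repWith_yon_map_iff _ i).2 hi)
  · intro h Z hZ g
    have hi : IsFinite (h.1.snd g).left := h.2 _ _ _ (h.1.isPullback g)
    exact ⟨_, _, _, h.1.isPullback g, isAffine_of_isAffineHom (h.1.snd g).left, hi⟩

/-- A property of morphisms implying affine, which descends, is fpqc local on the base. -/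
theorem isLocalOnBase_repWith_of_affine [P.IsStableUnderBaseChange] [IsZariskiLocalAtTarget P]
    [P.DescendsAlong (@Surjective ⊓ @Flat ⊓ @QuasiCompact)]
    (hP : ∀ {X Y : Scheme.{u}} (f : X ⟶ Y), P f → IsAffineHom f) :
    IsLocalOnBase (IsFpqcCover (S := S)) (RepWith P) :=
  fun _ _ _ _ hY _ hg _ f hX _ _ _ _ sq => ⟨fun hf i => repWith_bc (sq i) hf, fun hp =>
    have haff : RepWith @IsAffineHom f := (Groth.Agent.AlgSp.isAffineMor_iff f).1
      (isAffineMor_of_fpqc hY hg hX sq fun i =>
        (Groth.Agent.AlgSp.isAffineMor_iff _).2 (Groth.Agent.AlgSp.repWith_mono hP (hp i)))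
    repWith_of_fpqc hg haff.1 sq hp⟩

theorem finLocFree_eq : (finLocFree : MorphismProperty Scheme.{u}) =
    (@IsFinite ⊓ (@Flat ⊓ @LocallyOfFinitePresentation) : MorphismProperty Scheme.{u}) := rfl

theorem descendsAlong_finLocFree :
    (finLocFree : MorphismProperty Scheme.{u}).DescendsAlong (@Surjective ⊓ @Flat ⊓ @QuasiCompact) := by
  have := FpqcDesc.descendsAlong_isFinite.{u}
  have : (@Flat ⊓ @LocallyOfFinitePresentation : MorphismProperty Scheme.{u}).DescendsAlong
      (@Surjective ⊓ @Flat ⊓ @QuasiCompact) := descendsAlong_inf _ _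
  exact descendsAlong_inf (D := @Surjective ⊓ @Flat ⊓ @QuasiCompact) @IsFinite
    (@Flat ⊓ @LocallyOfFinitePresentation)

theorem isZariskiLocalAtTarget_finLocFree : IsZariskiLocalAtTarget (finLocFree : MorphismProperty Scheme.{u}) := by
  rw [finLocFree_eq]; infer_instance

theorem descendsAlong_thick :
    (AlgSp.thick : MorphismProperty Scheme.{u}).DescendsAlong (@Surjective ⊓ @Flat ⊓ @QuasiCompact) := by
  have := FpqcDesc.descendsAlong_isClosedImmersion.{u}
  exact descendsAlong_inf (D := @Surjective ⊓ @Flat ⊓ @QuasiCompact) @IsClosedImmersion @Surjective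

theorem isZariskiLocalAtTarget_thick : IsZariskiLocalAtTarget (AlgSp.thick : MorphismProperty Scheme.{u}) :=
  inferInstanceAs (IsZariskiLocalAtTarget (@IsClosedImmersion ⊓ @Surjective : MorphismProperty Scheme.{u}))

end Groth.Agent.AlgSpCov
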