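import Groth.Agent.AlgSpCov.Covers
import Mathlib.CategoryTheory.Sites.EpiMono

/-!
# Etale monomorphisms of algebraic spaces
-/

universe u

open CategoryTheory CategoryTheory.Limits AlgebraicGeometry Opposite Topology

set_option backward.isDefEq.respectTransparency false

namespace Groth.Agent.AlgSpCov

open _root_.AlgSp

variable {S : Scheme.{u}}

/-- A monomorphism which is locally surjective is an isomorphism. -/
theorem isIso_of_mono_locallySurjective {F G : Sp S} (f : F ⟶ G) [Mono f] [Sheaf.IsLocallySurjective f] :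
    IsIso f := by
  have : Epi f := Sheaf.epi_of_isLocallySurjective f
  exact isIso_of_mono_of_epi f

/-- An etale surjective monomorphism out of an algebraic space is an isomorphism. -/
theorem isIso_of_mono_isEtaleMor {F G : Sp S} (hF : IsAlgSpace F) (f : F ⟶ G) [Mono f]
    (he : IsEtaleMor f) (hs : IsSurjectiveMor f) : IsIso f := by
  obtain ⟨U, a, ha, has⟩ := hF.atlas
  have hae : RepWith @Etale (a ≫ f) := he a ha
  have hsurj : RepWith @Surjective (a ≫ f) := (AlgSp.repWith_surjective_iff _ hae.1).2 (by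
    intro y
    obtain ⟨x, rfl⟩ := hs y
    obtain ⟨z, rfl⟩ := (AlgSp.repWith_surjective_iff a has.1).1 has x
    exact ⟨z, Points.map_comp _ _ _⟩)
  have := AlgSp.isLocallySurjective_of_etale_surjective _ hae hsurj
  have : Sheaf.IsLocallySurjective f := by
    change Presheaf.IsLocallySurjective _ f.hom
    have : Presheaf.IsLocallySurjective (AlgSp.J S) (a.hom ≫ f.hom) := this
    exact Presheaf.isLocallySurjective_of_isLocallySurjective (AlgSp.J S) a.hom f.hom
  exact isIso_of_mono_locallySurjective f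

/-- An etale monomorphism to a scheme is an open immersion of schemes. -/
theorem exists_opens_of_mono_isEtaleMor {F : Sp S} (hF : IsAlgSpace F) {V : Over S}
    (f : F ⟶ (yon S).obj V) [Mono f] (he : IsEtaleMor f) :
    ∃ (V₀ : Over S) (j : V₀ ⟶ V) (e : F ≅ (yon S).obj V₀),
      IsOpenImmersion j.left ∧ e.hom ≫ (yon S).map j = f := by
  have hopen := AlgSp.isUnivOpenMor_of_isEtaleMor hF he (IsAlgSpace.yon_obj V) (𝟙 _) (𝟙 F) f
    (IsPullback.of_id_fst ..)
  let O : V.left.Opens := ⟨Points.schemeHomeo V ⁻¹' Set.range (Points.map f),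
    hopen.isOpen_range.preimage (Points.schemeHomeo V).continuous⟩
  let V₀ : Over S := Over.mk (O.ι ≫ V.hom)
  let j : V₀ ⟶ V := Over.homMk O.ι rfl
  have sq := IsPullback.of_hasPullback f ((yon S).map j)
  have hj : RepWith @IsOpenImmersion ((yon S).map j) :=
    (repWith_yon_map_iff _ _).2 (inferInstanceAs (IsOpenImmersion O.ι))
  have h₁ : RepWith @IsOpenImmersion (pullback.fst f ((yon S).map j)) := repWith_bc sq.flip hj
  have h₁s : RepWith @Surjective (pullback.fst f ((yon S).map j)) := by
    rw [AlgSp.repWith_surjective_iff _ h₁.1]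
    intro x
    obtain ⟨t, ht⟩ := (Points.schemeHomeo V).surjective (Points.map f x)
    have htO : t ∈ O := ⟨x, ht.symm⟩
    obtain ⟨p, hp, -⟩ := AlgSpB.exists_of_isPullback sq x (Points.schemeHomeo V₀ ⟨t, htO⟩)
      (ht.symm.trans (Points.map_yon_map_apply j (⟨t, htO⟩ : ↥O)).symm)
    exact ⟨p, hp⟩
  have h₁m : Mono (pullback.fst f ((yon S).map j)) :=
    AlgSp.mono_of_repWith (P := @IsOpenImmersion) (fun g hg => have := hg; inferInstance) _ h₁
  have : Sheaf.IsLocallySurjective (pullback.fst f ((yon S).map j)) :=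
    AlgSp.isLocallySurjective_of_etale_surjective _
      (AlgSp.repWith_mono (fun g hg => (have : IsOpenImmersion g := hg; IsZariskiLocalAtSource.of_isOpenImmersion g : Etale g)) h₁) h₁s
  have := isIso_of_mono_locallySurjective (pullback.fst f ((yon S).map j))
  have hP : IsAlgSpace (pullback f ((yon S).map j)) :=
    hF.of_iso (asIso (pullback.fst f ((yon S).map j))).symm
  have he₂ : IsEtaleMor (pullback.snd f ((yon S).map j)) :=
    (isEtaleMor_iff_locP_etale hP (IsAlgSpace.yon_obj V₀)).2
      (locP_baseChange etaleLocal_etale hF (IsAlgSpace.yon_obj V) sq (locP_etale_of_isEtaleMor he))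
  have : Mono (pullback.snd f ((yon S).map j)) := inferInstance
  have hs₂ : IsSurjectiveMor (pullback.snd f ((yon S).map j)) := by
    intro y
    obtain ⟨t, rfl⟩ := (Points.schemeHomeo V₀).surjective y
    obtain ⟨x, hx⟩ := (show (t : ↥O).1 ∈ O from (t : ↥O).2)
    obtain ⟨p, -, hp⟩ := AlgSpB.exists_of_isPullback sq x (Points.schemeHomeo V₀ t)
      (hx.trans (Points.map_yon_map_apply j t).symm)
    exact ⟨p, hp⟩
  have := isIso_of_mono_isEtaleMor hP _ he₂ hs₂
  refine ⟨V₀, j, (asIso (pullback.fst f ((yon S).map j))).symm ≪≫ asIso (pullback.snd f _),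
    inferInstanceAs (IsOpenImmersion O.ι), ?_⟩
  simp only [Iso.trans_hom, Iso.symm_hom, asIso_inv, asIso_hom, Category.assoc]
  rw [IsIso.inv_comp_eq, sq.w]

/-- An etale monomorphism of algebraic spaces is an open immersion. -/
theorem repWith_isOpenImmersion_of_mono_isEtaleMor {F G : Sp S} (hF : IsAlgSpace F) (hG : IsAlgSpace G)
    (f : F ⟶ G) [Mono f] (he : IsEtaleMor f) : RepWith @IsOpenImmersion f := by
  have key : ∀ ⦃V : Over S⦄ (g : (yon S).obj V ⟶ G), ∃ (V₀ : Over S) (j : V₀ ⟶ V)
      (fst : (yon S).obj V₀ ⟶ F), IsPullback fst ((yon S).map j) f g ∧ IsOpenImmersion j.left := by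
    intro V g
    have sq := IsPullback.of_hasPullback f g
    have hP := AlgSp.isAlgSpace_pullback hG hF (IsAlgSpace.yon_obj V) f g
    obtain ⟨V₀, j, e, hj, hje⟩ := exists_opens_of_mono_isEtaleMor hP (pullback.snd f g)
      ((isEtaleMor_iff_locP_etale hP (IsAlgSpace.yon_obj V)).2
        (locP_baseChange etaleLocal_etale hF hG sq (locP_etale_of_isEtaleMor he)))
    exact ⟨V₀, j, e.inv ≫ pullback.fst f g,
      sq.of_iso e (Iso.refl _) (Iso.refl _) (Iso.refl _) (by simp) (by simp [hje]) (by simp) (by simp), hj⟩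
  have hrep : Representable f := fun V g => by
    obtain ⟨V₀, j, fst, h, -⟩ := key g
    exact ⟨V₀, j, fst, h⟩
  refine AlgSp.repWith_of_snd hrep fun V g => ?_
  obtain ⟨V₀, j, fst, h, hj⟩ := key g
  obtain ⟨e, he'⟩ := (yon S).map_surjective (h.isoIsPullback _ _ (hrep.isPullback g)).inv
  have : IsIso e := by
    have : IsIso ((yon S).map e) := he' ▸ Iso.isIso_inv _
    exact isIso_of_reflects_iso e (yon S)
  have hsnd : hrep.snd g = e ≫ j := (yon S).map_injective (by
    rw [Functor.map_comp, he', IsPullback.isoIsPullback_inv_snd])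
  rw [hsnd, Over.comp_left, MorphismProperty.cancel_left_of_respectsIso (P := @IsOpenImmersion)]
  exact hj

end Groth.Agent.AlgSpCov
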