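import Groth.Agent.AlgSpCov.EtaleMono
import Groth.Agent.AlgSpCov.Instances
import Groth.Agent.AlgSp.UnivInj
import Groth.Agent.AlgSpB.LqfSep
import Groth.Agent.S10262
import Groth.Agent.S10322
import Groth.Agent.S10621
import Mathlib.AlgebraicGeometry.Morphisms.Proper

/-!
# Unramified monomorphisms and closed immersions
-/

universe u

open CategoryTheory CategoryTheory.Limits AlgebraicGeometry Opposite

set_option backward.isDefEq.respectTransparency.types false

namespace Groth.Agent.AlgSpCov.UnramMono

open _root_.AlgSp Groth.Agent.AlgSp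

variable {S : Scheme.{u}}

/-- The diagonal of a monomorphism is representable by isomorphisms. -/
theorem repWith_diagonal_of_mono {P : MorphismProperty Scheme.{u}} (hP : ∀ {A B : Scheme.{u}} (g : A ⟶ B) [IsIso g], P g)
    {F G : Sp S} (f : F ⟶ G) [Mono f] : RepWith P (pullback.diagonal f) := by
  have hrep : Representable (pullback.diagonal f) := fun V g => by
    refine ⟨V, 𝟙 V, g ≫ inv (pullback.diagonal f), IsPullback.of_vert_isIso ⟨?_⟩⟩
    simp
  refine ⟨hrep, fun V W g fst snd sq => ?_⟩
  have : IsIso ((yon S).map snd) := sq.isIso_snd_of_isIso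
  have : IsIso snd := isIso_of_reflects_iso snd (yon S)
  exact hP _

theorem unramified_of_mono_lft {X Y : Space S} (f : X ⟶ Y) [Mono f.hom] (hft : LocP @LocallyOfFiniteType f.hom) :
    LocP (@LocallyOfFiniteType ⊓ @FormallyUnramified) f.hom :=
  (Groth.Agent.S10262.result f).2 hft
    (repWith_diagonal_of_mono (P := @IsOpenImmersion) (fun g _ => inferInstance) f.hom)

theorem isUnivInjectiveMor_of_mono {F G : Sp S} (f : F ⟶ G) [Mono f] : IsUnivInjectiveMor f :=
  isUnivInjectiveMor_of_surjective_diagonal f fun p =>
    ⟨Points.map (inv (pullback.diagonal f)) p, by rw [← Points.map_comp, IsIso.inv_hom_id, Points.map_id]⟩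

theorem mono_of_unramified_univInjective {X Y : Space S} (f : X ⟶ Y)
    (hu : LocP (@LocallyOfFiniteType ⊓ @FormallyUnramified) f.hom) (hi : IsUnivInjectiveMor f.hom) :
    Mono f.hom := by
  have hd := (Groth.Agent.S10262.result f).1 hu
  have hs : IsSurjectiveMor (pullback.diagonal f.hom) :=
    surjective_diagonal_of_fieldInj f.hom (fieldInj_of_isUnivInjectiveMor X.property f.hom hi)
  have he : RepWith @Etale (pullback.diagonal f.hom) :=
    AlgSp.repWith_mono (fun g hg => (have : IsOpenImmersion g := hg; (inferInstance : Etale g))) hd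
  have := AlgSp.isLocallySurjective_of_etale_surjective _ he ((AlgSp.repWith_surjective_iff _ he.1).2 hs)
  have := Groth.Agent.AlgSpCov.isIso_of_mono_locallySurjective (pullback.diagonal f.hom)
  exact (pullback.isIso_diagonal_iff f.hom).1 this

theorem isSeparatedMor_of_mono {F G : Sp S} (f : F ⟶ G) [Mono f] : IsSeparatedMor f :=
  repWith_diagonal_of_mono (P := @IsClosedImmersion) (fun g _ => inferInstance) f

theorem lqf_of_mono_lft {X Y : Space S} (f : X ⟶ Y) [Mono f.hom] (hft : LocP @LocallyOfFiniteType f.hom) :
    LocP (@LocallyQuasiFinite ⊓ @LocallyOfFiniteType) f.hom :=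
  (Groth.Agent.S10322.result f).2 (unramified_of_mono_lft f hft)

theorem representable_of_mono_lft {X Y : Space S} (f : X ⟶ Y) [Mono f.hom]
    (hft : LocP @LocallyOfFiniteType f.hom) : Representable f.hom :=
  Groth.Agent.AlgSpB.representable_of_lqf_sep X.property Y.property f.hom (lqf_of_mono_lft f hft)
    (isSeparatedMor_of_mono f.hom)

/-- A universally closed monomorphism locally of finite type is a closed immersion. -/
theorem repWith_isClosedImmersion {X Y : Space S} (f : X ⟶ Y) [Mono f.hom]
    (hft : LocP @LocallyOfFiniteType f.hom) (hc : IsUnivClosedMor f.hom) :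
    RepWith @IsClosedImmersion f.hom := by
  have hrep := representable_of_mono_lft f hft
  refine ⟨hrep, fun V W g fst snd sq => ?_⟩
  have : UniversallyClosed snd.left :=
    ((repWith_universallyClosed_iff f.hom hrep).2 hc).2 g fst snd sq
  have : Mono ((yon S).map snd) :=
    (MorphismProperty.monomorphisms (Sp S)).of_isPullback sq (MorphismProperty.monomorphisms.infer_property f.hom)
  have : Mono snd := (yon S).mono_of_mono_map this
  have : LocallyOfFiniteType snd.left :=
    (locP_baseChange etaleLocal_locallyOfFiniteType X.property Y.property sq hft) (𝟙 _) (𝟙 _) snd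
      (AlgSp.repWith_id _ W) (AlgSp.repWith_id _ V) (by simp)
  have : Mono snd.left := inferInstance
  have : IsSeparated snd.left := inferInstance
  exact (IsClosedImmersion.iff_isProper_and_mono snd.left).2 ⟨{ }, inferInstance⟩

end Groth.Agent.AlgSpCov.UnramMono
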