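import Groth.Agent.AlgSpCov.FpqcTop
import Groth.Agent.AlgSp.Space
import Mathlib.AlgebraicGeometry.Morphisms.UniversallyOpen

/-!
# fppf and fpqc coverings of algebraic spaces
-/

universe u

open CategoryTheory CategoryTheory.Limits AlgebraicGeometry Opposite Topology

set_option backward.isDefEq.respectTransparency false

namespace Groth.Agent.AlgSpCov

open _root_.AlgSp

variable {S : Scheme.{u}}

/-- Pulling back an fppf covering to a scheme: flat lfp affine members, jointly surjective, lifting. -/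
theorem exists_fppf_refinement {ι : Type u} {X : Sp S} (hX : IsAlgSpace X) {Xi : ι → Sp S}
    {g : ∀ i, Xi i ⟶ X} (hXi : ∀ i, IsAlgSpace (Xi i)) (h : IsFppfCover Xi g) (T : Over S)
    (t : (yon S).obj T ⟶ X) :
    ∃ (κ : Type u) (Tk : κ → Over S) (c : ∀ k, Tk k ⟶ T), (∀ k, IsAffine (Tk k).left) ∧
      (∀ k, Flat (c k).left) ∧ (∀ k, LocallyOfFinitePresentation (c k).left) ∧
      (∀ x : ↥T.left, ∃ k, x ∈ Set.range (c k).left) ∧
      ∀ k, ∃ (i : ι) (l : (yon S).obj (Tk k) ⟶ Xi i), l ≫ g i = (yon S).map (c k) ≫ t := by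
  have hQ := fun i => IsPullback.of_hasPullback (g i) t
  choose U a ha has using fun i =>
    (AlgSp.isAlgSpace_pullback hX (hXi i) (IsAlgSpace.yon_obj T) (g i) t).atlas
  choose α hα using fun i => (yon S).map_surjective (a i ≫ pullback.snd (g i) t)
  have hP : ∀ i, Flat (α i).left ∧ LocallyOfFinitePresentation (α i).left := fun i =>
    ⟨chart_of_locP etaleLocal_flat (hXi i) hX (h.1 i).1 t (hQ i) (ha i) (α i) (hα i).symm,
      chart_of_locP etaleLocal_locallyOfFinitePresentation (hXi i) hX (h.1 i).2 t (hQ i) (ha i) (α i)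
        (hα i).symm⟩
  let Tk : (Σ i, (U i).left.affineCover.I₀) → Over S := fun k =>
    Over.mk ((U k.1).left.affineCover.f k.2 ≫ (U k.1).hom)
  let e : ∀ k, Tk k ⟶ U k.1 := fun k => Over.homMk ((U k.1).left.affineCover.f k.2) rfl
  refine ⟨_, Tk, fun k => e k ≫ α k.1, fun k => inferInstanceAs (IsAffine ((U k.1).left.affineCover.X k.2)),
    fun k => IsZariskiLocalAtSource.comp (hP k.1).1 ((U k.1).left.affineCover.f k.2),
    fun k => IsZariskiLocalAtSource.comp (hP k.1).2 ((U k.1).left.affineCover.f k.2),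
    fun x => ?_, fun k => ⟨k.1, (yon S).map (e k) ≫ a k.1 ≫ pullback.fst (g k.1) t, ?_⟩⟩
  · obtain ⟨i, z, hz⟩ := h.2 (Points.ofPt t x)
    obtain ⟨p, -, hp⟩ := AlgSpB.exists_of_isPullback (hQ i) z (Points.ofScheme T x)
      (hz.trans (Points.ofPt_eq_map_ofScheme t x))
    obtain ⟨y, hy⟩ := AlgSpB.surjective_ofPt (has i) p
    obtain ⟨k, w, hw⟩ : ∃ k w, (U i).left.affineCover.f k w = y :=
      ⟨_, (U i).left.affineCover.covers y⟩
    refine ⟨⟨i, k⟩, w, (Points.schemeHomeo T).injective ?_⟩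
    change _ = Points.ofScheme T x
    rw [← hp, ← hy, Points.map_ofPt, ← hα i]
    have h1 := Points.map_yon_map_apply (α i) ((e ⟨i, k⟩).left w)
    rw [← hw]
    refine Eq.trans ?_ (h1.symm.trans (Points.ofPt_eq_map_ofScheme ((yon S).map (α i)) _).symm)
    rfl
  · rw [Category.assoc, Category.assoc, (hQ k.1).w, ← Category.assoc (a k.1), ← hα, ← Category.assoc,
      ← Functor.map_comp]

/-- An fppf covering is an fpqc covering. -/
theorem isFpqcCover_of_isFppfCover {ι : Type u} {X : Sp S} (hX : IsAlgSpace X) {Xi : ι → Sp S}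
    {g : ∀ i, Xi i ⟶ X} (hXi : ∀ i, IsAlgSpace (Xi i)) (h : IsFppfCover Xi g) : IsFpqcCover Xi g := by
  refine ⟨fun i => (h.1 i).1, fun Z hZ z => ?_⟩
  obtain ⟨κ, Tk, c, hT, hf, hp, hs, hl⟩ := exists_fppf_refinement hX hXi h Z z
  obtain ⟨s, hs'⟩ := isCompact_univ.elim_finite_subcover (fun k => Set.range (c k).left)
    (fun k => by
      have := hf k
      have := hp k
      exact (c k).left.isOpenMap.isOpen_range)
    (fun x _ => Set.mem_iUnion.2 (hs x))
  refine ⟨s.card, fun j => Tk (s.equivFin.symm j).1, fun j => c (s.equivFin.symm j).1, fun j => hT _,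
    fun j => hf _, fun x => ?_, fun j => hl _⟩
  obtain ⟨k, hk, hx⟩ := Set.mem_iUnion₂.1 (hs' (Set.mem_univ x))
  have key : ∀ k', k' = k → x ∈ Set.range (c k').left := by rintro _ rfl; exact hx
  exact ⟨s.equivFin ⟨k, hk⟩, key _ (congrArg Subtype.val (Equiv.symm_apply_apply _ _))⟩

/-- Base change of an fpqc covering. -/
theorem isFpqcCover_baseChange {ι : Type u} {X X' : Sp S} (hX : IsAlgSpace X) {Xi Xi' : ι → Sp S}
    {g : ∀ i, Xi i ⟶ X} (hXi : ∀ i, IsAlgSpace (Xi i)) {a : X' ⟶ X} {q : ∀ i, Xi' i ⟶ X'}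
    {p : ∀ i, Xi' i ⟶ Xi i} (sq : ∀ i, IsPullback (q i) (p i) a (g i)) (h : IsFpqcCover Xi g) :
    IsFpqcCover Xi' q := by
  refine ⟨fun i => locP_baseChange etaleLocal_flat (hXi i) hX (sq i).flip (h.1 i), fun Z hZ z => ?_⟩
  obtain ⟨n, W, c, hW, hc, hs, hl⟩ := h.2 Z hZ (z ≫ a)
  refine ⟨n, W, c, hW, hc, hs, fun j => ?_⟩
  obtain ⟨i, l, hli⟩ := hl j
  obtain ⟨l', hl', -⟩ := (sq i).exists_lift ((yon S).map (c j) ≫ z) l (by rw [Category.assoc, hli])
  exact ⟨i, l', hl'⟩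

/-- Composition of fpqc coverings. -/
theorem isFpqcCover_comp {ι : Type u} {X : Sp S} (hX : IsAlgSpace X) {Xi : ι → Sp S} {g : ∀ i, Xi i ⟶ X}
    (hXi : ∀ i, IsAlgSpace (Xi i)) {κ : ι → Type u} {Xij : ∀ i, κ i → Sp S}
    {gij : ∀ i j, Xij i j ⟶ Xi i} (h : IsFpqcCover Xi g) (hij : ∀ i, IsFpqcCover (Xij i) (gij i)) :
    IsFpqcCover (fun r : Σ i, κ i => Xij r.1 r.2) (fun r => gij r.1 r.2 ≫ g r.1) := by
  refine ⟨fun r => locP_comp etaleLocal_flat (hXi r.1) hX ((hij r.1).1 r.2) (h.1 r.1), fun Z hZ z => ?_⟩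
  obtain ⟨n, W, c, hW, hc, hs, hl⟩ := h.2 Z hZ z
  choose i l hli using hl
  choose m V d hV hd hds hdl using fun j => (hij (i j)).2 (W j) (hW j) (l j)
  let e := (Fintype.equivFin (Σ j, Fin (m j))).symm
  refine ⟨_, fun r => V (e r).1 (e r).2, fun r => d (e r).1 (e r).2 ≫ c (e r).1, fun r => hV _ _,
    fun r => ?_, fun x => ?_, fun r => ?_⟩
  · have := hd (e r).1 (e r).2
    have := hc (e r).1
    exact inferInstanceAs (Flat ((d (e r).1 (e r).2).left ≫ (c (e r).1).left))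
  · obtain ⟨j, w, rfl⟩ := hs x
    obtain ⟨k, v, rfl⟩ := hds j w
    obtain ⟨r, hr⟩ := e.surjective ⟨j, k⟩
    refine ⟨r, ?_⟩
    have key : ∀ a, a = (⟨j, k⟩ : Σ j, Fin (m j)) →
        (c j).left ((d j k).left v) ∈ Set.range (d a.1 a.2 ≫ c a.1).left := by
      rintro _ rfl
      exact ⟨v, Scheme.Hom.comp_apply _ _ v⟩
    exact key _ hr
  · obtain ⟨k, l', hl'⟩ := hdl (e r).1 (e r).2
    refine ⟨⟨i (e r).1, k⟩, l', ?_⟩
    rw [← Category.assoc, hl', Category.assoc, hli, ← Category.assoc, ← Functor.map_comp]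

/-- A single etale surjection from a scheme is an fppf covering. -/
theorem isFppfCover_atlas {X : Sp S} {U : Over S} {p : (yon S).obj U ⟶ X} (hp : RepWith @Etale p)
    (hps : RepWith @Surjective p) :
    IsFppfCover (fun _ : PUnit.{u + 1} => (yon S).obj U) (fun _ => p) := by
  refine ⟨fun _ => ⟨locP_of_repWith etaleLocal_flat ⟨hp.1, fun _ _ g fst snd hT => ?_⟩,
    locP_of_repWith etaleLocal_locallyOfFinitePresentation ⟨hp.1, fun _ _ g fst snd hT => ?_⟩⟩,
    fun x => ⟨⟨⟩, (AlgSp.repWith_surjective_iff p hp.1).1 hps x⟩⟩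
  · have : Etale snd.left := hp.2 g fst snd hT
    exact inferInstanceAs (Flat snd.left)
  · have : Etale snd.left := hp.2 g fst snd hT
    exact inferInstanceAs (LocallyOfFinitePresentation snd.left)

/-- Being an fpqc covering can be checked after pulling back to an atlas. -/
theorem isFpqcCover_iff_atlas {ι : Type u} {X : Sp S} (hX : IsAlgSpace X) {Xi : ι → Sp S}
    {g : ∀ i, Xi i ⟶ X} (hXi : ∀ i, IsAlgSpace (Xi i)) {U : Over S} {p : (yon S).obj U ⟶ X}
    (hp : RepWith @Etale p) (hps : RepWith @Surjective p) {Ui : ι → Sp S} (hUi : ∀ i, IsAlgSpace (Ui i))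
    {q : ∀ i, Ui i ⟶ (yon S).obj U} {p' : ∀ i, Ui i ⟶ Xi i} (sq : ∀ i, IsPullback (q i) (p' i) p (g i)) :
    IsFpqcCover Xi g ↔ IsFpqcCover Ui q := by
  refine ⟨fun h => isFpqcCover_baseChange hX hXi sq h, fun h => ?_⟩
  have hcov : IsFpqcCover (fun _ : PUnit.{u + 1} => (yon S).obj U) (fun _ => p) :=
    isFpqcCover_of_isFppfCover hX (fun _ => IsAlgSpace.yon_obj U) (isFppfCover_atlas hp hps)
  refine ⟨fun i => locP_of_fpqc etaleLocal_flat (fun _ => IsAlgSpace.yon_obj U) hcov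
    (fun _ => hUi i) (fun _ => (sq i).flip) (fun _ => h.1 i), fun Z hZ z => ?_⟩
  have hc := (isFpqcCover_comp (κ := fun _ : PUnit.{u + 1} => ι) hX (fun _ => IsAlgSpace.yon_obj U) hcov
    (fun _ => h)).2 Z hZ z
  obtain ⟨n, W, c, hW, hc, hs, hl⟩ := hc
  refine ⟨n, W, c, hW, hc, hs, fun j => ?_⟩
  obtain ⟨r, l, hl⟩ := hl j
  exact ⟨r.2, l ≫ p' r.2, by rw [Category.assoc, ← (sq r.2).w]; exact hl⟩

end Groth.Agent.AlgSpCov
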