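import Groth.Agent.AlgSpCov.AffineFamily
import Groth.Agent.AlgSpCov.Covers

/-!
# Representable properties satisfying descent are fppf local on the base
-/

universe u

open CategoryTheory CategoryTheory.Limits AlgebraicGeometry Opposite

set_option backward.isDefEq.respectTransparency false

namespace Groth.Agent.AlgSpCov

open _root_.AlgSp

variable {S : Scheme.{u}} {P : MorphismProperty Scheme.{u}} [P.IsStableUnderBaseChange] [IsZariskiLocalAtTarget P]

theorem disjoint_range_sigmaι {κ : Type u} (Y : κ → Scheme.{u}) {j k : κ} (h : j ≠ k) :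
    Disjoint (Set.range (Sigma.ι Y j)) (Set.range (Sigma.ι Y k)) :=
  Set.disjoint_left.2 fun x ⟨r₁, h₁⟩ ⟨r₂, h₂⟩ => by
    obtain ⟨r, -, -⟩ := Scheme.exists_preimage_of_isPullback (IsPullback.of_hasPullback (Sigma.ι Y j) (Sigma.ι Y k))
      r₁ r₂ (h₁.trans h₂.symm)
    exact (isEmpty_pullback_sigmaι_of_ne Y h).elim r

/-- A map to a disjoint union of schemes which has `P` over every piece has `P`. -/
theorem repWith_of_sigma {κ : Type u} {V : Over S} {Wc : κ → Over S} (e : ∀ j, Wc j ⟶ V)
    (he : ∀ j, IsOpenImmersion (e j).left) (hcov : ∀ v : V.left, ∃ j, v ∈ Set.range (e j).left)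
    (hdisj : ∀ j k, j ≠ k → Disjoint (Set.range (e j).left) (Set.range (e k).left))
    {F : Sp S} (a : F ⟶ (yon S).obj V) (Fc : κ → Sp S) (π : ∀ j, Fc j ⟶ F)
    (w : ∀ j, Fc j ⟶ (yon S).obj (Wc j)) (sq : ∀ j, IsPullback (π j) (w j) a ((yon S).map (e j)))
    (hw : ∀ j, RepWith P (w j)) : RepWith P a := by
  have key : ∀ j, ∃ (Xc : Over S) (w' : Xc ⟶ Wc j) (π' : (yon S).obj Xc ⟶ F),
      IsPullback π' ((yon S).map w') a ((yon S).map (e j)) ∧ P w'.left := by
    intro j
    obtain ⟨Xc, w', fst, h⟩ := (hw j).1 (𝟙 _)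
    exact ⟨Xc, w', fst ≫ π j, by simpa using h.paste_horiz (sq j), (hw j).2 _ _ _ h⟩
  choose Xc w' π' hsq hP using key
  obtain ⟨X, v, Φ, -, -, sV⟩ := exists_iso_of_sigma e he hcov hdisj a Xc w' π' hsq
  have : IsIso Φ := sV.isIso_fst_of_isIso
  rw [← MorphismProperty.cancel_left_of_respectsIso (RepWith P) Φ a, sV.w, Category.comp_id, repWith_yon_map_iff]
  let 𝒰 : V.left.OpenCover := .mkOfCovers κ (fun j => (Wc j).left) (fun j => (e j).left) hcov he
  refine (IsZariskiLocalAtTarget.iff_of_openCover (P := P) 𝒰).2 fun j => ?_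
  change P (pullback.snd v.left (e j).left)
  suffices P (pullback.snd v (e j)).left by
    have h1 := isPullback_over_left (IsPullback.of_hasPullback v (e j))
    rwa [← h1.isoPullback_hom_snd, P.cancel_left_of_respectsIso] at this
  have h2 := (IsPullback.of_hasPullback v (e j)).map (yon S) |>.paste_horiz sV
  rw [Category.comp_id] at h2
  rw [← repWith_yon_map_iff (P := P), ← h2.isoIsPullback_hom_snd _ _ (hsq j),
    MorphismProperty.cancel_left_of_respectsIso (RepWith P), repWith_yon_map_iff]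
  exact hP j

/-- Properties which descend along locally surjective base changes are fppf local on the base. -/
theorem isLocalOnBase_fppf_repWith
    (hdesc : ∀ {F G H Q : Sp S} (a : F ⟶ G) (b : H ⟶ G) [Sheaf.IsLocallySurjective b] {b' : Q ⟶ F} {a' : Q ⟶ H},
      IsPullback b' a' a b → RepWith P a' → RepWith P a) :
    IsLocalOnBase (IsFppfCover (S := S)) (RepWith P) := by
  intro ι Y Yi g hY hYi hg X f hX Xi p q hXi sq
  refine ⟨fun hf i => repWith_bc (sq i) hf, fun hp => Groth.Agent.AlgSp.repWith_of_affine_baseChange f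
    fun Z hZ z F fst snd sF => ?_⟩
  obtain ⟨κ, Tk, c, hT, hf, hl, hs, hlift⟩ := exists_fppf_refinement hY hYi hg Z z
  let Y₀ : κ → Scheme.{u} := fun k => (Tk k).left
  let d : (∐ Y₀) ⟶ Z.left := Sigma.desc fun k => (c k).left
  have hd : ∀ k, Sigma.ι Y₀ k ≫ d = (c k).left := fun k => Sigma.ι_desc _ _
  let V : Over S := Over.mk (d ≫ Z.hom)
  let cV : V ⟶ Z := Over.homMk d rfl
  let e : ∀ k, Tk k ⟶ V := fun k => Over.homMk (Sigma.ι Y₀ k) (by
    change Sigma.ι Y₀ k ≫ d ≫ Z.hom = _
    rw [reassoc_of% (hd k), Over.w])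
  have hec : ∀ k, e k ≫ cV = c k := fun k => Over.OverMorphism.ext (hd k)
  have : Surjective cV.left := ⟨fun x => by
    obtain ⟨k, r, rfl⟩ := hs x
    exact ⟨Sigma.ι Y₀ k r, by change d _ = _; rw [← Scheme.Hom.comp_apply, hd]⟩⟩
  have : Flat cV.left := IsZariskiLocalAtSource.sigmaDesc hf
  have : LocallyOfFinitePresentation cV.left := IsZariskiLocalAtSource.sigmaDesc hl
  have := Groth.Agent.AlgSp.isLocallySurjective_of_repWith ((yon S).map cV)
    ((repWith_yon_map_iff _ cV).2 inferInstance) ((repWith_yon_map_iff _ cV).2 inferInstance)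
    ((repWith_yon_map_iff _ cV).2 inferInstance)
  have s2 := IsPullback.of_hasPullback snd ((yon S).map cV)
  refine hdesc snd ((yon S).map cV) s2 (repWith_of_sigma e (fun k => (sigmaOpenCover Y₀).map_prop k)
    (fun x => ⟨_, (sigmaOpenCover Y₀).covers x⟩) (fun j k h => disjoint_range_sigmaι Y₀ h) _
    (fun k => pullback (pullback.snd snd ((yon S).map cV)) ((yon S).map (e k))) (fun k => pullback.fst _ _)
    (fun k => pullback.snd _ _) (fun k => IsPullback.of_hasPullback _ _) fun k => ?_)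
  obtain ⟨i, l, hli⟩ := hlift k
  have big := (IsPullback.of_hasPullback (pullback.snd snd ((yon S).map cV)) ((yon S).map (e k))).paste_horiz
    (s2.paste_horiz sF)
  rw [← Category.assoc ((yon S).map (e k)), ← Functor.map_comp, hec, ← hli] at big
  obtain ⟨r, hr₁, hr₂⟩ := (sq i).exists_lift _ _ (big.w.trans (Category.assoc _ _ _).symm)
  exact repWith_bc (IsPullback.of_right (by rw [hr₁]; exact big) hr₂ (sq i)) (hp i)

end Groth.Agent.AlgSpCov
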