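import Groth.Agent.AlgSpCov.Sheaf
import Groth.Agent.AlgSpCov.SchemeDescent

/-!
# Properties of morphisms that are etale local on source and target, on generalised charts
-/

universe u

open CategoryTheory CategoryTheory.Limits AlgebraicGeometry Opposite

set_option backward.isDefEq.respectTransparency false

namespace Groth.Agent.AlgSpCov

open AlgSp

/-- The three facts about a property of morphisms of schemes which make `AlgSp.LocP` behave. -/
structure EtaleLocal (P : MorphismProperty Scheme.{u}) : Prop where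
  precomp : ∀ ⦃X Y Z : Scheme.{u}⦄ (e : X ⟶ Y) (h : Y ⟶ Z), Etale e → P h → P (e ≫ h)
  ofPrecomp : ∀ ⦃X Y Z : Scheme.{u}⦄ (e : X ⟶ Y) (h : Y ⟶ Z), Etale e → Surjective e →
    P (e ≫ h) → P h
  descend : ∀ ⦃U' U W' W : Scheme.{u}⦄ (h' : U' ⟶ W') (eU : U' ⟶ U) (c : W' ⟶ W) (h : U ⟶ W),
    IsPullback h' eU c h → Etale c → Surjective c → P h' → P h

variable {S : Scheme.{u}} {P : MorphismProperty Scheme.{u}}

/-- If `f` has `P` on one atlas diagram, it has `P` on every generalised chart: for every `g : h_W ⟶ G` and every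
etale chart `m : h_U ⟶ F ×_G h_W`, the composite `U ⟶ W` has `P`. -/
theorem chart_of_atlas [P.IsStableUnderBaseChange] (hP : EtaleLocal P) {F G : Sp S} (f : F ⟶ G)
    (hG : Representable (Limits.diag G))
    {U₀ V R₀ : Over S} {a₀ : (yon S).obj U₀ ⟶ F} {b : (yon S).obj V ⟶ G}
    (ha : RepWith @Etale a₀) (has : RepWith @Surjective a₀)
    (hb : RepWith @Etale b) (hbs : RepWith @Surjective b)
    {s₀ : R₀ ⟶ U₀} {t : R₀ ⟶ V} (hR₀ : IsPullback ((yon S).map s₀) ((yon S).map t) (a₀ ≫ f) b)
    (ht : P t.left)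
    {W : Over S} (g : (yon S).obj W ⟶ G) {Q : Sp S} {fst : Q ⟶ F} {snd : Q ⟶ (yon S).obj W}
    (hQ : IsPullback fst snd f g) {U : Over S} {m : (yon S).obj U ⟶ Q} (hm : RepWith @Etale m)
    (h : U ⟶ W) (w : m ≫ snd = (yon S).map h) : P h.left := by
  have hrep : ∀ {T : Over S} (x : (yon S).obj T ⟶ G), Representable x :=
    fun x => Functor.relativelyRepresentable.of_diag hG x
  -- refine the base by the atlas of `G`
  obtain ⟨W', c, d, hW'⟩ := exists_pullback (hrep g) b
  have hc : Etale c.left := hb.2 g _ c hW'.flip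
  have hcs : Surjective c.left := hbs.2 g _ c hW'.flip
  have hQc := IsPullback.of_hasPullback snd ((yon S).map c)
  set q₁ := pullback.fst snd ((yon S).map c)
  set q₂ := pullback.snd snd ((yon S).map c)
  have hQ' : IsPullback (q₁ ≫ fst) q₂ f ((yon S).map c ≫ g) := hQc.paste_horiz hQ
  -- pull back the chart
  have hU' := IsPullback.of_hasPullback h c
  set eU := pullback.fst h c
  set h' := pullback.snd h c
  let m' := hQc.lift ((yon S).map eU ≫ m) ((yon S).map h')
    (by rw [Category.assoc, w, ← Functor.map_comp, ← Functor.map_comp, hU'.w])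
  have hUy : IsPullback ((yon S).map eU) ((yon S).map h') (m ≫ snd) ((yon S).map c) := by
    rw [w]; exact hU'.map (yon S)
  have hm'sq : IsPullback ((yon S).map eU) m' m q₁ := by
    refine IsPullback.of_bot ?_ (by simp [m']) hQc
    simpa [m'] using hUy
  have hm' : RepWith @Etale m' := repWith_bc hm'sq hm
  -- the atlas over the refined base
  obtain ⟨R, r₁, r₂, hR⟩ := exists_pullback (hrep (a₀ ≫ f)) ((yon S).map c ≫ g)
  let k := hQ'.lift ((yon S).map r₁ ≫ a₀) ((yon S).map r₂) (by simpa using hR.w)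
  have hk : IsPullback ((yon S).map r₁) k a₀ (q₁ ≫ fst) := by
    refine IsPullback.of_bot ?_ (by simp [k]) hQ'
    simpa [k] using hR
  have hke : RepWith @Etale k := repWith_bc hk ha
  have hks : RepWith @Surjective k := repWith_bc hk has
  have hr₂ : P r₂.left := by
    have hw : ((yon S).map r₁) ≫ (a₀ ≫ f) = ((yon S).map r₂ ≫ (yon S).map d) ≫ b := by
      rw [hR.w, Category.assoc, hW'.w]
    obtain ⟨l, hl⟩ := (yon S).map_surjective (hR₀.lift _ _ hw)
    have hsq : IsPullback ((yon S).map l) ((yon S).map r₂) ((yon S).map t) ((yon S).map d) := by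
      refine IsPullback.of_right ?_ (by rw [hl, hR₀.lift_snd]) hR₀
      rw [hl, hR₀.lift_fst, ← hW'.w]
      exact hR
    exact P.of_isPullback (isPullback_left hsq) ht
  -- compare the two
  obtain ⟨R₁, e, e', hR₁⟩ := exists_pullback hke.1 m'
  have he : Etale e.left := hm'.2 k _ e hR₁.flip
  have he' : Etale e'.left := hke.2 m' _ e' hR₁
  have hes' : Surjective e'.left := hks.2 m' _ e' hR₁
  have hee : e ≫ r₂ = e' ≫ h' := (yon S).map_injective (by
    rw [Functor.map_comp, Functor.map_comp, show (yon S).map r₂ = k ≫ q₂ by simp [k],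
      show (yon S).map h' = m' ≫ q₂ by simp [m'], hR₁.w_assoc])
  refine hP.descend h'.left eU.left c.left h.left (hU'.map (Over.forget S)).flip hc hcs ?_
  refine hP.ofPrecomp e'.left h'.left he' hes' ?_
  rw [← Over.comp_left, ← hee, Over.comp_left]
  exact hP.precomp _ _ he hr₂

/-- A morphism of algebraic spaces with `P` etale locally has `P` on every generalised chart. -/
theorem chart_of_locP [P.IsStableUnderBaseChange] (hP : EtaleLocal P) {F G : Sp S} {f : F ⟶ G}
    (hF : IsAlgSpace F) (hG : IsAlgSpace G) (hf : LocP P f)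
    {W : Over S} (g : (yon S).obj W ⟶ G) {Q : Sp S} {fst : Q ⟶ F} {snd : Q ⟶ (yon S).obj W}
    (hQ : IsPullback fst snd f g) {U : Over S} {m : (yon S).obj U ⟶ Q} (hm : RepWith @Etale m)
    (h : U ⟶ W) (w : m ≫ snd = (yon S).map h) : P h.left := by
  obtain ⟨U₀, a₀, ha, has⟩ := hF.atlas
  obtain ⟨V, b, hb, hbs⟩ := hG.atlas
  obtain ⟨R₀, s₀, t, hR₀⟩ := exists_pullback (hG.representable_from_yon (a₀ ≫ f)) b
  have hs₀ : Etale s₀.left := hb.2 _ _ s₀ hR₀.flip
  have ht : P t.left := hf ((yon S).map s₀ ≫ a₀) b t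
    (repWith_comp ((repWith_yon_map_iff _ _).2 hs₀) ha) hb (by rw [Category.assoc, hR₀.w])
  exact chart_of_atlas hP f hG.diag ha has hb hbs hR₀ ht g hQ hm h w

/-- The comparison map of a chart diagram to the base change of `f` to the target chart is etale. -/
theorem etale_toPullback {F G : Sp S} {f : F ⟶ G} {U V : Over S} {a : (yon S).obj U ⟶ F}
    {b : (yon S).obj V ⟶ G} {h : U ⟶ V} (ha : RepWith @Etale a) (hb : RepWith @Etale b)
    (w : a ≫ f = (yon S).map h ≫ b) {Q : Sp S} {fst : Q ⟶ F} {snd : Q ⟶ (yon S).obj V}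
    (hQ : IsPullback fst snd f b) :
    ∃ m : (yon S).obj U ⟶ Q, RepWith @Etale m ∧ m ≫ fst = a ∧ m ≫ snd = (yon S).map h := by
  refine ⟨hQ.lift a _ w, repWith_etale_cancel _ fst (repWith_bc hQ.flip hb) ?_, hQ.lift_fst .., hQ.lift_snd ..⟩
  rwa [hQ.lift_fst]

/-- `AlgSp.LocP P` is stable under base change. -/
theorem locP_baseChange [P.IsStableUnderBaseChange] (hP : EtaleLocal P) {F G F' G' : Sp S}
    {f : F ⟶ G} {g : G' ⟶ G} {f' : F' ⟶ G'} {g' : F' ⟶ F} (hF : IsAlgSpace F) (hG : IsAlgSpace G)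
    (sq : IsPullback g' f' f g) (hf : LocP P f) : LocP P f' := by
  intro U V a b h ha hb w
  have hQ := IsPullback.of_hasPullback f' b
  obtain ⟨m, hm, -, hm2⟩ := etale_toPullback ha hb w hQ
  exact chart_of_locP hP hF hG hf (b ≫ g) (hQ.paste_horiz sq) hm h hm2

end Groth.Agent.AlgSpCov
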