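import Groth.Agent.AlgSpCov.Covers
import Groth.Agent.AlgSp.LocPFin
import Groth.Agent.AlgSpB.Points

/-!
# Openness is fppf local on the source
-/

universe u

open CategoryTheory CategoryTheory.Limits AlgebraicGeometry Opposite

set_option backward.isDefEq.respectTransparency false

namespace Groth.Agent.AlgSpCov

open _root_.AlgSp

variable {S : Scheme.{u}}

theorem isOpenMap_of_isUnivOpenMor {X Y : Sp S} (hY : IsAlgSpace Y) {f : X ⟶ Y} (h : IsUnivOpenMor f) :
    IsOpenMap (Points.map f) :=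
  h hY (𝟙 Y) (𝟙 X) f (IsPullback.of_id_fst ..)

theorem isOpenMap_points_comp {X Y Z : Sp S} (f : X ⟶ Y) (g : Y ⟶ Z) (hf : IsOpenMap (Points.map f))
    (hg : IsOpenMap (Points.map g)) : IsOpenMap (Points.map (f ≫ g)) := by
  rw [show Points.map (f ≫ g) = Points.map g ∘ Points.map f from funext (Points.map_comp f g)]
  exact hg.comp hf

theorem isOpenMap_of_jointlySurjective {ι : Type u} {X Y : Sp S} {Xi : ι → Sp S} (g : ∀ i, Xi i ⟶ X)
    (hs : ∀ x, ∃ i z, Points.map (g i) z = x) (f : X ⟶ Y) (h : ∀ i, IsOpenMap (Points.map (g i ≫ f))) :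
    IsOpenMap (Points.map f) := by
  intro U hU
  have : Points.map f '' U = ⋃ i, Points.map (g i ≫ f) '' (Points.map (g i) ⁻¹' U) := by
    ext y
    simp only [Set.mem_image, Set.mem_iUnion, Set.mem_preimage]
    constructor
    · rintro ⟨x, hx, rfl⟩
      obtain ⟨i, z, rfl⟩ := hs x
      exact ⟨i, z, hx, Points.map_comp _ _ _⟩
    · rintro ⟨i, z, hz, rfl⟩
      exact ⟨_, hz, (Points.map_comp _ _ _).symm⟩
  rw [this]
  exact isOpen_iUnion fun i => h i _ (hU.preimage (Points.continuous_map _))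

/-- Openness is fppf local on the source. -/
theorem isLocalOnSource_isOpenMor : IsLocalOnSource (IsFppfCover (S := S)) IsOpenMor :=
  fun _ _ _ g hX hXi hg _ f _ => ⟨fun hf i => isOpenMap_points_comp _ _
    (isOpenMap_of_isUnivOpenMor hX (Groth.Agent.AlgSp.isUnivOpenMor_of_flat_lfp (hXi i) hX (g i) (hg.1 i).1 (hg.1 i).2)) hf,
    isOpenMap_of_jointlySurjective g hg.2 f⟩

/-- Universal openness is fppf local on the source. -/
theorem isLocalOnSource_isUnivOpenMor : IsLocalOnSource (IsFppfCover (S := S)) IsUnivOpenMor := by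
  intro ι X Xi g hX hXi hg Y f hY
  have hgo : ∀ i, IsUnivOpenMor (g i) := fun i =>
    Groth.Agent.AlgSp.isUnivOpenMor_of_flat_lfp (hXi i) hX (g i) (hg.1 i).1 (hg.1 i).2
  refine ⟨fun hf i Z W hZ z fst snd sW => ?_, fun h Z X' hZ z fst snd sX => ?_⟩
  · obtain ⟨l, hl₁, hl₂⟩ := (IsPullback.of_hasPullback f z).exists_lift (fst ≫ g i) snd
      (by rw [Category.assoc, sW.w])
    have sl : IsPullback fst l (g i) (pullback.fst f z) :=
      IsPullback.of_bot (by rw [hl₂]; exact sW) hl₁.symm (IsPullback.of_hasPullback f z)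
    rw [show snd = l ≫ pullback.snd f z from hl₂.symm]
    exact isOpenMap_points_comp _ _ (hgo i (Groth.Agent.AlgSp.isAlgSpace_pullback hY hX hZ f z) _ _ _ sl)
      (hf hZ z _ _ (IsPullback.of_hasPullback f z))
  · have hX' : IsAlgSpace X' := Groth.Agent.AlgSp.isAlgSpace_of_isPullback' hY hX hZ sX
    refine isOpenMap_of_jointlySurjective (fun i => pullback.fst fst (g i)) (fun x => ?_) snd fun i => ?_
    · obtain ⟨i, z', hz'⟩ := hg.2 (Points.map fst x)
      obtain ⟨w, hw, -⟩ := AlgSpB.exists_of_isPullback (IsPullback.of_hasPullback fst (g i)) x z' hz'.symm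
      exact ⟨i, w, hw⟩
    · exact h i hZ z (pullback.snd fst (g i)) _ ((IsPullback.of_hasPullback fst (g i)).flip.paste_vert sX)

end Groth.Agent.AlgSpCov
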