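import Groth.Agent.AlgSpB.Open
import Groth.Agent.AlgSp.LocPFin
import Groth.Agent.AlgSpCov.Covers
import Groth.Agent.AlgSpCov.SchemeSourceLocal
import Groth.Agent.AlgSpCov.SourceOpen

/-!
# The largest open over which a property local on the base holds
-/

universe u

open CategoryTheory CategoryTheory.Limits AlgebraicGeometry Opposite TopologicalSpace

set_option backward.isDefEq.respectTransparency false

namespace Groth.Agent.AlgSpCov

open _root_.AlgSp
open Groth.Agent.AlgSp (isAlgSpace_pullback isAlgSpace_of_isPullback')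

variable {S : Scheme.{u}}

/-- The requirements on a class of morphisms defining a covering notion. -/
structure OpenClass (Q : MorphismProperty (Sp S)) : Prop where
  of_openImm : ∀ ⦃X Y : Sp S⦄, IsAlgSpace X → IsAlgSpace Y → ∀ j : X ⟶ Y, RepWith @IsOpenImmersion j → Q j
  comp : ∀ ⦃X Y Z : Sp S⦄, IsAlgSpace X → IsAlgSpace Y → IsAlgSpace Z → ∀ (f : X ⟶ Y) (g : Y ⟶ Z),
    Q f → Q g → Q (f ≫ g)
  baseChange : ∀ ⦃X Y X' Y' : Sp S⦄, IsAlgSpace X → IsAlgSpace Y → IsAlgSpace X' → IsAlgSpace Y' →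
    ∀ (f : X ⟶ Y) (g : Y' ⟶ Y) (f' : X' ⟶ Y') (g' : X' ⟶ X), IsPullback g' f' f g → Q g → Q g'
  isOpenMap : ∀ ⦃X Y : Sp S⦄, IsAlgSpace X → IsAlgSpace Y → ∀ f : X ⟶ Y, Q f → IsOpenMap (Points.map f)

theorem repWith_openImm_le {P : MorphismProperty Scheme.{u}}
    (hP : ∀ ⦃A B : Scheme.{u}⦄ (e : A ⟶ B), IsOpenImmersion e → P e) {X Y : Sp S} {j : X ⟶ Y}
    (hj : RepWith @IsOpenImmersion j) : RepWith P j :=
  Groth.Agent.AlgSp.repWith_mono (fun f hf => hP f hf) hj

theorem openClass_fppf :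
    OpenClass (fun X Y (f : X ⟶ Y) => LocP @Flat f ∧ LocP @LocallyOfFinitePresentation f : MorphismProperty (Sp S)) where
  of_openImm _ _ _ _ _ hj := ⟨locP_of_repWith etaleLocal_flat (repWith_openImm_le (P := @Flat) (fun _ _ e _ => inferInstance) hj),
    locP_of_repWith etaleLocal_locallyOfFinitePresentation (repWith_openImm_le (P := @LocallyOfFinitePresentation) (fun _ _ e _ => inferInstance) hj)⟩
  comp _ _ _ hX hY hZ _ _ hf hg := ⟨locP_comp etaleLocal_flat hY hZ hf.1 hg.1,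
    locP_comp etaleLocal_locallyOfFinitePresentation hY hZ hf.2 hg.2⟩
  baseChange _ _ _ _ hX hY hX' hY' _ _ _ _ sq hg := ⟨locP_baseChange etaleLocal_flat hY' hY sq.flip hg.1,
    locP_baseChange etaleLocal_locallyOfFinitePresentation hY' hY sq.flip hg.2⟩
  isOpenMap _ _ hX hY f hf := isOpenMap_of_isUnivOpenMor hY
    (Groth.Agent.AlgSp.isUnivOpenMor_of_flat_lfp hX hY f hf.1 hf.2)

theorem openClass_smooth : OpenClass (LocP @Smooth : MorphismProperty (Sp S)) where
  of_openImm _ _ _ _ _ hj := locP_of_repWith etaleLocal_smooth (repWith_openImm_le (P := @Smooth) (fun _ _ e _ => inferInstance) hj)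
  comp _ _ _ hX hY hZ _ _ hf hg := locP_comp etaleLocal_smooth hY hZ hf hg
  baseChange _ _ _ _ hX hY hX' hY' _ _ _ _ sq hg := locP_baseChange etaleLocal_smooth hY' hY sq.flip hg
  isOpenMap _ _ hX hY f hf := isOpenMap_of_isUnivOpenMor hY (Groth.Agent.AlgSp.isUnivOpenMor_of_flat_lfp hX hY f
    (fun _ _ a b h ha hb w => have : Smooth h.left := hf a b h ha hb w; inferInstance)
    (fun _ _ a b h ha hb w => have : Smooth h.left := hf a b h ha hb w; inferInstance))

theorem openClass_etale : OpenClass (IsEtaleMor : MorphismProperty (Sp S)) where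
  of_openImm _ _ hX hY _ hj := (isEtaleMor_iff_locP_etale hX hY).2
    (locP_of_repWith etaleLocal_etale (repWith_openImm_le (P := @Etale) (fun _ _ e _ => inferInstance) hj))
  comp _ _ _ hX hY hZ _ _ hf hg := (isEtaleMor_iff_locP_etale hX hZ).2
    (locP_comp etaleLocal_etale hY hZ (locP_etale_of_isEtaleMor hf) (locP_etale_of_isEtaleMor hg))
  baseChange _ _ _ _ hX hY hX' hY' _ _ _ _ sq hg := (isEtaleMor_iff_locP_etale hX' hX).2
    (locP_baseChange etaleLocal_etale hY' hY sq.flip (locP_etale_of_isEtaleMor hg))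
  isOpenMap _ _ hX hY f hf := isOpenMap_of_isUnivOpenMor hY (Groth.Agent.AlgSp.isUnivOpenMor_of_flat_lfp hX hY f
    (fun _ _ a b h ha hb w => have : Etale h.left := locP_etale_of_isEtaleMor hf a b h ha hb w; inferInstance)
    (fun _ _ a b h ha hb w => have : Etale h.left := locP_etale_of_isEtaleMor hf a b h ha hb w; inferInstance))

variable {Q P : MorphismProperty (Sp S)}

/-- A property local on the base is stable under base change along members of coverings. -/
theorem of_isLocalOnBase_baseChange (hQ : OpenClass Q)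
    (hP : IsLocalOnBase (fun _ _ Yi g => IsCover Q Yi g) P) {X Y X' Y' : Sp S} {f : X ⟶ Y} {g : Y' ⟶ Y}
    {f' : X' ⟶ Y'} {g' : X' ⟶ X} (hX : IsAlgSpace X) (hY : IsAlgSpace Y) (hX' : IsAlgSpace X')
    (hY' : IsAlgSpace Y') (sq : IsPullback g' f' f g) (hg : Q g) (hf : P f) : P f' := by
  let Yi : ULift.{u} Bool → Sp S := fun b => match b.down with | true => Y' | false => Y
  let gi : ∀ b, Yi b ⟶ Y := fun ⟨b⟩ => match b with | true => g | false => 𝟙 Y
  let Xi : ULift.{u} Bool → Sp S := fun b => match b.down with | true => X' | false => X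
  let p : ∀ b, Xi b ⟶ Yi b := fun ⟨b⟩ => match b with | true => f' | false => f
  let q : ∀ b, Xi b ⟶ X := fun ⟨b⟩ => match b with | true => g' | false => 𝟙 X
  have hid : RepWith @IsOpenImmersion (𝟙 Y) := (RepWith @IsOpenImmersion).id_mem _
  have h := (hP Yi gi hY (fun ⟨b⟩ => by cases b <;> assumption)
    ⟨fun ⟨b⟩ => by cases b; exacts [hQ.of_openImm hY hY _ hid, hg],
      fun y => ⟨⟨false⟩, y, Points.map_id y⟩⟩ f hX Xi p q (fun ⟨b⟩ => by cases b <;> assumption)
    (fun ⟨b⟩ => by cases b; exacts [IsPullback.of_id_fst .., sq])).1 hf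
  exact h ⟨true⟩

/-- `f` has `P` over the open `V` of the target. -/
def HoldsOver (P : MorphismProperty (Sp S)) {X Y : Space S} (f : X ⟶ Y) (V : Set (Points Y.obj)) : Prop :=
  ∀ (W₁ X₁ : Space S) (j₁ : W₁ ⟶ Y) (j₁' : X₁ ⟶ X) (f₁ : X₁ ⟶ W₁),
    RepWith @IsOpenImmersion j₁.hom → Set.range (Points.map j₁.hom) = V →
    IsPullback j₁'.hom f₁.hom f.hom j₁.hom → P f₁.hom

/-- The chosen base change of a morphism of algebraic spaces. -/
theorem exists_square {X Y V : Space S} (f : X ⟶ Y) (j : V ⟶ Y) :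
    ∃ (X₁ : Space S) (j' : X₁ ⟶ X) (f₁ : X₁ ⟶ V), IsPullback j'.hom f₁.hom f.hom j.hom :=
  ⟨⟨pullback f.hom j.hom, isAlgSpace_pullback Y.property X.property V.property f.hom j.hom⟩,
    ObjectProperty.homMk (pullback.fst _ _), ObjectProperty.homMk (pullback.snd _ _), IsPullback.of_hasPullback _ _⟩

theorem exists_factor {Z : Sp S} {Y V : Space S} {j : V ⟶ Y} (hj : RepWith @IsOpenImmersion j.hom) (g : Z ⟶ Y.obj)
    (h : Set.range (Points.map g) ⊆ Set.range (Points.map j.hom)) :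
    ∃ l : Z ⟶ V.obj, l ≫ j.hom = g ∧ IsPullback (𝟙 Z) l g j.hom := by
  obtain ⟨l, hl⟩ := (AlgSpB.exists_factor_isOpenImmersion_iff hj g).2 h
  have := AlgSpB.mono_of_isOpenImmersion hj
  refine ⟨l, hl, IsPullback.of_isLimit' ⟨by rw [Category.id_comp, hl]⟩ (PullbackCone.IsLimit.mk _ (fun c => c.fst)
    (fun c => Category.comp_id _) (fun c => ?_) (fun c m h1 _ => (Category.comp_id m).symm.trans h1))⟩
  rw [← cancel_mono j.hom, Category.assoc, hl, c.condition]

/-- Existence of the largest open over which a property local on the base holds, and its properties. -/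
theorem exists_largest_open (hQ : OpenClass Q) (hP : IsLocalOnBase (fun _ _ Yi g => IsCover Q Yi g) P)
    {X Y : Space S} (f : X ⟶ Y) :
    ∃ W : Opens (Points Y.obj), HoldsOver P f (W : Set (Points Y.obj)) ∧
      (∀ V : Opens (Points Y.obj), HoldsOver P f (V : Set (Points Y.obj)) → V ≤ W) ∧
      (∀ (Y' X' : Space S) (g : Y' ⟶ Y) (g' : X' ⟶ X) (f' : X' ⟶ Y'), Q g.hom →
        IsPullback g'.hom f'.hom f.hom g.hom → P f'.hom →
        Set.range (Points.map g.hom) ⊆ (W : Set (Points Y.obj))) ∧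
      (∀ (Y' X' : Space S) (g : Y' ⟶ Y) (g' : X' ⟶ X) (f' : X' ⟶ Y'), Q g.hom →
        IsPullback g'.hom f'.hom f.hom g.hom → ∀ W' : Opens (Points Y'.obj), HoldsOver P f' (W' : Set (Points Y'.obj)) →
          (∀ V' : Opens (Points Y'.obj), HoldsOver P f' (V' : Set (Points Y'.obj)) → V' ≤ W') →
          (W' : Set (Points Y'.obj)) = Points.map g.hom ⁻¹' (W : Set (Points Y.obj))) := by
  let W : Opens (Points Y.obj) := sSup {V | HoldsOver P f (V : Set (Points Y.obj))}
  have hW : HoldsOver P f (W : Set (Points Y.obj)) := by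
    intro W₀ X₀ j₀ j₀' f₀ hj hr sq
    obtain ⟨U, a, hae, has⟩ := Y.property.atlas
    let ι := {t : U.left // Points.ofPt a t ∈ W}
    have hmem : ∀ i : ι, ∃ V : Opens (Points Y.obj), HoldsOver P f (V : Set (Points Y.obj)) ∧ Points.ofPt a i.1 ∈ V := fun i => by
      obtain ⟨V, hV, hmem⟩ := Opens.mem_sSup.1 i.2
      exact ⟨V, hV, hmem⟩
    choose V hV hiV using hmem
    choose Vs js hjs hrs using fun i => AlgSpB.exists_openSubspace Y (V i).isOpen
    have hsub : ∀ i, Set.range (Points.map (js i).hom) ⊆ Set.range (Points.map j₀.hom) := fun i => by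
      rw [hrs, hr]
      exact SetLike.coe_subset_coe.2 (le_sSup (hV i))
    choose l hl hlsq using fun i => exists_factor hj (js i).hom (hsub i)
    choose Xs j' fs hfs using fun i => exists_square f (js i)
    choose r hr₁ hr₂ using fun i => sq.exists_lift (j' i).hom ((fs i).hom ≫ l i) (by
      rw [(hfs i).w, Category.assoc, hl])
    have := AlgSpB.mono_of_isOpenImmersion hj
    refine (hP (fun i => (Vs i).obj) l W₀.property (fun i => (Vs i).property) ⟨fun i => ?_, fun w => ?_⟩ f₀.hom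
      X₀.property (fun i => (Xs i).obj) (fun i => (fs i).hom) r (fun i => (Xs i).property) (fun i => ?_)).2
      fun i => hV i _ _ (js i) (j' i) (fs i) (hjs i) (hrs i) (hfs i)
    · exact hQ.of_openImm (Vs i).property W₀.property _ (repWith_bc (hlsq i) (hjs i))
    · obtain ⟨t, ht⟩ := AlgSpB.surjective_ofPt has (Points.map j₀.hom w)
      have hw : Points.ofPt a t ∈ W := by rw [ht]; exact hr.le ⟨w, rfl⟩
      obtain ⟨v, hv⟩ := (hrs ⟨t, hw⟩).ge (hiV ⟨t, hw⟩)
      refine ⟨⟨t, hw⟩, v, AlgSpB.injective_map_of_mono j₀.hom ?_⟩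
      rw [← Points.map_comp, hl, hv, ht]
    · exact IsPullback.of_right (by rw [hr₁, hl]; exact hfs i) (hr₂ i) sq
  have hmax : ∀ V : Opens (Points Y.obj), HoldsOver P f (V : Set (Points Y.obj)) → V ≤ W := fun V hV => le_sSup hV
  have hdesc : ∀ (Y' X' : Space S) (g : Y' ⟶ Y) (g' : X' ⟶ X) (f' : X' ⟶ Y'), Q g.hom →
      IsPullback g'.hom f'.hom f.hom g.hom → P f'.hom →
      Set.range (Points.map g.hom) ⊆ (W : Set (Points Y.obj)) := by
    intro Y' X' g g' f' hg sq hf'
    refine hmax ⟨_, (hQ.isOpenMap Y'.property Y.property g.hom hg).isOpen_range⟩ fun W₁ X₁ j₁ j₁' f₁ hj hr sq₁ => ?_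
    have hr' : Set.range (Points.map j₁.hom) = Set.range (Points.map g.hom) := hr
    obtain ⟨l, hl, hlsq⟩ := exists_factor hj g.hom hr'.ge
    have := AlgSpB.mono_of_isOpenImmersion hj
    obtain ⟨r, hr₁, hr₂⟩ := sq₁.exists_lift g'.hom (f'.hom ≫ l) (by rw [sq.w, Category.assoc, hl])
    refine (hP (fun _ : PUnit.{u + 1} => Y'.obj) (fun _ => l) W₁.property (fun _ => Y'.property)
      ⟨fun _ => hQ.baseChange W₁.property Y.property Y'.property Y'.property j₁.hom g.hom (𝟙 _) l hlsq.flip hg,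
        fun w => ?_⟩ f₁.hom
      X₁.property (fun _ => X'.obj) (fun _ => f'.hom) (fun _ => r) (fun _ => X'.property) (fun _ => ?_)).2 fun _ => hf'
    · obtain ⟨y, hy⟩ := hr'.le ⟨w, rfl⟩
      refine ⟨⟨⟩, y, AlgSpB.injective_map_of_mono j₁.hom ?_⟩
      rw [← Points.map_comp, hl, hy]
    · exact IsPullback.of_right (by rw [hr₁, hl]; exact sq) hr₂ sq₁
  refine ⟨W, hW, hmax, hdesc, fun Y' X' g g' f' hg sq W' hW' hmax' => ?_⟩
  refine subset_antisymm ?_ ?_
  · obtain ⟨W₂, j₂, hj₂, hr₂⟩ := AlgSpB.exists_openSubspace Y' W'.isOpen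
    obtain ⟨X₂, j₂', f₂, sq₂⟩ := exists_square f' j₂
    intro y hy
    obtain ⟨v, rfl⟩ := hr₂.ge hy
    refine hdesc W₂ X₂ (j₂ ≫ g) (j₂' ≫ g') f₂
      (hQ.comp W₂.property Y'.property Y.property _ _ (hQ.of_openImm W₂.property Y'.property _ hj₂) hg)
      (sq₂.paste_horiz sq) (hW' W₂ X₂ j₂ j₂' f₂ hj₂ hr₂ sq₂) ⟨v, Points.map_comp _ _ _⟩
  · refine hmax' ⟨_, W.isOpen.preimage (Points.continuous_map g.hom)⟩ fun W₁ X₁ j₁ j₁' f₁ hj hr sq₁ => ?_
    have hr' : Set.range (Points.map j₁.hom) = Points.map g.hom ⁻¹' (W : Set (Points Y.obj)) := hr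
    obtain ⟨W₀, j₀, hj₀, hr₀⟩ := AlgSpB.exists_openSubspace Y W.isOpen
    obtain ⟨X₀, j₀', f₀, sq₀⟩ := exists_square f j₀
    obtain ⟨l, hl⟩ := (AlgSpB.exists_factor_isOpenImmersion_iff hj₀ (j₁.hom ≫ g.hom)).2 (by
      rintro _ ⟨x, rfl⟩
      rw [hr₀, Points.map_comp]
      exact hr'.le ⟨x, rfl⟩)
    have := AlgSpB.mono_of_isOpenImmersion hj₀
    have := AlgSpB.mono_of_isOpenImmersion hj
    have sl : IsPullback j₁.hom l g.hom j₀.hom := by
      have hex : ∀ c : PullbackCone g.hom j₀.hom, ∃ m, m ≫ j₁.hom = c.fst :=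
        fun c => (AlgSpB.exists_factor_isOpenImmersion_iff hj c.fst).2 (by
          rintro _ ⟨x, rfl⟩
          rw [hr', Set.mem_preimage, ← Points.map_comp, c.condition, Points.map_comp]
          exact hr₀.le ⟨_, rfl⟩)
      choose m hm using hex
      refine IsPullback.of_isLimit' ⟨hl.symm⟩ (PullbackCone.IsLimit.mk _ m hm (fun c => ?_)
        fun c m' h1 _ => (cancel_mono j₁.hom).1 (h1.trans (hm c).symm))
      rw [← cancel_mono j₀.hom, Category.assoc, hl, reassoc_of% (hm c), c.condition]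
    obtain ⟨r, hr₁, hr₂⟩ := sq₀.exists_lift (j₁'.hom ≫ g'.hom) (f₁.hom ≫ l) (by
      rw [Category.assoc, sq.w, reassoc_of% sq₁.w, Category.assoc, hl])
    exact of_isLocalOnBase_baseChange hQ hP X₀.property W₀.property X₁.property W₁.property
      (IsPullback.of_right (by rw [hr₁, hl]; exact sq₁.paste_horiz sq) hr₂ sq₀)
      (hQ.baseChange W₀.property Y.property W₁.property Y'.property j₀.hom g.hom j₁.hom l sl.flip hg)
      (hW W₀ X₀ j₀ j₀' f₀ hj₀ hr₀ sq₀)

end Groth.Agent.AlgSpCov
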