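import Groth.Prelude.Def_AlgSp3
import Groth.Prelude.Def_AlgSp4

/-!
# Calculus of represented pullbacks on the fppf site
-/

universe u

open CategoryTheory CategoryTheory.Limits AlgebraicGeometry Opposite

set_option backward.isDefEq.respectTransparency false

namespace Groth.Agent.AlgSpCov

open AlgSp

variable {S : Scheme.{u}} {F G Q X : Sp S}

/-- Base change of a representable morphism with property `P`. -/
theorem repWith_bc {P : MorphismProperty Scheme.{u}} {F' G' : Sp S} {f : F ⟶ G} {g : G' ⟶ G}
    {fst : F' ⟶ F} {snd : F' ⟶ G'} (h : IsPullback fst snd f g) (hf : RepWith P f) : RepWith P snd :=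
  (repWith_isStableUnderBaseChange (S := S) P).of_isPullback h hf

/-- Composition of representable morphisms with property `P`. -/
theorem repWith_comp {P : MorphismProperty Scheme.{u}} [P.IsStableUnderComposition] {H : Sp S}
    {f : F ⟶ G} {g : G ⟶ H} (hf : RepWith P f) (hg : RepWith P g) : RepWith P (f ≫ g) :=
  MorphismProperty.comp_mem _ f g hf hg

/-- A represented pullback of a representable map out of a scheme, both projections in `Over S`. -/
theorem exists_pullback {U V : Over S} {a : (yon S).obj U ⟶ F} (ha : Representable a)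
    (b : (yon S).obj V ⟶ F) :
    ∃ (W : Over S) (fst : W ⟶ U) (snd : W ⟶ V),
      IsPullback ((yon S).map fst) ((yon S).map snd) a b := by
  obtain ⟨W, snd, fst, h⟩ := ha b
  obtain ⟨fst', rfl⟩ := (yon S).map_surjective fst
  exact ⟨W, fst', snd, h⟩

/-- A cartesian square of representable sheaves is a cartesian square of schemes. -/
theorem isPullback_left {W U V Z : Over S} {fst : W ⟶ U} {snd : W ⟶ V} {f : U ⟶ Z} {g : V ⟶ Z}
    (h : IsPullback ((yon S).map fst) ((yon S).map snd) ((yon S).map f) ((yon S).map g)) :
    IsPullback fst.left snd.left f.left g.left :=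
  ((IsPullback.of_map (yon S) ((yon S).map_injective (by simpa using h.w)) h).map (Over.forget S))

/-- An etale-representable map out of a scheme into `Q` composed with an etale `q` : cancellation. -/
theorem repWith_etale_cancel {U : Over S} (s : (yon S).obj U ⟶ Q) (q : Q ⟶ X)
    (hq : RepWith @Etale q) (ha : RepWith @Etale (s ≫ q)) : RepWith @Etale s := by
  obtain ⟨R, snd, fst, h⟩ := hq.1 (s ≫ q)
  have hsnd : Etale snd.left := hq.2 _ _ _ h
  have hfst : RepWith @Etale fst := repWith_bc h.flip ha
  obtain ⟨σ, hσ⟩ := (yon S).map_surjective (h.lift s (𝟙 _) (Category.id_comp _).symm)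
  have hσs : σ ≫ snd = 𝟙 U := (yon S).map_injective (by
    rw [Functor.map_comp, hσ, h.lift_snd]; exact ((yon S).map_id U).symm)
  have : Etale (σ.left ≫ snd.left) := by
    rw [← Over.comp_left, hσs, Over.id_left]
    infer_instance
  have : Etale σ.left := Etale.of_comp σ.left snd.left
  rw [show s = (yon S).map σ ≫ fst by rw [hσ, h.lift_fst]]
  exact repWith_comp ((repWith_yon_map_iff _ _).2 this) hfst

end Groth.Agent.AlgSpCov
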