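import Groth.Agent.AlgSp.QCMor
import Groth.Agent.AlgSp.UnivInj
import Groth.Agent.AlgSp.UnivClosed
import Groth.Agent.AlgSp.Diag
import Groth.Agent.AlgSp.Space
import Groth.Agent.AlgSpCov.Sheaf
import Groth.Prelude.Def_AlgSpInf
import Mathlib.AlgebraicGeometry.Morphisms.Proper

/-!
# Topological properties of morphisms of thickenings of algebraic spaces
-/

universe u

open CategoryTheory CategoryTheory.Limits AlgebraicGeometry Opposite Topology

set_option backward.isDefEq.respectTransparency.types false

namespace Groth.Agent.AlgSpCov.ThickTopo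

open _root_.AlgSp Groth.Agent.AlgSp

variable {S : Scheme.{u}}

theorem repWith_closed_of_thick {X X' : Sp S} {i : X ⟶ X'} (hi : IsThickMor i) :
    RepWith @IsClosedImmersion i := ⟨hi.1, fun _ _ g fst snd sq => (hi.2 g fst snd sq).1⟩

theorem mono_of_thick {X X' : Sp S} {i : X ⟶ X'} (hi : IsThickMor i) : Mono i :=
  Groth.Agent.AlgSp.mono_of_repWith (fun f hf => have : IsClosedImmersion f := hf; inferInstance) i
    (repWith_closed_of_thick hi)

/-- A thickening of algebraic spaces is a homeomorphism on points. -/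
theorem isHomeomorph_map {X X' : Sp S} (hX : IsAlgSpace X) (hX' : IsAlgSpace X') {i : X ⟶ X'}
    (hi : IsThickMor i) : IsHomeomorph (Points.map i) := by
  have hc : RepWith @UniversallyClosed i :=
    ⟨hi.1, fun _ _ g fst snd sq => by
      have : IsClosedImmersion snd.left := (hi.2 g fst snd sq).1
      exact (inferInstance : UniversallyClosed snd.left)⟩
  have hu : RepWith @UniversallyInjective i :=
    ⟨hi.1, fun _ _ g fst snd sq => by
      have : IsClosedImmersion snd.left := (hi.2 g fst snd sq).1
      exact (inferInstance : UniversallyInjective snd.left)⟩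
  have hs : RepWith @Surjective i := ⟨hi.1, fun _ _ g fst snd sq => (hi.2 g fst snd sq).2⟩
  have hinj : Function.Injective (Points.map i) :=
    (univInjective_tfae hX i).1.1 ((repWith_universallyInjective_iff hX i hi.1).1 hu) hX' (𝟙 X') (𝟙 X) i
      (IsPullback.of_horiz_isIso ⟨by simp⟩)
  exact isHomeomorph_iff_continuous_isClosedMap_bijective.2
    ⟨Points.continuous_map i, isClosedMap_map_of_repWith hc, hinj, (repWith_surjective_iff i hi.1).1 hs⟩

variable {X X' Y Y' : Sp S} {i : X ⟶ X'} {j : Y ⟶ Y'} {f : X ⟶ Y} {f' : X' ⟶ Y'}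
  (hX : IsAlgSpace X) (hX' : IsAlgSpace X') (hY : IsAlgSpace Y) (hY' : IsAlgSpace Y')
  (hi : IsThickMor i) (hj : IsThickMor j) (w : i ≫ f' = f ≫ j)

include hX hX' hY hY' hi hj w

/-- A base change of `f'` restricts to a base change of `f`, by homeomorphisms on points. -/
theorem exists_bc_of_thick {Z P' : Sp S} (hZ : IsAlgSpace Z) (g : Z ⟶ Y') {fst : P' ⟶ X'} {snd : P' ⟶ Z}
    (sq : IsPullback fst snd f' g) :
    ∃ (Z₀ P : Sp S) (z : Z₀ ⟶ Z) (g₀ : Z₀ ⟶ Y) (k : P ⟶ P') (fst₀ : P ⟶ X) (snd₀ : P ⟶ Z₀),
      IsAlgSpace Z₀ ∧ IsAlgSpace P ∧ IsPullback fst₀ snd₀ f g₀ ∧ IsThickMor z ∧ IsThickMor k ∧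
      IsHomeomorph (Points.map z) ∧ IsHomeomorph (Points.map k) ∧ k ≫ snd = snd₀ ≫ z := by
  have := mono_of_thick hj
  have hZ₀ := IsPullback.of_hasPullback j g
  have hZ₀a := isAlgSpace_pullback hY' hY hZ j g
  have hP := IsPullback.of_hasPullback i fst
  have hP'a := isAlgSpace_of_isPullback' hY' hX' hZ sq
  have hPa := isAlgSpace_pullback hX' hX hP'a i fst
  have hk : IsThickMor (pullback.snd i fst) := repWith_bc hP hi
  have hz : IsThickMor (pullback.snd j g) := repWith_bc hZ₀ hj
  let snd₀ : pullback i fst ⟶ pullback j g := pullback.lift (pullback.fst i fst ≫ f)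
    (pullback.snd i fst ≫ snd) (by
      rw [Category.assoc, ← w, ← Category.assoc, pullback.condition, Category.assoc, Category.assoc, sq.w])
  have h1 : IsPullback (pullback.fst i fst) snd₀ f (pullback.fst j g) := by
    refine ⟨⟨(pullback.lift_fst _ _ _).symm⟩, ⟨PullbackCone.IsLimit.mk _ (fun s => hP.lift s.fst
      (sq.lift (s.fst ≫ i) (s.snd ≫ pullback.snd j g) ?_) ?_) ?_ ?_ ?_⟩⟩
    · rw [Category.assoc, w, ← Category.assoc, s.condition, Category.assoc, Category.assoc, pullback.condition]
    · rw [sq.lift_fst]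
    · intro s; exact hP.lift_fst ..
    · intro s
      apply hZ₀.hom_ext
      · rw [Category.assoc, show snd₀ ≫ pullback.fst j g = _ from pullback.lift_fst .., ← Category.assoc,
          hP.lift_fst, s.condition]
      · rw [Category.assoc, show snd₀ ≫ pullback.snd j g = _ from pullback.lift_snd .., ← Category.assoc,
          hP.lift_snd, sq.lift_snd]
    · intro s m hm₁ hm₂
      refine hP.hom_ext (by rw [hP.lift_fst]; exact hm₁) ?_
      rw [hP.lift_snd]
      refine sq.hom_ext ?_ ?_
      · rw [sq.lift_fst, Category.assoc, ← pullback.condition, ← Category.assoc, hm₁]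
      · rw [sq.lift_snd, Category.assoc, ← hm₂, Category.assoc,
          show snd₀ ≫ pullback.snd j g = _ from pullback.lift_snd ..]
  exact ⟨_, _, _, _, _, _, snd₀, hZ₀a, hPa, h1, hz, hk, isHomeomorph_map hZ₀a hZ hz,
    isHomeomorph_map hPa hP'a hk, (pullback.lift_snd _ _ _).symm⟩

/-- A base change of `f` extends to a base change of `f'`, by a homeomorphism on points. -/
theorem exists_bc_of_thick' {Z P : Sp S} (hZ : IsAlgSpace Z) (g : Z ⟶ Y) {fst : P ⟶ X} {snd : P ⟶ Z}
    (sq : IsPullback fst snd f g) :
    ∃ (P' : Sp S) (fst' : P' ⟶ X') (snd' : P' ⟶ Z) (k : P ⟶ P'),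
      IsAlgSpace P' ∧ IsPullback fst' snd' f' (g ≫ j) ∧ IsThickMor k ∧ IsHomeomorph (Points.map k) ∧
      k ≫ snd' = snd := by
  have := mono_of_thick hj
  have hPa := isAlgSpace_of_isPullback' hY hX hZ sq
  have hP' := IsPullback.of_hasPullback f' (g ≫ j)
  have hP'a := isAlgSpace_pullback hY' hX' hZ f' (g ≫ j)
  let k : P ⟶ pullback f' (g ≫ j) := pullback.lift (fst ≫ i) snd (by
    rw [Category.assoc, w, ← Category.assoc, sq.w, Category.assoc])
  have h2 : IsPullback fst k i (pullback.fst f' (g ≫ j)) := by
    refine ⟨⟨(pullback.lift_fst _ _ _).symm⟩, ⟨PullbackCone.IsLimit.mk _ (fun s => sq.lift s.fst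
      (s.snd ≫ pullback.snd f' (g ≫ j)) ?_) ?_ ?_ ?_⟩⟩
    · rw [← cancel_mono j, Category.assoc, ← w, ← Category.assoc, s.condition]
      simp only [Category.assoc, pullback.condition]
    · intro s; exact sq.lift_fst ..
    · intro s
      apply hP'.hom_ext
      · rw [Category.assoc, show k ≫ pullback.fst f' (g ≫ j) = _ from pullback.lift_fst .., ← Category.assoc,
          sq.lift_fst, s.condition]
      · rw [Category.assoc, show k ≫ pullback.snd f' (g ≫ j) = _ from pullback.lift_snd .., sq.lift_snd]
    · intro s m hm₁ hm₂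
      refine sq.hom_ext (by rw [sq.lift_fst]; exact hm₁) ?_
      rw [sq.lift_snd, ← hm₂, Category.assoc, show k ≫ pullback.snd f' (g ≫ j) = _ from pullback.lift_snd ..]
  exact ⟨_, _, _, k, hP'a, hP', repWith_bc h2 hi, isHomeomorph_map hPa hP'a (repWith_bc h2 hi),
    pullback.lift_snd _ _ _⟩

/-- The pattern of the topological equivalences: transport a property of continuous maps along homeomorphisms. -/
theorem univSp_iff_of_thick (Q : ∀ {A B : Type (u + 1)} [TopologicalSpace A] [TopologicalSpace B], (A → B) → Prop)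
    (hQ : ∀ {A A' B B' : Type (u + 1)} [TopologicalSpace A] [TopologicalSpace A'] [TopologicalSpace B]
      [TopologicalSpace B'] (α : A → A') (β : B → B') (φ : A → B) (φ' : A' → B'),
      IsHomeomorph α → IsHomeomorph β → φ' ∘ α = β ∘ φ → (Q φ ↔ Q φ')) :
    UnivSp (fun _ _ h => Q (Points.map h)) f ↔ UnivSp (fun _ _ h => Q (Points.map h)) f' := by
  constructor
  · intro h Z P' hZ g fst snd sq
    obtain ⟨Z₀, P, z, g₀, k, fst₀, snd₀, hZ₀, -, sq₀, -, -, hz, hk, hc⟩ :=
      exists_bc_of_thick hX hX' hY hY' hi hj w hZ g sq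
    refine (hQ (Points.map k) (Points.map z) (Points.map snd₀) (Points.map snd) hk hz ?_).1
      (h hZ₀ g₀ fst₀ snd₀ sq₀)
    funext x
    simp only [Function.comp_apply]
    rw [← Points.map_comp, ← Points.map_comp, hc]
  · intro h Z P hZ g fst snd sq
    obtain ⟨P', fst', snd', k, -, sq', -, hk, hc⟩ := exists_bc_of_thick' hX hX' hY hY' hi hj w hZ g sq
    refine (hQ (Points.map k) id (Points.map snd) (Points.map snd') hk .id ?_).2
      (h hZ (g ≫ j) fst' snd' sq')
    funext x
    simp only [Function.comp_apply, id_eq]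
    rw [← Points.map_comp, hc]

theorem surjective_iff : IsSurjectiveMor f ↔ IsSurjectiveMor f' := by
  have hh : Points.map f' ∘ Points.map i = Points.map j ∘ Points.map f := by
    funext x
    simp only [Function.comp_apply]
    rw [← Points.map_comp, ← Points.map_comp, w]
  change Function.Surjective (Points.map f) ↔ Function.Surjective (Points.map f')
  rw [← Function.Surjective.of_comp_iff (Points.map f') (isHomeomorph_map hX hX' hi).surjective, hh,
    Function.Surjective.of_comp_iff' (isHomeomorph_map hY hY' hj).bijective]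

theorem univClosed_iff : IsUnivClosedMor f ↔ IsUnivClosedMor f' :=
  univSp_iff_of_thick hX hX' hY hY' hi hj w (fun φ => IsClosedMap φ)
    fun α β φ φ' hα hβ hc => ⟨fun h => by
      intro E hE
      rw [← hα.surjective.image_preimage E, ← Set.image_comp, hc, Set.image_comp]
      exact hβ.isClosedMap _ (h _ (hE.preimage hα.continuous)), fun h => by
      intro E hE
      rw [← hβ.injective.preimage_image (φ '' E), ← Set.image_comp, ← hc, Set.image_comp]
      exact (h _ (hα.isClosedMap _ hE)).preimage hβ.continuous⟩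

theorem univOpen_iff : IsUnivOpenMor f ↔ IsUnivOpenMor f' :=
  univSp_iff_of_thick hX hX' hY hY' hi hj w (fun φ => IsOpenMap φ)
    fun α β φ φ' hα hβ hc => ⟨fun h => by
      intro E hE
      rw [← hα.surjective.image_preimage E, ← Set.image_comp, hc, Set.image_comp]
      exact hβ.isOpenMap _ (h _ (hE.preimage hα.continuous)), fun h => by
      intro E hE
      rw [← hβ.injective.preimage_image (φ '' E), ← Set.image_comp, ← hc, Set.image_comp]
      exact (h _ (hα.isOpenMap _ hE)).preimage hβ.continuous⟩

theorem univInjective_iff : IsUnivInjectiveMor f ↔ IsUnivInjectiveMor f' :=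
  univSp_iff_of_thick hX hX' hY hY' hi hj w (fun φ => Function.Injective φ)
    fun α β φ φ' hα hβ hc => by
      rw [← Function.Injective.of_comp_iff' φ' hα.bijective, hc, Function.Injective.of_comp_iff hβ.injective]

theorem quasiCompact_iff : IsQuasiCompactMor f ↔ IsQuasiCompactMor f' := by
  constructor
  · intro h Z P' hZ hZc g fst snd sq
    obtain ⟨Z₀, P, z, g₀, k, fst₀, snd₀, hZ₀, hP, sq₀, -, -, hz, hk, -⟩ :=
      exists_bc_of_thick hX hX' hY hY' hi hj w hZ g sq
    have := compactSpace_points hZc
    have : CompactSpace (Points Z₀) := hz.homeomorph.symm.compactSpace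
    have := compactSpace_points (h hZ₀ (isQuasiCompactSp_of_compactSpace hZ₀ this) g₀ fst₀ snd₀ sq₀)
    exact isQuasiCompactSp_of_compactSpace (isAlgSpace_of_isPullback' hY' hX' hZ sq) hk.homeomorph.compactSpace
  · intro h Z P hZ hZc g fst snd sq
    obtain ⟨P', fst', snd', k, hP', sq', -, hk, -⟩ := exists_bc_of_thick' hX hX' hY hY' hi hj w hZ g sq
    have := compactSpace_points (h hZ hZc (g ≫ j) fst' snd' sq')
    exact isQuasiCompactSp_of_compactSpace (isAlgSpace_of_isPullback' hY hX hZ sq) hk.homeomorph.symm.compactSpace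

omit hX hX' hY hY' hi in
/-- The diagonals form a morphism of thickenings. -/
theorem exists_diagonal_square (hi : IsThickMor i) :
    ∃ D : pullback f f ⟶ pullback f' f', IsThickMor D ∧
      i ≫ pullback.diagonal f' = pullback.diagonal f ≫ D := by
  have := mono_of_thick hj
  let M := pullback (f ≫ j) (f ≫ j)
  let e : pullback f f ⟶ M := pullback.lift (pullback.fst f f) (pullback.snd f f) (by
    rw [reassoc_of% (pullback.condition (f := f) (g := f))])
  have : IsIso e := ⟨pullback.lift (pullback.fst (f ≫ j) (f ≫ j)) (pullback.snd (f ≫ j) (f ≫ j))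
    (by rw [← cancel_mono j, Category.assoc, Category.assoc, pullback.condition]),
    by apply pullback.hom_ext <;> simp [e, pullback.lift_fst, pullback.lift_snd], by
      apply pullback.hom_ext <;> simp [e, pullback.lift_fst, pullback.lift_snd]⟩
  let a : M ⟶ pullback f' (f ≫ j) := pullback.lift (pullback.fst (f ≫ j) (f ≫ j) ≫ i)
    (pullback.snd (f ≫ j) (f ≫ j)) (by rw [Category.assoc, w, pullback.condition])
  let b : pullback f' (f ≫ j) ⟶ pullback f' f' := pullback.lift (pullback.fst f' (f ≫ j))
    (pullback.snd f' (f ≫ j) ≫ i) (by rw [Category.assoc, w, pullback.condition])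
  have ha : IsPullback (pullback.fst (f ≫ j) (f ≫ j)) a i (pullback.fst f' (f ≫ j)) := by
    refine IsPullback.of_bot ?_ (pullback.lift_fst _ _ _).symm (IsPullback.of_hasPullback f' (f ≫ j))
    rw [w, show a ≫ pullback.snd f' (f ≫ j) = _ from pullback.lift_snd ..]
    exact IsPullback.of_hasPullback _ _
  have hb : IsPullback (pullback.snd f' (f ≫ j)) b i (pullback.snd f' f') := by
    refine IsPullback.of_bot ?_ (pullback.lift_snd _ _ _).symm (IsPullback.of_hasPullback f' f').flip
    rw [w, show b ≫ pullback.fst f' f' = _ from pullback.lift_fst ..]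
    exact (IsPullback.of_hasPullback _ _).flip
  refine ⟨e ≫ a ≫ b, ?_, by
    apply pullback.hom_ext <;> simp [e, a, b, pullback.lift_fst, pullback.lift_snd, pullback.lift_fst_assoc,
      pullback.lift_snd_assoc]⟩
  have hab : IsThickMor (a ≫ b) :=
    have : (thick : MorphismProperty Scheme.{u}).IsStableUnderComposition :=
      inferInstanceAs (@IsClosedImmersion ⊓ @Surjective : MorphismProperty Scheme.{u}).IsStableUnderComposition
    Groth.Agent.AlgSpCov.repWith_comp (repWith_bc ha hi) (repWith_bc hb hi)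
  exact MorphismProperty.RespectsIso.precomp (RepWith thick) e _ hab

theorem separated_iff : IsSeparatedMor f ↔ IsSeparatedMor f' := by
  obtain ⟨D, hD, hc⟩ := exists_diagonal_square hj w hi
  have hPa := isAlgSpace_pullback hY hX hX f f
  have hP'a := isAlgSpace_pullback hY' hX' hX' f' f'
  have key : ∀ {F G : Sp S} (hF : IsAlgSpace F) (h : F ⟶ G),
      IsSeparatedMor h ↔ IsUnivClosedMor (pullback.diagonal h) := by
    intro F G hF h
    have hp := diagonal_props hF h
    rw [← repWith_universallyClosed_iff _ hp.1]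
    refine ⟨fun h => ⟨h.1, fun _ _ g fst snd sq => ?_⟩, fun h' => ⟨h'.1, fun _ _ g fst snd sq => ?_⟩⟩
    · have : IsClosedImmersion snd.left := h.2 g fst snd sq
      exact (inferInstance : UniversallyClosed snd.left)
    · have : UniversallyClosed snd.left := h'.2 g fst snd sq
      have : LocallyOfFiniteType snd.left := hp.2.1.2 g fst snd sq
      have : Mono snd.left := hp.2.2.1.2 g fst snd sq
      have : IsProper snd.left := { }
      exact (IsClosedImmersion.iff_isProper_and_mono snd.left).2 ⟨inferInstance, inferInstance⟩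
  rw [key hX, key hX']
  exact univClosed_iff hX hX' hPa hP'a hi hD hc

theorem quasiSeparated_iff : IsQuasiSeparatedMor f ↔ IsQuasiSeparatedMor f' := by
  obtain ⟨D, hD, hc⟩ := exists_diagonal_square hj w hi
  have hPa := isAlgSpace_pullback hY hX hX f f
  have hP'a := isAlgSpace_pullback hY' hX' hX' f' f'
  change RepWith @QuasiCompact _ ↔ RepWith @QuasiCompact _
  rw [repWith_quasiCompact_iff hPa _ (diagonal_props hX f).1,
    repWith_quasiCompact_iff hP'a _ (diagonal_props hX' f').1]
  exact quasiCompact_iff hX hX' hPa hP'a hi hD hc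

end Groth.Agent.AlgSpCov.ThickTopo
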