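import Groth.Prelude.Def_W4decUnivBdd
import Groth.Agent.AlgSpB.Points
import Groth.Agent.Wt.Degree
import Mathlib.RingTheory.Spectrum.Prime.Noetherian

/-!
# Universally bounded fibres
-/

set_option autoImplicit false
set_option backward.isDefEq.respectTransparency.types false

universe u

open CategoryTheory CategoryTheory.Limits AlgebraicGeometry

namespace Groth.Agent.AlgSpCov

/-- A finite scheme over a field has at most as many points as its degree. -/
theorem encard_points_le_finrank {K : Type u} [Field K] {P : Scheme.{u}}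
    (π : P ⟶ Spec (CommRingCat.of K)) [IsFinite π] {n : ℕ} (h : ∀ v, π.finrank v ≤ n) :
    (Set.univ : Set P).encard ≤ n := by
  have : IsAffine P := isAffine_of_isAffineHom π
  let := ((Scheme.ΓSpecIso (CommRingCat.of K)).inv ≫ π.appTop).hom.toAlgebra
  let v : Spec (CommRingCat.of K) := IsLocalRing.closedPoint K
  have hr : Module.rank K (Γ(P, ⊤) : Type u) = (π.finrank v : Cardinal.{u}) :=
    Groth.Agent.Wt.Degree.rank_eq_finrank π v
  have : Module.Finite K Γ(P, ⊤) :=
    Module.rank_lt_aleph0_iff.1 (by rw [hr]; exact Cardinal.natCast_lt_aleph0)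
  have hfr : Module.finrank K Γ(P, ⊤) = π.finrank v := Module.finrank_eq_of_rank_eq hr
  have : IsArtinianRing Γ(P, ⊤) := IsArtinianRing.of_finite K _
  have := Fintype.ofFinite (PrimeSpectrum Γ(P, ⊤))
  have hcard : Fintype.card (PrimeSpectrum Γ(P, ⊤)) ≤ n := by
    refine le_trans ?_ (h v)
    rw [← hfr, IsArtinianRing.finrank_eq_sum_primeSpectrum Γ(P, ⊤) K]
    refine le_of_eq_of_le (by simp) (Finset.sum_le_sum fun p _ => (?_ : 1 ≤ _))
    have : Module.Finite K (Localization.AtPrime p.asIdeal) := Module.Finite.of_surjective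
      (Algebra.algHom K Γ(P, ⊤) (Localization.AtPrime p.asIdeal)).toLinearMap
      (IsArtinianRing.localization_surjective p.asIdeal.primeCompl _)
    exact Module.finrank_pos
  let e : P ≃ PrimeSpectrum Γ(P, ⊤) := (Scheme.homeoOfIso P.isoSpec).toEquiv
  rw [Set.encard_univ, ENat.card_congr e, ENat.card_eq_coe_fintype_card]
  exact_mod_cast hcard

open _root_.AlgSp

variable {S : Scheme.{u}}

theorem encard_fibre_le {X : Sp S} {U : Over S} {φ : (yon S).obj U ⟶ X} (hφr : Representable φ) {n : ℕ}
    (hφ : W4dec.DegFibresLE n φ) (x : Points X) : (Points.ofPt φ ⁻¹' {x}).encard ≤ n := by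
  obtain ⟨q, hq⟩ := AlgSpB.exists_eq_ofPt_toHom x
  obtain ⟨T, fst, snd, sq⟩ := AlgSpB.exists_pullback_yon hφr q.toHom
  obtain ⟨hfin, hle⟩ := hφ q T snd _ sq.flip
  calc (Points.ofPt φ ⁻¹' {x}).encard ≤ (fst.left '' Set.univ).encard := Set.encard_le_encard fun u hu => by
        obtain ⟨w, hw, -⟩ := (AlgSpB.ofPt_eq_ofPt_iff sq u (IsLocalRing.closedPoint q.K)).1 (hu.trans (hq _).symm)
        exact ⟨w, trivial, hw⟩
    _ ≤ (Set.univ : Set T.left).encard := Set.encard_image_le _ _
    _ ≤ n := encard_points_le_finrank snd.left hle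

end Groth.Agent.AlgSpCov
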