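import Groth.Agent.AlgSpCov.RankBound
import Groth.Agent.AlgSpCov.UnivBdd
import Groth.Agent.FpqcDesc.Props

/-!
# Operations on universally bounded fibres

* `bdd_of_sq`: base changes to schemes of a morphism with bounded fibres have bounded fibres;
* `bdd_of_surjective_flat`: descent of a bound along a surjective flat source cover;
* `finite_of_field_bc`: descent of a bound along a field extension.
-/

set_option autoImplicit false
set_option backward.isDefEq.respectTransparency false

universe u

open CategoryTheory CategoryTheory.Limits AlgebraicGeometry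

namespace Groth.Agent.AlgSpCov.UnivBddOps

open DegStrata RankBound

variable {S : Scheme.{u}}

theorem bdd_of_sq {F : AlgSp.Sp S} {W U Q : Over S} {a : (AlgSp.yon S).obj W ⟶ F} {n : ℕ}
    (hb : W4dec.DegFibresLE n a) {t : (AlgSp.yon S).obj U ⟶ F}
    {fst : (AlgSp.yon S).obj Q ⟶ (AlgSp.yon S).obj W} {π : Q ⟶ U}
    (sq : IsPullback fst ((AlgSp.yon S).map π) a t) : Bdd n π.left := by
  intro K _ g
  let G : Over.mk (g ≫ U.hom) ⟶ U := Over.homMk g rfl
  let q : AlgSp.FieldPt F := ⟨K, g ≫ U.hom, (AlgSp.J S).uliftYonedaEquiv ((AlgSp.yon S).map G ≫ t)⟩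
  have hq : q.toHom = (AlgSp.yon S).map G ≫ t :=
    (AlgSp.J S).uliftYonedaEquiv.symm_apply_apply _
  let Q' : Over S := Over.mk (pullback.snd π.left g ≫ g ≫ U.hom)
  let c : Q' ⟶ Over.mk (g ≫ U.hom) := Over.homMk (pullback.snd π.left g) rfl
  let pr : Q' ⟶ Q := Over.homMk (pullback.fst π.left g) (by
    show pullback.fst π.left g ≫ Q.hom = pullback.snd π.left g ≫ g ≫ U.hom
    rw [← pullback.condition_assoc, Over.w π])
  have sq' : IsPullback pr c π G :=
    IsPullback.of_map (Over.forget S) (Over.OverMorphism.ext pullback.condition)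
      (IsPullback.of_hasPullback π.left g)
  have big := ((sq'.map (AlgSp.yon S)).paste_horiz sq).flip
  exact hb q Q' c ((AlgSp.yon S).map pr ≫ fst) (by rw [hq]; exact big)

variable {K : Type u} [Field K]

theorem bdd_of_empty {P : Scheme.{u}} [IsEmpty P] (π : P ⟶ Spec (CommRingCat.of K)) (n : ℕ) :
    IsFinite π ∧ ∀ v, π.finrank v ≤ n := by
  have h := bdd_of_cover π (fun e : PEmpty.{u + 1} => e.elim)
    (TopologicalSpace.Opens.ext (Set.eq_univ_of_forall fun x : P => isEmptyElim x)) (fun e => e.elim)
    (fun e => e.elim)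
  exact ⟨h.1, fun v => (h.2 v).trans (by simp)⟩

theorem bdd_of_field_bc {L : Type u} [Field L] {P : Scheme.{u}} (π : P ⟶ Spec (CommRingCat.of K))
    (g : Spec (CommRingCat.of L) ⟶ Spec (CommRingCat.of K)) {n : ℕ}
    (h : IsFinite (pullback.snd π g) ∧ ∀ v, (pullback.snd π g).finrank v ≤ n) :
    IsFinite π ∧ ∀ v, π.finrank v ≤ n := by
  have := h.1
  have hs : Surjective g := ⟨fun x => ⟨IsLocalRing.closedPoint L, Subsingleton.elim _ _⟩⟩
  have hg : Flat g := by
    obtain ⟨φ, rfl⟩ := Spec.map_surjective g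
    rw [Flat.SpecMap_iff]
    algebraize [φ.hom]
    exact inferInstanceAs (Module.Flat K L)
  have hq : QuasiCompact g := (quasiCompact_iff_compactSpace g).2 inferInstance
  have := FpqcDesc.descendsAlong_isFinite.{u}
  have hfin : IsFinite π :=
    MorphismProperty.of_pullback_snd_of_descendsAlong (P := @IsFinite) (Q := FpqcDesc.FPQC) (f := π) (g := g)
      ⟨⟨hs, hg⟩, hq⟩ h.1
  refine ⟨hfin, fun v => ?_⟩
  have := flat_over_field π
  obtain ⟨v', rfl⟩ := g.surjective v
  rw [← Scheme.Hom.finrank_pullback_snd]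
  exact h.2 v'

theorem bdd_of_surjective_flat {P Q : Scheme.{u}} (h : P ⟶ Q) [Surjective h] [Flat h]
    (π : Q ⟶ Spec (CommRingCat.of K)) {n : ℕ} (hb : IsFinite (h ≫ π) ∧ ∀ v, (h ≫ π).finrank v ≤ n) :
    IsFinite π ∧ ∀ v, π.finrank v ≤ n := by
  have := hb.1
  have : IsLocallyArtinian P := IsLocallyArtinian.of_locallyQuasiFinite (h ≫ π)
  have : CompactSpace P := QuasiCompact.compactSpace_of_compactSpace (h ≫ π)
  have : Finite P := finite_of_compact_of_discrete
  have : Finite Q := Finite.of_surjective _ h.surjective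
  have : T1Space Q := by
    refine t1Space_iff_specializes_imp_eq.2 fun {x y} hxy => ?_
    obtain ⟨b, rfl⟩ := h.surjective y
    obtain ⟨a, hab, rfl⟩ := Flat.generalizingMap h hxy
    rw [Specializes.eq hab]
  have : DiscreteTopology Q := DiscreteTopology.of_finite_of_isClosed_singleton fun x => isClosed_singleton
  have : IsAffine Q := inferInstance
  have : IsAffine P := inferInstance
  have hinj : Function.Injective h.appTop := by
    have e := Scheme.isoSpec_hom_naturality h
    have hf : Flat (Spec.map h.appTop) := by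
      rw [← MorphismProperty.cancel_left_of_respectsIso @Flat P.isoSpec.hom, e]
      infer_instance
    have hs : Surjective (Spec.map h.appTop) := by
      rw [← MorphismProperty.cancel_left_of_respectsIso @Surjective P.isoSpec.hom, e]
      infer_instance
    have : h.appTop.hom.FaithfullyFlat :=
      RingHom.FaithfullyFlat.iff_flat_and_comap_surjective.2 ⟨Flat.SpecMap_iff.1 hf, hs.surj⟩
    exact this.injective
  have hft : LocallyOfFiniteType π ∧ IsFinite π := by
    obtain ⟨aP, hAP, hfP, eP, hrP⟩ := exists_algebra (h ≫ π)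
    obtain ⟨φ, hφ⟩ := Spec.map_surjective (Q.isoSpec.inv ≫ π)
    letI := φ.hom.toAlgebra
    let L : Γ(Q, ⊤) →ₐ[K] Γ(P, ⊤) :=
      { h.appTop.hom with commutes' := fun a => appTop_algebraMap h hφ.symm eP rfl a }
    have : Module.Finite K Γ(Q, ⊤) := Module.Finite.of_injective L.toLinearMap hinj
    have : IsFinite (Q.isoSpec.inv ≫ π) := by
      rw [← hφ, IsFinite.SpecMap_iff]
      exact this
    have : IsFinite π := (MorphismProperty.cancel_left_of_respectsIso @IsFinite Q.isoSpec.inv π).1 this
    exact ⟨inferInstance, this⟩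
  have := hft.2
  refine ⟨hft.2, fun v => ?_⟩
  refine (finrank_le_sum π (fun _ : Unit => P) (fun _ => h) (fun _ => n) (fun _ => hb.2)
    (fun s hs => hinj ((hs ()).trans (map_zero _).symm)) v).trans (by simp)

end Groth.Agent.AlgSpCov.UnivBddOps

namespace Groth.Agent.AlgSpCov.UnivBddOps

theorem finite_fibre_of_bdd {P T : Scheme.{u}} {n : ℕ} {π : P ⟶ T} (hb : DegStrata.Bdd n π) (y : T) :
    (π ⁻¹' {y}).Finite := by
  have : IsFinite (π.fiberToSpecResidueField y) := (hb (T.residueField y) (T.fromSpecResidueField y)).1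
  have : CompactSpace (π.fiber y) := QuasiCompact.compactSpace_of_compactSpace (π.fiberToSpecResidueField y)
  have : IsLocallyArtinian (π.fiber y) := IsLocallyArtinian.of_locallyQuasiFinite (π.fiberToSpecResidueField y)
  have : Finite (π.fiber y) := finite_of_compact_of_discrete
  rw [← Scheme.Hom.range_fiberι]
  exact Set.finite_range _

end Groth.Agent.AlgSpCov.UnivBddOps
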