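import Groth.Agent.AlgSpCov.QfBdd
import Groth.Agent.S10424
import Groth.Agent.AlgSpD.HasAt

/-!
# Bounds on the fibres of etale charts

* `degFibresLE_yon`: bounded morphisms of schemes;
* `degFibresLE_bc`: base change;
* `degFibresLE_of_family`: descent along a finite jointly surjective flat family;
* `hasUnivBdd_of_family`: a quasi-compact chart is bounded as soon as some covering family of charts is.
-/

set_option autoImplicit false
set_option backward.isDefEq.respectTransparency false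

universe u

open CategoryTheory CategoryTheory.Limits AlgebraicGeometry

namespace Groth.Agent.AlgSpCov.BddCharts

open DegStrata RankBound UnivBddOps

open Groth.Agent

variable {S : Scheme.{u}}

theorem degFibresLE_yon {U V : Over S} {f : U ⟶ V} {n : ℕ} (hf : Bdd n f.left) :
    W4dec.DegFibresLE n ((AlgSp.yon S).map f) := by
  intro q T c snd sq
  obtain ⟨G, hG⟩ := (AlgSp.yon S).map_surjective q.toHom
  obtain ⟨snd', rfl⟩ := (AlgSp.yon S).map_surjective snd
  rw [← hG] at sq
  have sqS : IsPullback c.left snd'.left G.left f.left :=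
    (sq.of_map_of_faithful (F := AlgSp.yon S)).map (Over.forget S)
  obtain ⟨h1, h2⟩ := hf q.K G.left
  have hflat := flat_over_field (pullback.snd f.left G.left)
  have e : sqS.flip.isoPullback.hom ≫ pullback.snd f.left G.left = c.left := sqS.flip.isoPullback_hom_snd
  refine ⟨e ▸ inferInstance, fun v => ?_⟩
  rw [← e, Scheme.Hom.finrank_comp_left_of_isIso]
  exact h2 v

theorem degFibresLE_bc {F G : AlgSp.Sp S} {g : F ⟶ G} {U V : Over S} {a : (AlgSp.yon S).obj U ⟶ G}
    {fst : (AlgSp.yon S).obj V ⟶ (AlgSp.yon S).obj U} {a' : (AlgSp.yon S).obj V ⟶ F}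
    (sq : IsPullback fst a' a g) {n : ℕ} (ha : W4dec.DegFibresLE n a) : W4dec.DegFibresLE n a' := by
  intro q T c snd sqT
  obtain ⟨G', hG'⟩ : ∃ G' : AlgSp.FieldPt G, G'.pt = q.pt ∧ G' = q.map g := ⟨_, rfl, rfl⟩
  have big := sqT.flip.paste_horiz sq
  have h := ha (q.map g) T c (snd ≫ fst) (by rw [AlgSp.FieldPt.toHom_map]; exact big.flip)
  exact h

theorem bdd_sigma {K : Type u} [Field K] {ι : Type u} [Fintype ι] (P : ι → Scheme.{u})
    (π : ∀ k, P k ⟶ Spec (CommRingCat.of K)) (n : ι → ℕ)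
    (h : ∀ k, IsFinite (π k) ∧ ∀ v, (π k).finrank v ≤ n k) :
    IsFinite (Sigma.desc π) ∧ ∀ v, (Sigma.desc π).finrank v ≤ ∑ k, n k := by
  refine bdd_of_cover (Sigma.desc π) (fun k => (Sigma.ι P k).opensRange) ?_ n fun k => ?_
  · refine TopologicalSpace.Opens.ext (Set.eq_univ_of_forall fun z : ↥(∐ P) => ?_)
    obtain ⟨k, y, hy⟩ := (sigmaOpenCover P).exists_eq z
    exact TopologicalSpace.Opens.mem_iSup.2 ⟨k, ⟨y, hy⟩⟩
  · have e : (Sigma.ι P k).opensRange.ι ≫ Sigma.desc π = (Sigma.ι P k).isoOpensRange.inv ≫ π k := by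
      rw [← Scheme.Hom.isoOpensRange_inv_comp (Sigma.ι P k), Category.assoc, Sigma.ι_desc]
    obtain ⟨h1, h2⟩ := h k
    have hflat := flat_over_field (π k)
    rw [e]
    refine ⟨inferInstance, fun v => ?_⟩
    rw [Scheme.Hom.finrank_comp_left_of_isIso]
    exact h2 v

theorem degFibresLE_of_family {X : AlgSp.Space S} {V : Over S} (ψ : (AlgSp.yon S).obj V ⟶ X.obj)
    {ι : Type u} [Fintype ι] (W : ι → Over S) (p : ∀ k, W k ⟶ V) (hp : ∀ k, Flat (p k).left)
    (hs : ∀ v : ↥V.left, ∃ k, v ∈ Set.range (p k).left) (n : ι → ℕ)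
    (h : ∀ k, W4dec.DegFibresLE (n k) ((AlgSp.yon S).map (p k) ≫ ψ)) :
    W4dec.DegFibresLE (∑ k, n k) ψ := by
  intro q T c snd sq
  obtain ⟨snd', rfl⟩ := (AlgSp.yon S).map_surjective snd
  let P : ι → Scheme.{u} := fun k => pullback snd'.left (p k).left
  have hk : ∀ k, IsFinite (pullback.fst snd'.left (p k).left ≫ c.left) ∧
      ∀ v, (pullback.fst snd'.left (p k).left ≫ c.left).finrank v ≤ n k := by
    intro k
    let T' : Over S := Over.mk (pullback.fst snd'.left (p k).left ≫ T.hom)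
    let a : T' ⟶ T := Over.homMk (pullback.fst snd'.left (p k).left) rfl
    let r : T' ⟶ W k := Over.homMk (pullback.snd snd'.left (p k).left) (by
      show pullback.snd snd'.left (p k).left ≫ (W k).hom = pullback.fst snd'.left (p k).left ≫ T.hom
      rw [← Over.w (p k), ← pullback.condition_assoc, Over.w snd'])
    have sq' : IsPullback a r snd' (p k) :=
      IsPullback.of_map (Over.forget S) (Over.OverMorphism.ext pullback.condition)
        (IsPullback.of_hasPullback snd'.left (p k).left)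
    have big := (sq'.map (AlgSp.yon S)).paste_horiz sq
    rw [← Functor.map_comp] at big
    exact h k q T' (a ≫ c) _ big
  let d : ∐ P ⟶ T.left := Sigma.desc fun k => pullback.fst snd'.left (p k).left
  have hd : Sigma.desc (fun k => pullback.fst snd'.left (p k).left ≫ c.left) = d ≫ c.left := by
    refine Sigma.hom_ext _ _ fun k => ?_
    simp only [d, P]
    erw [Sigma.ι_desc, Sigma.ι_desc_assoc]
  have : Flat d := IsZariskiLocalAtSource.sigmaDesc fun k =>
    MorphismProperty.pullback_fst (P := @Flat) _ _ (hp k)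
  have : Surjective d := ⟨fun t => by
    obtain ⟨k, w, hw⟩ := hs (snd'.left t)
    obtain ⟨z, hz, -⟩ := Scheme.Pullback.exists_preimage_pullback (f := snd'.left) (g := (p k).left) t w hw.symm
    refine ⟨Sigma.ι P k z, ?_⟩
    rw [← Scheme.Hom.comp_apply, Sigma.ι_desc]
    exact hz⟩
  exact bdd_of_surjective_flat d c.left (hd ▸ bdd_sigma P _ n hk)

theorem hasUnivBdd_of_family (X : AlgSp.Space S) {ι : Type*} (U : ι → Over S)
    (φ : ∀ i, (AlgSp.yon S).obj (U i) ⟶ X.obj) (hφ : ∀ i, AlgSp.RepWith @Etale (φ i))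
    (hsurj : ∀ x : AlgSp.Points X.obj, ∃ (i : ι) (v : ↥(U i).left), AlgSp.Points.ofPt (φ i) v = x)
    (hb : ∀ i, W4dec.HasUnivBddFibres (φ i)) {V : Over S} [CompactSpace ↥V.left]
    (ψ : (AlgSp.yon S).obj V ⟶ X.obj) (hψ : AlgSp.RepWith @Etale ψ) : W4dec.HasUnivBddFibres ψ := by
  classical
  have key : ∀ v : ↥V.left, ∃ (W : Over S) (p : W ⟶ V) (n : ℕ), Etale p.left ∧ v ∈ Set.range p.left ∧
      W4dec.DegFibresLE n ((AlgSp.yon S).map p ≫ ψ) := by
    intro v
    obtain ⟨i, u, hu⟩ := hsurj (AlgSp.Points.ofPt ψ v)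
    obtain ⟨R, p, q, r, sq, hp, hq, hr1, hr2⟩ := AlgSpD.exists_common_chart hψ (hφ i) hu.symm
    obtain ⟨O, hO, hrO, -⟩ := exists_isAffineOpen_mem_and_subset (x := r) (U := ⊤) trivial
    let W : Over S := Over.mk (O.ι ≫ R.hom)
    let j : W ⟶ R := Over.homMk O.ι rfl
    have : IsAffine W.left := hO
    have hj : Etale j.left := inferInstanceAs (Etale O.ι)
    have : Etale (j ≫ q).left := MorphismProperty.comp_mem (W := @Etale) _ _ hj hq
    have := AlgSpD.locallyQuasiFinite_of_etale (j ≫ q).left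
    obtain ⟨m, hm⟩ := QfBdd.exists_bdd (j ≫ q).left
    obtain ⟨n, hn⟩ := S10424.result X (j ≫ q) (φ i) ⟨m, degFibresLE_yon hm⟩ (hb i)
    refine ⟨W, j ≫ p, n, MorphismProperty.comp_mem (W := @Etale) _ _ hj hp, ⟨(⟨r, hrO⟩ : ↥O), hr1⟩, ?_⟩
    rw [Functor.map_comp, Category.assoc, sq.w, ← Category.assoc, ← Functor.map_comp]
    exact hn
  choose W p n hp hv hn using key
  obtain ⟨t, ht⟩ := isCompact_univ.elim_finite_subcover (fun v => Set.range (p v).left)
    (fun v => by have := hp v; exact (p v).left.isOpenMap.isOpen_range) fun v _ => Set.mem_iUnion.2 ⟨v, hv v⟩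
  refine ⟨∑ v : t, n v.1, degFibresLE_of_family ψ (fun v : t => W v.1) (fun v => p v.1)
    (fun v => by have := hp v.1; infer_instance) (fun x => ?_) _ fun v => hn v.1⟩
  obtain ⟨v, hvt, hx⟩ := Set.mem_iUnion₂.1 (ht (Set.mem_univ x))
  exact ⟨⟨v, hvt⟩, hx⟩

end Groth.Agent.AlgSpCov.BddCharts
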