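import Groth.Prelude.Def_W4decUnivBdd
import Groth.Prelude.Def_AlgSpMor5
import Groth.Prelude.Def_AlgSpSub
import Groth.Agent.Wt.Degree
import Groth.Agent.AlgSpB.RedInduced
import Groth.Agent.AlgSpB.Points
import Groth.Agent.AlgSpD.HasAt
import Groth.Agent.AlgSpCov.Sheaf

/-!
# The degree function of a flat, separated, lfp, lqf morphism with universally bounded fibres

* `Bdd`: fibres finite of bounded rank; `D` the fibre integral of the flat weight;
* `D_bc`: invariance under arbitrary base change;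
* `finLocFreeOfDeg_iff`: finite locally free of degree `r` iff `D` is constantly `r`;
* `exists_degree`: the degree function on the points of the algebraic space.
-/

set_option autoImplicit false
set_option backward.isDefEq.respectTransparency false

universe u

open CategoryTheory CategoryTheory.Limits AlgebraicGeometry

namespace Groth.Agent.AlgSpCov.DegStrata

open Groth.Agent Groth.Agent.Wt

variable {P T P' T' : Scheme.{u}}

/-- All fibres over field-valued points are finite of rank at most `n`. -/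
def Bdd (n : ℕ) (π : P ⟶ T) : Prop :=
  ∀ (K : Type u) [Field K] (g : Spec (CommRingCat.of K) ⟶ T),
    IsFinite (pullback.snd π g) ∧ ∀ s, (pullback.snd π g).finrank s ≤ n

/-- The degree function. -/
noncomputable def D (π : P ⟶ T) (t : T) : ℤ := MoreMor.fibreIntegral π (FlatWt.wt π) t

theorem Bdd.finite_and_le {n : ℕ} {π : P ⟶ T} (h : Bdd n π) [Flat π] [LocallyOfFinitePresentation π]
    [LocallyQuasiFinite π] [IsSeparated π] (t : T) : (π ⁻¹' {t}).Finite ∧ D π t ≤ n :=
  Degree.finite_and_le π n (fun K _ g => by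
    have := (h K g).1
    refine le_of_eq_of_le (Degree.rank_eq_finrank (pullback.snd π g) (IsLocalRing.closedPoint K)) ?_
    exact_mod_cast (h K g).2 _) t

theorem D_bc {π : P ⟶ T} {π' : P' ⟶ T'} {a : P' ⟶ P} {g : T' ⟶ T} (sq : IsPullback a π' π g)
    [Flat π] [LocallyOfFinitePresentation π] [LocallyQuasiFinite π] [IsSeparated π]
    [Flat π'] [LocallyOfFinitePresentation π'] [LocallyQuasiFinite π'] [IsSeparated π']
    (hfin : ∀ t, (π ⁻¹' {t}).Finite) (hfin' : ∀ t, (π' ⁻¹' {t}).Finite) (t' : T') :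
    D π' t' = D π (g t') := by
  obtain ⟨tb, htb⟩ := GeomPts.exists_geomPt t'
  obtain ⟨h1, h1'⟩ := Degree.exists_finite_geomFibre π' t' (hfin' t') tb htb
  obtain ⟨h2, h2'⟩ := Degree.exists_finite_geomFibre π (g t') (hfin _) (tb ≫ g)
    (by rw [GeomPts.pt_comp, htb])
  let v : Spec (CommRingCat.of (AlgebraicClosure (T'.residueField t'))) := IsLocalRing.closedPoint _
  have sq' := (IsPullback.of_hasPullback π' tb).paste_horiz sq
  rw [D, D, ← h1' v, ← h2' v]
  congr 1
  rw [← Scheme.Hom.finrank_comp_left_of_isIso sq'.isoPullback.inv (pullback.snd π' tb)]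
  simp [IsPullback.isoPullback_inv_snd]

theorem finLocFreeOfDeg_iff {π : P ⟶ T} [Flat π] [LocallyOfFinitePresentation π] [LocallyQuasiFinite π]
    [IsSeparated π] (hfin : ∀ t, (π ⁻¹' {t}).Finite) (r : ℕ) :
    Mor2.IsFinLocFreeOfDeg r π ↔ ∀ t, D π t = r := by
  constructor
  · rintro ⟨⟨hf, -, -⟩, hd⟩ t
    rw [D, FlatWt.fibreIntegral_eq_finrank π t, hd t]
  · intro h
    have hres : IsFinite (π ∣_ ⊤) := LSC.isFinite_morphismRestrict π hfin (FlatWt.isWeighting_wt π)
      (FlatWt.wt_pos π) r ⊤ (fun y _ => h y)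
    have : IsFinite π := (IsZariskiLocalAtTarget.iff_of_iSup_eq_top (P := @IsFinite)
      (fun _ : Unit => (⊤ : T.Opens)) (by simp)).2 (fun _ => hres)
    refine ⟨⟨this, inferInstance, inferInstance⟩, fun t => ?_⟩
    have := h t
    rw [D, FlatWt.fibreIntegral_eq_finrank π t] at this
    exact_mod_cast this

theorem isOpen_lt {π : P ⟶ T} [Flat π] [LocallyOfFinitePresentation π] [LocallyQuasiFinite π]
    [IsSeparated π] (hfin : ∀ t, (π ⁻¹' {t}).Finite) (c : ℤ) : IsOpen {t | c < D π t} :=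
  (LSC.lowerSemicontinuous_fibreIntegral π hfin (FlatWt.isWeighting_wt π) (FlatWt.wt_pos π)).isOpen_preimage c

section Space

variable {S : Scheme.{u}} {X : AlgSp.Space S} {W : Over S} {w : (AlgSp.yon S).obj W ⟶ X.obj}

/-- Base changes of `w` are good. -/
theorem good (hfl : AlgSp.RepWith @Flat w) (hfp : AlgSp.RepWith @LocallyOfFinitePresentation w)
    (hsep : AlgSp.RepWith @IsSeparated w) (hqf : AlgSp.RepWith @LocallyQuasiFinite w) {n : ℕ}
    (hb : W4dec.DegFibresLE n w) {U Q : Over S} {t : (AlgSp.yon S).obj U ⟶ X.obj}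
    {fst : (AlgSp.yon S).obj Q ⟶ (AlgSp.yon S).obj W} {π : Q ⟶ U}
    (sq : IsPullback fst ((AlgSp.yon S).map π) w t) :
    Flat π.left ∧ LocallyOfFinitePresentation π.left ∧ IsSeparated π.left ∧ LocallyQuasiFinite π.left ∧
      Bdd n π.left := by
  refine ⟨hfl.2 _ _ _ sq, hfp.2 _ _ _ sq, hsep.2 _ _ _ sq, hqf.2 _ _ _ sq, fun K _ g => ?_⟩
  let G : Over.mk (g ≫ U.hom) ⟶ U := Over.homMk g rfl
  let q : AlgSp.FieldPt X.obj :=
    ⟨K, g ≫ U.hom, (AlgSp.J S).uliftYonedaEquiv ((AlgSp.yon S).map G ≫ t)⟩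
  have hq : q.toHom = (AlgSp.yon S).map G ≫ t :=
    (AlgSp.J S).uliftYonedaEquiv.symm_apply_apply _
  let Q' : Over S := Over.mk (pullback.snd π.left g ≫ g ≫ U.hom)
  let c : Q' ⟶ Over.mk (g ≫ U.hom) := Over.homMk (pullback.snd π.left g) rfl
  let pr : Q' ⟶ Q := Over.homMk (pullback.fst π.left g) (by
    show pullback.fst π.left g ≫ Q.hom = pullback.snd π.left g ≫ g ≫ U.hom
    rw [← pullback.condition_assoc, Over.w π])
  have sq' : IsPullback pr c π G :=
    IsPullback.of_map (Over.forget S) (Over.OverMorphism.ext pullback.condition)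
      (IsPullback.of_hasPullback π.left g)
  have big := ((sq'.map (AlgSp.yon S)).paste_horiz sq).flip
  exact hb q Q' c ((AlgSp.yon S).map pr ≫ fst) (by rw [hq]; exact big)

/-- The degree function on points. -/
theorem exists_degree (hfl : AlgSp.RepWith @Flat w) (hfp : AlgSp.RepWith @LocallyOfFinitePresentation w)
    (hsep : AlgSp.RepWith @IsSeparated w) (hqf : AlgSp.RepWith @LocallyQuasiFinite w) {n : ℕ}
    (hb : W4dec.DegFibresLE n w) :
    ∃ d : AlgSp.Points X.obj → ℤ, (∀ x, d x ≤ n) ∧ (∀ x, 0 ≤ d x) ∧ (∀ c, IsClosed {x | d x ≤ c}) ∧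
      ∀ (U Q : Over S) (t : (AlgSp.yon S).obj U ⟶ X.obj)
        (fst : (AlgSp.yon S).obj Q ⟶ (AlgSp.yon S).obj W) (π : Q ⟶ U),
        IsPullback fst ((AlgSp.yon S).map π) w t → ∀ u : ↥U.left, d (AlgSp.Points.ofPt t u) = D π.left u := by
  obtain ⟨V, a, ha, hs⟩ := X.property.atlas
  obtain ⟨P, f₀, π₀, sq₀⟩ := AlgSpB.exists_pullback_yon hfl.1 a
  have hsur := AlgSpB.surjective_ofPt hs
  obtain ⟨i1, i2, i3, i4, i5⟩ := good hfl hfp hsep hqf hb sq₀
  have hfin : ∀ v, (π₀.left ⁻¹' {v}).Finite := fun v => (i5.finite_and_le v).1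
  let d : AlgSp.Points X.obj → ℤ := fun x => D π₀.left (Function.surjInv hsur x)
  have key : ∀ (U Q : Over S) (t : (AlgSp.yon S).obj U ⟶ X.obj)
      (fst : (AlgSp.yon S).obj Q ⟶ (AlgSp.yon S).obj W) (π : Q ⟶ U),
      IsPullback fst ((AlgSp.yon S).map π) w t → ∀ u : ↥U.left, d (AlgSp.Points.ofPt t u) = D π.left u := by
    intro U Q t fst π sq u
    obtain ⟨j1, j2, j3, j4, j5⟩ := good hfl hfp hsep hqf hb sq
    have hfinU : ∀ u, (π.left ⁻¹' {u}).Finite := fun u => (j5.finite_and_le u).1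
    obtain ⟨R, p, q, sqR⟩ := AlgSpB.exists_pullback_yon ha.1 t
    obtain ⟨r, hr1, hr2⟩ := (AlgSpB.ofPt_eq_ofPt_iff sqR _ u).1
      (Function.surjInv_eq hsur (AlgSp.Points.ofPt t u))
    obtain ⟨Q', f', π', sqQ⟩ := AlgSpB.exists_pullback_yon hfl.1 ((AlgSp.yon S).map q ≫ t)
    obtain ⟨k1, k2, k3, k4, k5⟩ := good hfl hfp hsep hqf hb sqQ
    have hfinR : ∀ r, (π'.left ⁻¹' {r}).Finite := fun r => (k5.finite_and_le r).1
    let l₀ := sq₀.lift ((AlgSp.yon S).map f') ((AlgSp.yon S).map π' ≫ (AlgSp.yon S).map p)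
      (by rw [sqQ.w, Category.assoc, sqR.w])
    let lU := sq.lift ((AlgSp.yon S).map f') ((AlgSp.yon S).map π' ≫ (AlgSp.yon S).map q)
      (by rw [sqQ.w, Category.assoc])
    have h0 : IsPullback l₀ ((AlgSp.yon S).map π') ((AlgSp.yon S).map π₀) ((AlgSp.yon S).map p) := by
      refine IsPullback.of_right ?_ (sq₀.lift_snd _ _ _) sq₀
      rw [sq₀.lift_fst, sqR.w]
      exact sqQ
    have hU : IsPullback lU ((AlgSp.yon S).map π') ((AlgSp.yon S).map π) ((AlgSp.yon S).map q) := by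
      refine IsPullback.of_right ?_ (sq.lift_snd _ _ _) sq
      rw [sq.lift_fst]
      exact sqQ
    obtain ⟨l₀', hl₀⟩ := (AlgSp.yon S).map_surjective l₀
    obtain ⟨lU', hlU⟩ := (AlgSp.yon S).map_surjective lU
    rw [← hl₀] at h0
    rw [← hlU] at hU
    have h0' : IsPullback l₀'.left π'.left π₀.left p.left :=
      (h0.of_map_of_faithful (F := AlgSp.yon S)).map (Over.forget S)
    have hU' : IsPullback lU'.left π'.left π.left q.left :=
      (hU.of_map_of_faithful (F := AlgSp.yon S)).map (Over.forget S)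
    have e1 := D_bc h0' hfin hfinR r
    have e2 := D_bc hU' hfinU hfinR r
    rw [hr1] at e1
    rw [hr2] at e2
    exact e1.symm.trans e2
  refine ⟨d, fun x => (i5.finite_and_le _).2, fun x => ?_, fun c => ?_, key⟩
  · exact finsum_nonneg fun _ => mul_nonneg (FlatWt.wt_pos _ _).le (Nat.cast_nonneg _)
  · rw [← (AlgSpB.isOpenQuotientMap_ofPt ha hs).isQuotientMap.isClosed_preimage]
    have e : AlgSp.Points.ofPt a ⁻¹' {x | d x ≤ c} = {v | c < D π₀.left v}ᶜ := by
      ext v
      simp [key V P a _ π₀ sq₀ v]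
    rw [e]
    exact (isOpen_lt hfin c).isClosed_compl

end Space

end Groth.Agent.AlgSpCov.DegStrata
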