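import Groth.Agent.AlgSpCov.UnivBddOps
import Mathlib.RingTheory.ZariskisMainTheorem

/-!
# Quasi-finite morphisms with quasi-compact source have bounded fibres
-/

set_option autoImplicit false
set_option backward.isDefEq.respectTransparency false

universe u

open CategoryTheory CategoryTheory.Limits AlgebraicGeometry
open scoped TensorProduct

namespace Groth.Agent.AlgSpCov.QfBdd

open DegStrata RankBound UnivBddOps

theorem bdd_of_finite_spec (A S : Type u) [CommRing A] [CommRing S] [Algebra A S] [Module.Finite A S] :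
    ∃ n, Bdd n (Spec.map (CommRingCat.ofHom (algebraMap A S))) := by
  obtain ⟨n, π, hπ⟩ := Module.Finite.exists_fin' A S
  refine ⟨n, fun K _ g => ?_⟩
  obtain ⟨ψ, rfl⟩ := Spec.map_surjective g
  letI := ψ.hom.toAlgebra
  let e := pullbackSymmetry (Spec.map (CommRingCat.ofHom (algebraMap A S)))
    (Spec.map (CommRingCat.ofHom (algebraMap A K))) ≪≫ pullbackSpecIso A K S
  have he : e.hom ≫ Spec.map (CommRingCat.ofHom (algebraMap K (K ⊗[A] S))) =
      pullback.snd (Spec.map (CommRingCat.ofHom (algebraMap A S))) (Spec.map ψ) := by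
    simp only [e, Iso.trans_hom, Category.assoc, pullbackSpecIso_hom_fst']
    exact pullbackSymmetry_hom_comp_fst _ _
  have : IsFinite (Spec.map (CommRingCat.ofHom (algebraMap K (K ⊗[A] S)))) :=
    (IsFinite.SpecMap_iff _).2 (RingHom.finite_algebraMap.2 inferInstance)
  have hflat := flat_over_field (Spec.map (CommRingCat.ofHom (algebraMap K (K ⊗[A] S))))
  refine ⟨by rw [← he]; infer_instance, fun v => ?_⟩
  rw [← he, Scheme.Hom.finrank_comp_left_of_isIso, finrank_Spec]
  have hsurj : Function.Surjective (π.baseChange K) := by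
    intro t
    induction t using TensorProduct.induction_on with
    | zero => exact ⟨0, map_zero _⟩
    | tmul k c =>
      obtain ⟨v, rfl⟩ := hπ c
      exact ⟨k ⊗ₜ v, rfl⟩
    | add a b ha hb =>
      obtain ⟨x, rfl⟩ := ha
      obtain ⟨y, rfl⟩ := hb
      exact ⟨x + y, map_add _ _ _⟩
  refine (LinearMap.finrank_le_finrank_of_surjective hsurj).trans ?_
  cases subsingleton_or_nontrivial A
  · have : Subsingleton K := (algebraMap A K).codomain_trivial
    exact absurd this (not_subsingleton K)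
  · rw [Module.finrank_baseChange, Module.finrank_fin_fun]

variable {X Y Z : Scheme.{u}}

theorem bdd_open_comp {D : Scheme.{u}} (j : D ⟶ X) [IsOpenImmersion j] {f : X ⟶ Y} {n : ℕ} (hf : Bdd n f) :
    Bdd n (j ≫ f) := by
  intro K _ g
  obtain ⟨hfin, hle⟩ := hf K g
  let a : pullback (j ≫ f) g ⟶ pullback f g := pullback.lift (pullback.fst (j ≫ f) g ≫ j) (pullback.snd (j ≫ f) g)
    (by rw [Category.assoc]; exact pullback.condition)
  have sq : IsPullback (pullback.fst (j ≫ f) g) a j (pullback.fst f g) := by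
    refine IsPullback.of_bot ?_ (pullback.lift_fst _ _ _).symm (IsPullback.of_hasPullback f g)
    rw [pullback.lift_snd]
    exact IsPullback.of_hasPullback _ _
  have : IsOpenImmersion a := MorphismProperty.of_isPullback (P := @IsOpenImmersion) sq inferInstance
  have hart : IsLocallyArtinian (pullback f g) := IsLocallyArtinian.of_locallyQuasiFinite (pullback.snd f g)
  have : IsClosedImmersion a := .of_isPreimmersion _ (isClosed_discrete _)
  have ha : a ≫ pullback.snd f g = pullback.snd (j ≫ f) g := pullback.lift_snd _ _ _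
  refine ⟨ha ▸ inferInstance, fun v => ?_⟩
  have hfin' : IsFinite (pullback.snd (j ≫ f) g) := ha ▸ inferInstance
  obtain ⟨aP, hAP, hfP, eP, hrP⟩ := exists_algebra (pullback.snd f g)
  obtain ⟨aQ, hAQ, hfQ, eQ, hrQ⟩ := exists_algebra (pullback.snd (j ≫ f) g)
  let L : Γ(pullback f g, ⊤) →ₐ[K] Γ(pullback (j ≫ f) g, ⊤) :=
    { a.appTop.hom with commutes' := fun c => appTop_algebraMap a eP eQ ha c }
  have hs : Function.Surjective a.appTop :=
    HasAffineProperty.iff_of_isAffine (P := @IsClosedImmersion) |>.1 ‹IsClosedImmersion a› |>.2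
  rw [hrQ v]
  exact (LinearMap.finrank_le_finrank_of_surjective (f := L.toLinearMap) hs).trans ((hrP v).symm.trans_le (hle v))

theorem bdd_iso_comp {D : Scheme.{u}} (e : D ⟶ X) [IsIso e] {f : X ⟶ Y} {n : ℕ} (hf : Bdd n f) : Bdd n (e ≫ f) :=
  bdd_open_comp e hf

theorem bdd_comp_open {f : X ⟶ Y} {n : ℕ} (hf : Bdd n f) (j : Y ⟶ Z) [IsOpenImmersion j] : Bdd n (f ≫ j) := by
  intro K _ g
  by_cases hg : Set.range g ⊆ Set.range j
  · let g' := IsOpenImmersion.lift j g hg
    have hg' : g' ≫ j = g := IsOpenImmersion.lift_fac _ _ _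
    have sq : IsPullback (pullback.fst f g') (pullback.snd f g') (f ≫ j) g := by
      rw [← hg']
      refine IsPullback.of_isLimit' ⟨by rw [← Category.assoc, pullback.condition, Category.assoc]⟩
          (PullbackCone.IsLimit.mk _ (fun s => pullback.lift s.fst s.snd ((cancel_mono j).1 (by simpa using s.condition)))
            (fun s => pullback.lift_fst _ _ _) (fun s => pullback.lift_snd _ _ _)
            (fun s m h1 h2 => pullback.hom_ext (h1.trans (pullback.lift_fst _ _ _).symm)
              (h2.trans (pullback.lift_snd _ _ _).symm)))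
    obtain ⟨h1, h2⟩ := hf K g'
    have hflat := flat_over_field (pullback.snd f g')
    have e : sq.isoPullback.inv ≫ pullback.snd f g' = pullback.snd (f ≫ j) g := sq.isoPullback_inv_snd
    refine ⟨e ▸ inferInstance, fun v => ?_⟩
    rw [← e, Scheme.Hom.finrank_comp_left_of_isIso]
    exact h2 v
  · have : IsEmpty ↥(pullback (f ≫ j) g) := ⟨fun p => hg (by
      rintro _ ⟨s, rfl⟩
      refine ⟨f (pullback.fst (f ≫ j) g p), ?_⟩
      rw [← Scheme.Hom.comp_apply, ← Scheme.Hom.comp_apply, pullback.condition, Scheme.Hom.comp_apply,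
        Subsingleton.elim (pullback.snd (f ≫ j) g p) s])⟩
    exact bdd_of_empty _ n

theorem exists_bdd_near (f : X ⟶ Y) [LocallyQuasiFinite f] [LocallyOfFiniteType f] (x : X) :
    ∃ (D : X.Opens) (n : ℕ), x ∈ D ∧ Bdd n (D.ι ≫ f) := by
  obtain ⟨V, hV, hxV, -⟩ := exists_isAffineOpen_mem_and_subset (TopologicalSpace.Opens.mem_top (f x))
  obtain ⟨U, hU, hxU, hUV⟩ := exists_isAffineOpen_mem_and_subset (x := x) (U := f ⁻¹ᵁ V) hxV
  have h₁ : (f.appLE V U hUV).hom.FiniteType :=
    HasRingHomProperty.appLE @LocallyOfFiniteType f inferInstance ⟨V, hV⟩ ⟨U, hU⟩ hUV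
  have h₂ : (f.appLE V U hUV).hom.QuasiFinite :=
    HasRingHomProperty.appLE @LocallyQuasiFinite f inferInstance ⟨V, hV⟩ ⟨U, hU⟩ hUV
  algebraize [(f.appLE V U hUV).hom]
  let p := hU.primeIdealOf ⟨x, hxU⟩
  obtain ⟨S, hS, r, hr, hbij⟩ :=
    Algebra.QuasiFiniteAt.exists_fg_and_exists_notMem_and_awayMap_bijective (R := Γ(Y, V)) p.asIdeal
  have : Module.Finite Γ(Y, V) S := Module.Finite.iff_fg.mpr hS
  obtain ⟨n, hn⟩ := bdd_of_finite_spec Γ(Y, V) S
  let D : X.Opens := X.basicOpen (r.1 : Γ(X, U))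
  have hxD : x ∈ D := by
    rw [show x = hU.fromSpec p from (hU.fromSpec_primeIdealOf ⟨x, hxU⟩).symm]
    show p ∈ hU.fromSpec ⁻¹ᵁ X.basicOpen (r.1 : Γ(X, U))
    rw [hU.fromSpec_preimage_basicOpen]
    exact hr
  refine ⟨D, n, hxD, ?_⟩
  let L := Localization.Away (r.1 : Γ(X, U))
  let w : CommRingCat.of (Localization.Away r) ⟶ CommRingCat.of L :=
    CommRingCat.ofHom (Localization.awayMap S.val.toRingHom r)
  have : IsIso w := (ConcreteCategory.isIso_iff_bijective w).2 hbij
  let k : Spec (CommRingCat.of L) ⟶ Spec (CommRingCat.of S) :=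
    Spec.map w ≫ Spec.map (CommRingCat.ofHom (algebraMap S (Localization.Away r)))
  have : IsOpenImmersion (Spec.map (CommRingCat.ofHom (algebraMap S (Localization.Away r)))) :=
    IsOpenImmersion.of_isLocalization r
  have hb := bdd_comp_open (bdd_open_comp k hn) hV.fromSpec
  have : IsOpenImmersion (Spec.map (CommRingCat.ofHom (algebraMap Γ(X, U) L))) :=
    IsOpenImmersion.of_isLocalization (r.1 : Γ(X, U))
  let i : Spec (CommRingCat.of L) ⟶ X := Spec.map (CommRingCat.ofHom (algebraMap Γ(X, U) L)) ≫ hU.fromSpec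
  have hk : (k ≫ Spec.map (CommRingCat.ofHom (algebraMap Γ(Y, V) S))) ≫ hV.fromSpec = i ≫ f := by
    simp only [k, i, Category.assoc]
    rw [← IsAffineOpen.SpecMap_appLE_fromSpec f hV hU hUV, ← Spec.map_comp_assoc, ← Spec.map_comp_assoc, ← Spec.map_comp_assoc]
    congr 2
    ext a
    simp only [w, CommRingCat.hom_comp, CommRingCat.hom_ofHom, RingHom.comp_apply, Localization.awayMap, IsLocalization.Away.map]; exact (IsLocalization.map_eq (Q := Localization.Away (S.val.toRingHom r)) _ _).trans rfl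
  rw [hk] at hb
  have hrange : Set.range i = (D : Set X) := by
    simp only [i, Scheme.Hom.comp_base, TopCat.coe_comp, Set.range_comp]
    rw [show Set.range (Spec.map (CommRingCat.ofHom (algebraMap Γ(X, U) L))) =
      (PrimeSpectrum.basicOpen (r.1 : Γ(X, U)) : Set (PrimeSpectrum Γ(X, U))) from
        PrimeSpectrum.localization_away_comap_range L (r.1 : Γ(X, U))]
    exact congrArg (fun O : X.Opens => (O : Set X)) (hU.fromSpec_image_basicOpen _)
  let e : D.toScheme ≅ Spec (CommRingCat.of L) :=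
    IsOpenImmersion.isoOfRangeEq D.ι i (by rw [Scheme.Opens.range_ι, hrange])
  have he : e.hom ≫ i = D.ι := IsOpenImmersion.isoOfRangeEq_hom_fac _ _ _
  rw [← he, Category.assoc]
  exact bdd_iso_comp e.hom hb

theorem exists_bdd (f : X ⟶ Y) [LocallyQuasiFinite f] [LocallyOfFiniteType f] [CompactSpace X] :
    ∃ n, Bdd n f := by
  choose D n hxD hn using exists_bdd_near f
  obtain ⟨t, ht⟩ := isCompact_univ.elim_finite_subcover (fun x => (D x : Set X)) (fun x => (D x).2)
    fun x _ => Set.mem_iUnion.2 ⟨x, hxD x⟩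
  refine ⟨∑ x : t, n x.1, fun K _ g => ?_⟩
  refine bdd_of_cover (pullback.snd f g) (fun x : t => pullback.fst f g ⁻¹ᵁ D x.1) ?_ _ fun x => ?_
  · refine TopologicalSpace.Opens.ext (Set.eq_univ_of_forall fun z : ↥(pullback f g) => ?_)
    obtain ⟨x, hx, hz⟩ := Set.mem_iUnion₂.1 (ht (Set.mem_univ (pullback.fst f g z)))
    exact TopologicalSpace.Opens.mem_iSup.2 ⟨⟨x, hx⟩, hz⟩
  · have sq := (isPullback_morphismRestrict (pullback.fst f g) (D x.1)).flip.flip.paste_vert
      (IsPullback.of_hasPullback f g)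
    obtain ⟨h1, h2⟩ := hn x.1 K g
    have hflat := flat_over_field (pullback.snd ((D x.1).ι ≫ f) g)
    have e : sq.isoPullback.hom ≫ pullback.snd ((D x.1).ι ≫ f) g =
        (pullback.fst f g ⁻¹ᵁ D x.1).ι ≫ pullback.snd f g := sq.isoPullback_hom_snd
    refine ⟨e ▸ inferInstance, fun v => ?_⟩
    rw [← e, Scheme.Hom.finrank_comp_left_of_isIso]
    exact h2 v

end Groth.Agent.AlgSpCov.QfBdd
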