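import Groth.Agent.AlgSpCov.FpqcDiag
import Groth.Agent.AlgSp.DescentAffine
import Groth.Agent.AlgSp.AffineMor
import Mathlib.AlgebraicGeometry.Sites.Fpqc

/-!
# Effective fpqc descent of affine schemes among algebraic spaces
-/

universe u

open CategoryTheory CategoryTheory.Limits AlgebraicGeometry Opposite
open scoped TensorProduct

set_option backward.isDefEq.respectTransparency false

namespace Groth.Agent.AlgSpCov

open _root_.AlgSp
open Groth.Agent.AlgSp (specMap_algHom_comp isPullback_tensor bijective_lift_equalizer yEquiv yEquiv_comp yEquiv_map hom_ext_yon)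

variable {S : Scheme.{u}}

section

set_option backward.isDefEq.respectTransparency true
set_option backward.isDefEq.respectTransparency.types false

set_option maxHeartbeats 1000000 in
/-- The descended affine scheme: the algebra of `Groth.Agent.AlgSp.DescentAffine`, without finite presentation. -/
theorem exists_pullback_of_fpqc_spec {A A' B' : Type u} [CommRing A] [CommRing A'] [CommRing B'] [Algebra A A']
    [Algebra A B'] [Algebra A' B'] [IsScalarTower A A' B'] [Module.Flat A A']
    (str : Spec (CommRingCat.of A) ⟶ S) {F : AlgSp.Sp S}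
    (a : F ⟶ (AlgSp.yon S).obj (Over.mk str))
    {V W : Over S} (hV : V = Over.mk (Spec.map (CommRingCat.ofHom (algebraMap A A')) ≫ str))
    (hW : W = Over.mk (Spec.map (CommRingCat.ofHom (algebraMap A B')) ≫ str))
    (p : V ⟶ Over.mk str) (w : W ⟶ V)
    (hp : p.left = eqToHom (by rw [hV]; rfl) ≫ Spec.map (CommRingCat.ofHom (algebraMap A A')))
    (hw : w.left = eqToHom (by rw [hW]; rfl) ≫ Spec.map (CommRingCat.ofHom (algebraMap A' B')) ≫
      eqToHom (by rw [hV]; rfl))
    [Surjective p.left]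
    (π : (AlgSp.yon S).obj W ⟶ F)
    (sq : IsPullback π ((AlgSp.yon S).map w) a ((AlgSp.yon S).map p)) :
    ∃ (B : Over S) (q : W ⟶ B) (u₀ : B ⟶ Over.mk str), IsAffine B.left ∧ IsPullback w q p u₀ ∧
      ∀ (Z : Over S) (z₁ z₂ : Z ⟶ W), (AlgSp.yon S).map z₁ ≫ π = (AlgSp.yon S).map z₂ ≫ π →
        z₁ ≫ q = z₂ ≫ q := by
  subst hV hW
  simp only [eqToHom_refl, Category.id_comp, Category.comp_id] at hp hw
  let T2 : Over S := Over.mk (Spec.map (CommRingCat.ofHom (algebraMap A (A' ⊗[A] B'))) ≫ str)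
  have wv : Spec.map (CommRingCat.ofHom (Algebra.TensorProduct.includeLeftRingHom : A' →+* A' ⊗[A] B')) ≫
      Spec.map (CommRingCat.ofHom (algebraMap A A')) =
      Spec.map (CommRingCat.ofHom (algebraMap A (A' ⊗[A] B'))) :=
    specMap_algHom_comp (Algebra.TensorProduct.includeLeft (S := A) (A := A') (B := B'))
  have ws := specMap_algHom_comp (Algebra.TensorProduct.includeRight (R := A) (A := A') (B := B'))
  let v : T2 ⟶ Over.mk (Spec.map (CommRingCat.ofHom (algebraMap A A')) ≫ str) :=
    Over.homMk (Spec.map (CommRingCat.ofHom Algebra.TensorProduct.includeLeftRingHom)) (by change _ ≫ _ ≫ str = _ ≫ str; rw [reassoc_of% wv])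
  let s : T2 ⟶ Over.mk (Spec.map (CommRingCat.ofHom (algebraMap A B')) ≫ str) :=
    Over.homMk (Spec.map (CommRingCat.ofHom Algebra.TensorProduct.includeRight.toRingHom)) (by change _ ≫ _ ≫ str = _ ≫ str; rw [reassoc_of% ws])
  have hwp : (w ≫ p).left = Spec.map (CommRingCat.ofHom (algebraMap A B')) := by
    rw [Over.comp_left, hw, hp, ← Spec.map_comp, ← CommRingCat.ofHom_comp,
      ← IsScalarTower.algebraMap_eq A A' B']
  have hvs : IsPullback v s p (w ≫ p) := by
    refine IsPullback.of_map (Over.forget S) (Over.OverMorphism.ext ?_) ?_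
    · rw [Over.comp_left, Over.comp_left, hwp, hp]; exact wv.trans ws.symm
    · change IsPullback v.left s.left p.left (w ≫ p).left
      rw [hwp, hp]
      exact isPullback_tensor A A' B'
  have h2 : ((AlgSp.yon S).map s ≫ π) ≫ a = (AlgSp.yon S).map v ≫ (AlgSp.yon S).map p := by
    rw [Category.assoc, sq.w, ← Functor.map_comp, ← Functor.map_comp, ← Functor.map_comp, hvs.w]
  obtain ⟨t, ht⟩ := (AlgSp.yon S).map_surjective (sq.lift _ _ h2)
  have htπ : (AlgSp.yon S).map t ≫ π = (AlgSp.yon S).map s ≫ π := by rw [ht, sq.lift_fst]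
  have htw : t ≫ w = v := (AlgSp.yon S).map_injective (by rw [Functor.map_comp, ht, sq.lift_snd])
  obtain ⟨θ₀, hθ₀⟩ := Spec.map_surjective
    (show Spec (CommRingCat.of (A' ⊗[A] B')) ⟶ Spec (CommRingCat.of B') from t.left)
  have htw' : Spec.map θ₀ ≫ Spec.map (CommRingCat.ofHom (algebraMap A' B')) = v.left := by
    rw [← htw, Over.comp_left, hθ₀, hw]
  have hθ : ∀ a : A', θ₀.hom (algebraMap A' B' a) = a ⊗ₜ 1 := by
    intro a
    rw [← Spec.map_comp] at htw'
    exact RingHom.congr_fun (congrArg CommRingCat.Hom.hom (Spec.map_injective htw')) a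
  let θ : B' →ₐ[A] A' ⊗[A] B' :=
    { θ₀.hom with
      commutes' := fun r => by
        change θ₀.hom (algebraMap A B' r) = _
        rw [IsScalarTower.algebraMap_apply A A' B', hθ]
        rfl }
  have sθ : Spec.map (CommRingCat.ofHom θ.toRingHom) = t.left := hθ₀
  let ι : B' →ₐ[A] A' ⊗[A] B' := Algebra.TensorProduct.includeRight
  -- unit
  let μ : A' ⊗[A] B' →ₐ[A] B' :=
    Algebra.TensorProduct.lift (IsScalarTower.toAlgHom A A' B') (AlgHom.id A B') (fun _ _ => Commute.all _ _)
  let mk' {C : Type u} [CommRing C] [Algebra A C] : Over S :=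
    Over.mk (Spec.map (CommRingCat.ofHom (algebraMap A C)) ≫ str)
  let sp {C D : Type u} [CommRing C] [Algebra A C] [CommRing D] [Algebra A D] (f : C →ₐ[A] D) :
      mk' (C := D) ⟶ mk' (C := C) :=
    Over.homMk (Spec.map (CommRingCat.ofHom f.toRingHom)) (by
      change Spec.map _ ≫ Spec.map _ ≫ str = Spec.map _ ≫ str
      rw [reassoc_of% specMap_algHom_comp f])
  have sp_comp {C D E : Type u} [CommRing C] [Algebra A C] [CommRing D] [Algebra A D] [CommRing E] [Algebra A E]
      (f : C →ₐ[A] D) (g : D →ₐ[A] E) : sp g ≫ sp f = sp (g.comp f) := by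
    ext
    change Spec.map _ ≫ Spec.map _ = Spec.map _
    rw [← Spec.map_comp]
    rfl
  have et : t = sp θ := Over.OverMorphism.ext sθ.symm
  have es : s = sp ι := rfl
  have ew : w = sp (IsScalarTower.toAlgHom A A' B') := Over.OverMorphism.ext hw
  have ev : v = sp (Algebra.TensorProduct.includeLeft : A' →ₐ[A] A' ⊗[A] B') := rfl
  have ext_W : ∀ {T : Over S} (x y : T ⟶ mk' (C := B')), (AlgSp.yon S).map x ≫ π = (AlgSp.yon S).map y ≫ π →
      x ≫ w = y ≫ w → x = y := fun x y h1 h2 => (AlgSp.yon S).map_injective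
    (sq.hom_ext h1 (by rw [← Functor.map_comp, ← Functor.map_comp, h2]))
  have hunit : μ.comp θ = AlgHom.id A B' := by
    have hd : sp μ ≫ t = 𝟙 _ := by
      refine ext_W _ _ ?_ ?_
      · have : sp μ ≫ s = 𝟙 _ := by
          rw [es, sp_comp]
          ext
          change Spec.map _ = 𝟙 _
          rw [show μ.comp ι = AlgHom.id A B' from AlgHom.ext fun b => by simp [μ, ι]]
          exact Spec.map_id _
        rw [Functor.map_comp, Category.assoc, htπ, ← Category.assoc, ← Functor.map_comp, this]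
      · rw [Category.assoc, htw, Category.id_comp, ev, sp_comp, ew]
        congr 1
        exact AlgHom.ext fun b => by simp [μ]
    rw [et, sp_comp] at hd
    have := Spec.map_injective ((congrArg (fun k => k.left) hd).trans (Spec.map_id _).symm)
    exact AlgHom.ext fun b => RingHom.congr_fun (congrArg CommRingCat.Hom.hom this) b
  have hcocycle : (Algebra.TensorProduct.map (AlgHom.id A A') θ).comp θ =
      (Algebra.TensorProduct.map (AlgHom.id A A') ι).comp θ := by
    have hd : sp (Algebra.TensorProduct.map (AlgHom.id A A') θ) ≫ t =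
        sp (Algebra.TensorProduct.map (AlgHom.id A A') ι) ≫ t := by
      refine ext_W _ _ ?_ ?_
      · simp only [Functor.map_comp, Category.assoc, htπ]
        rw [← Functor.map_comp_assoc, ← Functor.map_comp_assoc, es, sp_comp, sp_comp,
          show (Algebra.TensorProduct.map (AlgHom.id A A') θ).comp ι =
            (Algebra.TensorProduct.includeRight (A := A')).comp θ from AlgHom.ext fun b => by simp [ι],
          show (Algebra.TensorProduct.map (AlgHom.id A A') ι).comp ι =
            (Algebra.TensorProduct.includeRight (A := A')).comp ι from AlgHom.ext fun b => by simp [ι],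
          ← sp_comp, ← sp_comp, ← es, ← et, Functor.map_comp_assoc, Functor.map_comp_assoc, htπ]
      · rw [Category.assoc, Category.assoc, htw, ev, sp_comp, sp_comp]
        congr 1
        exact AlgHom.ext fun b => by simp
    rw [et, sp_comp, sp_comp] at hd
    have := Spec.map_injective (congrArg (fun k => k.left) hd)
    exact AlgHom.ext fun b => RingHom.congr_fun (congrArg CommRingCat.Hom.hom this) b
  -- the descended algebra
  let B := AlgHom.equalizer θ ι
  have hbij := bijective_lift_equalizer θ hθ (AlgHom.congr_fun hunit) (AlgHom.congr_fun hcocycle)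
  let e := AlgEquiv.ofBijective _ hbij
  let q : mk' (C := B') ⟶ mk' (C := B) := sp B.val
  let u₀ : mk' (C := B) ⟶ Over.mk str := Over.homMk (Spec.map (CommRingCat.ofHom (algebraMap A B))) rfl
  have hsq₀ : IsPullback w q p u₀ := by
    refine IsPullback.of_map (Over.forget S) (Over.OverMorphism.ext ?_) ?_
    · rw [Over.comp_left, Over.comp_left, hw, hp, ← Spec.map_comp, ← CommRingCat.ofHom_comp,
        ← IsScalarTower.algebraMap_eq A A' B']
      exact (specMap_algHom_comp B.val).symm
    · change IsPullback w.left q.left p.left u₀.left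
      rw [hw, hp]
      refine IsPullback.of_iso (isPullback_tensor A A' B) (Scheme.Spec.mapIso e.toRingEquiv.toCommRingCatIso.symm.op)
        (Iso.refl _) (Iso.refl _) (Iso.refl _) ?_ ?_ (by simp) (by simp [u₀])
      · simp only [Iso.refl_hom, Category.comp_id, Functor.mapIso_hom, Iso.op_hom]
        change Spec.map _ = Spec.map _ ≫ Spec.map _
        rw [← Spec.map_comp]
        congr 1
        ext a
        change a ⊗ₜ 1 = e.symm (algebraMap A' B' a)
        rw [AlgEquiv.eq_symm_apply]
        simp [e]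
      · simp only [Iso.refl_hom, Category.comp_id, Functor.mapIso_hom, Iso.op_hom]
        change Spec.map _ = Spec.map _ ≫ Spec.map _
        rw [← Spec.map_comp]
        congr 1
        ext b
        change 1 ⊗ₜ b = e.symm (b : B')
        rw [AlgEquiv.eq_symm_apply]
        simp [e]
  have hq_eq : t ≫ q = s ≫ q := by
    rw [et, es, sp_comp, sp_comp]
    congr 1
    exact AlgHom.ext fun b => b.2
  refine ⟨mk' (C := B), q, u₀, inferInstanceAs (IsAffine (Spec _)), hsq₀, fun Z z₁ z₂ h => ?_⟩
  have e : (z₁ ≫ w) ≫ p = z₂ ≫ w ≫ p := (AlgSp.yon S).map_injective (by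
    simp only [Functor.map_comp, Category.assoc, ← sq.w]
    simp only [reassoc_of% h])
  let r := hvs.lift (z₁ ≫ w) z₂ e
  have hrs : r ≫ s = z₂ := hvs.lift_snd ..
  have hrt : r ≫ t = z₁ := by
    refine ext_W _ _ ?_ ?_
    · rw [Functor.map_comp, Category.assoc, htπ, ← Category.assoc, ← Functor.map_comp, hrs, h]
    · rw [Category.assoc, htw]
      exact hvs.lift_fst ..
  rw [← hrt, ← hrs, Category.assoc, Category.assoc, hq_eq]

/-- The descended affine scheme over an affine base, along a surjective flat map of affine schemes. -/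
theorem exists_pullback_of_fpqc_affine {U V W : Over S} [IsAffine U.left] [IsAffine V.left] [IsAffine W.left]
    (p : V ⟶ U) [Flat p.left] [Surjective p.left]
    {F : AlgSp.Sp S} (a : F ⟶ (AlgSp.yon S).obj U) (π : (AlgSp.yon S).obj W ⟶ F) (w : W ⟶ V)
    (sq : IsPullback π ((AlgSp.yon S).map w) a ((AlgSp.yon S).map p)) :
    ∃ (B : Over S) (q : W ⟶ B) (u₀ : B ⟶ U), IsAffine B.left ∧ IsPullback w q p u₀ ∧
      ∀ (Z : Over S) (z₁ z₂ : Z ⟶ W), (AlgSp.yon S).map z₁ ≫ π = (AlgSp.yon S).map z₂ ≫ π →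
        z₁ ≫ q = z₂ ≫ q := by
  let A := Γ(U.left, ⊤)
  let A' := Γ(V.left, ⊤)
  let B' := Γ(W.left, ⊤)
  let _ : Algebra A A' := p.left.appTop.hom.toAlgebra
  let _ : Algebra A' B' := w.left.appTop.hom.toAlgebra
  let _ : Algebra A B' := (w.left.appTop.hom.comp p.left.appTop.hom).toAlgebra
  have : IsScalarTower A A' B' := IsScalarTower.of_algebraMap_eq fun _ => rfl
  let str := U.left.isoSpec.inv ≫ U.hom
  have np : Spec.map (CommRingCat.ofHom (algebraMap A A')) ≫ U.left.isoSpec.inv = V.left.isoSpec.inv ≫ p.left :=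
    Scheme.isoSpec_inv_naturality p.left
  have nwp : Spec.map (CommRingCat.ofHom (algebraMap A B')) ≫ U.left.isoSpec.inv =
      W.left.isoSpec.inv ≫ w.left ≫ p.left :=
    (show Spec.map (w ≫ p).left.appTop ≫ _ = _ from Scheme.isoSpec_inv_naturality (w ≫ p).left).trans (by simp)
  let U' : Over S := Over.mk str
  let V' : Over S := Over.mk (Spec.map (CommRingCat.ofHom (algebraMap A A')) ≫ str)
  let W' : Over S := Over.mk (Spec.map (CommRingCat.ofHom (algebraMap A B')) ≫ str)
  let eU : U' ≅ U := Over.isoMk U.left.isoSpec.symm rfl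
  let eV : V' ≅ V := Over.isoMk V.left.isoSpec.symm (by
    change V.left.isoSpec.inv ≫ V.hom = _ ≫ U.left.isoSpec.inv ≫ U.hom
    rw [reassoc_of% np, Over.w p])
  let eW : W' ≅ W := Over.isoMk W.left.isoSpec.symm (by
    change W.left.isoSpec.inv ≫ W.hom = _ ≫ U.left.isoSpec.inv ≫ U.hom
    rw [reassoc_of% nwp, Over.w p, Over.w w])
  let p' := eV.hom ≫ p ≫ eU.inv
  let w' := eW.hom ≫ w ≫ eV.inv
  have hp : p'.left = Spec.map (CommRingCat.ofHom (algebraMap A A')) := by
    change V.left.isoSpec.inv ≫ p.left ≫ U.left.isoSpec.hom = _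
    rw [← reassoc_of% np]; simp
  have hw : w'.left = Spec.map (CommRingCat.ofHom (algebraMap A' B')) := by
    change W.left.isoSpec.inv ≫ w.left ≫ V.left.isoSpec.hom = _
    rw [← Scheme.isoSpec_inv_naturality_assoc w.left]
    exact (congrArg (_ ≫ ·) V.left.isoSpec.inv_hom_id).trans (Category.comp_id _)
  have hflat : Flat p'.left :=
    ((MorphismProperty.cancel_left_of_respectsIso @Flat _ _).trans
      (MorphismProperty.cancel_right_of_respectsIso @Flat _ _)).2 ‹_›
  have : Surjective p'.left :=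
    ((MorphismProperty.cancel_left_of_respectsIso @Surjective _ _).trans
      (MorphismProperty.cancel_right_of_respectsIso @Surjective _ _)).2 ‹_›
  have : Module.Flat A A' := by
    rw [hp, HasRingHomProperty.Spec_iff (P := @Flat)] at hflat
    exact RingHom.flat_algebraMap_iff.1 hflat
  obtain ⟨B, q, u₀, hB, hsq, hq⟩ := exists_pullback_of_fpqc_spec str (a ≫ (AlgSp.yon S).map eU.inv) (V := V')
    (W := W') rfl rfl p' w' (by simp [hp]) (by simp [hw]) ((AlgSp.yon S).map eW.hom ≫ π)
    (IsPullback.of_iso sq ((AlgSp.yon S).mapIso eW.symm) (Iso.refl F) ((AlgSp.yon S).mapIso eV.symm)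
      ((AlgSp.yon S).mapIso eU.symm) (by simp) (by simp [w']) (by simp) (by simp [p']))
  refine ⟨B, eW.inv ≫ q, u₀ ≫ eU.hom, hB, IsPullback.of_iso hsq eW eV (Iso.refl B) eU (by simp [w']) (by simp)
    (by simp [p']) (by simp), fun Z z₁ z₂ h => ?_⟩
  simpa using hq Z (z₁ ≫ eW.inv) (z₂ ≫ eW.inv) (by
    simp only [Functor.map_comp, Category.assoc]
    simp only [← Functor.map_comp_assoc (AlgSp.yon S) eW.inv, Iso.inv_hom_id, CategoryTheory.Functor.map_id, Category.id_comp]
    exact h)


end

/-- Two maps from a scheme agreeing after a faithfully flat quasi-compact base change are equal. -/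
theorem eq_of_fpqc {T T' B : Over S} (c : T' ⟶ T) [Flat c.left] [Surjective c.left] [QuasiCompact c.left]
    {x y : T ⟶ B} (h : c ≫ x = c ≫ y) : x = y :=
  Over.OverMorphism.ext ((cancel_epi c.left).1 (congrArg (fun k => k.left) h))

/-- Maps into a scheme descend along the base change of a faithfully flat quasi-compact map of schemes. -/
theorem exists_desc_fpqc {U V W B : Over S} (p : V ⟶ U) [Flat p.left] [Surjective p.left] [QuasiCompact p.left]
    {F : Sp S} (a : F ⟶ (yon S).obj U) (π : (yon S).obj W ⟶ F) (w : W ⟶ V)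
    (sq : IsPullback π ((yon S).map w) a ((yon S).map p)) (q : W ⟶ B)
    (hq : ∀ (Z : Over S) (z₁ z₂ : Z ⟶ W), (yon S).map z₁ ≫ π = (yon S).map z₂ ≫ π → z₁ ≫ q = z₂ ≫ q) :
    (∃ φ : F ⟶ (yon S).obj B, π ≫ φ = (yon S).map q) ∧
      ∀ φ φ' : F ⟶ (yon S).obj B, π ≫ φ = π ≫ φ' → φ = φ' := by
  have key : ∀ (T : Over S) (x : (yon S).obj T ⟶ F), ∃ (T' : Over S) (c : T' ⟶ T) (l : T' ⟶ W),
      Flat c.left ∧ Surjective c.left ∧ QuasiCompact c.left ∧ (yon S).map l ≫ π = (yon S).map c ≫ x := by
    intro T x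
    obtain ⟨g, hg⟩ := (yon S).map_surjective (x ≫ a)
    have s := IsPullback.of_hasPullback g p
    have e : ((yon S).map (pullback.fst g p) ≫ x) ≫ a = (yon S).map (pullback.snd g p) ≫ (yon S).map p := by
      rw [Category.assoc, ← hg, ← Functor.map_comp, ← Functor.map_comp, s.w]
    obtain ⟨l, hl⟩ := (yon S).map_surjective (sq.lift _ _ e)
    have s' := (isPullback_over_left s).flip
    exact ⟨_, pullback.fst g p, l, MorphismProperty.of_isPullback s' ‹_›,
      MorphismProperty.of_isPullback s' ‹_›, MorphismProperty.of_isPullback s' ‹_›, by rw [hl, sq.lift_fst]⟩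
  choose T' c l hcf hcs hcq hl using key
  have inst : ∀ T x, EffectiveEpi (c T x).left := fun T x =>
    have := hcf T x; have := hcs T x; have := hcq T x; inferInstance
  have hdesc : ∀ (T : Over S) (x : (yon S).obj T ⟶ F), ∃ χ : T ⟶ B, c T x ≫ χ = l T x ≫ q := by
    intro T x
    have := inst T x
    have hh : ∀ {Z : Scheme.{u}} (g₁ g₂ : Z ⟶ (T' T x).left), g₁ ≫ (c T x).left = g₂ ≫ (c T x).left →
        g₁ ≫ (l T x ≫ q).left = g₂ ≫ (l T x ≫ q).left := by
      intro Z g₁ g₂ h
      let Z' : Over S := Over.mk (g₁ ≫ (T' T x).hom)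
      let a₁ : Z' ⟶ T' T x := Over.homMk g₁ rfl
      let a₂ : Z' ⟶ T' T x := Over.homMk g₂ (by
        change g₂ ≫ (T' T x).hom = g₁ ≫ (T' T x).hom
        rw [← Over.w (c T x), reassoc_of% h])
      have e : a₁ ≫ c T x = a₂ ≫ c T x := Over.OverMorphism.ext h
      have := hq Z' (a₁ ≫ l T x) (a₂ ≫ l T x) (by
        rw [Functor.map_comp, Functor.map_comp, Category.assoc, Category.assoc, hl, ← Functor.map_comp_assoc,
          ← Functor.map_comp_assoc, e])
      exact (congrArg (fun k => k.left) this :)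
    let χ₀ := EffectiveEpi.desc (c T x).left (l T x ≫ q).left hh
    have hχ₀ : (c T x).left ≫ χ₀ = (l T x ≫ q).left := EffectiveEpi.fac _ _ _
    refine ⟨Over.homMk χ₀ ?_, Over.OverMorphism.ext hχ₀⟩
    rw [← cancel_epi (c T x).left, reassoc_of% hχ₀, Over.w, Over.w]
  choose χ hχ using hdesc
  have hchar : ∀ (T : Over S) (x : (yon S).obj T ⟶ F) (Z : Over S) (d : Z ⟶ T) (z : Z ⟶ W),
      (yon S).map z ≫ π = (yon S).map d ≫ x → d ≫ χ T x = z ≫ q := by
    intro T x Z d z hz
    have s := IsPullback.of_hasPullback d (c T x)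
    have s' := (isPullback_over_left s).flip
    have : Flat (pullback.fst d (c T x)).left := MorphismProperty.of_isPullback s' (hcf T x)
    have : Surjective (pullback.fst d (c T x)).left := MorphismProperty.of_isPullback s' (hcs T x)
    have : QuasiCompact (pullback.fst d (c T x)).left := MorphismProperty.of_isPullback s' (hcq T x)
    refine eq_of_fpqc (pullback.fst d (c T x)) ?_
    rw [reassoc_of% s.w, hχ, ← Category.assoc, ← Category.assoc]
    refine hq _ _ _ ?_
    simp only [Functor.map_comp, Category.assoc, hz, hl]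
    rw [← Functor.map_comp_assoc, ← Functor.map_comp_assoc, s.w]
  let lh : F.obj ⟶ ((yon S).obj B).obj :=
    { app := fun T => TypeCat.ofHom fun e => yEquiv ((yon S).map (χ T.unop (yEquiv.symm e)))
      naturality := fun T T₁ h => by
        ext e
        change yEquiv ((yon S).map (χ T₁.unop (yEquiv.symm (F.obj.map h e)))) =
          ((yon S).obj B).obj.map h.unop.op (yEquiv ((yon S).map (χ T.unop (yEquiv.symm e))))
        rw [← yEquiv_map, ← Functor.map_comp]
        congr 2
        have he : yEquiv.symm (F.obj.map h e) = (yon S).map h.unop ≫ yEquiv.symm e := by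
          rw [Equiv.symm_apply_eq, yEquiv_map, Equiv.apply_symm_apply]
          rfl
        let x₁ := yEquiv.symm (F.obj.map h e)
        have := hcf _ x₁
        have := hcs _ x₁
        have := hcq _ x₁
        refine eq_of_fpqc (c T₁.unop x₁) ?_
        rw [hχ, ← Category.assoc, hchar _ (yEquiv.symm e) _ _ (l _ x₁)]
        rw [hl, Functor.map_comp, Category.assoc]
        exact congrArg _ he }
  refine ⟨⟨(⟨lh⟩ : F ⟶ (yon S).obj B), hom_ext_yon fun Z z => ?_⟩, fun φ φ' h => hom_ext_yon fun T x => ?_⟩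
  · obtain ⟨z, rfl⟩ := (yon S).map_surjective z
    apply yEquiv.injective
    rw [← Category.assoc, yEquiv_comp]
    change yEquiv ((yon S).map (χ Z (yEquiv.symm (yEquiv ((yon S).map z ≫ π))))) = _
    rw [Equiv.symm_apply_apply, ← Functor.map_comp]
    congr 2
    simpa using hchar Z _ Z (𝟙 Z) z (by simp)
  · obtain ⟨y, hy⟩ := (yon S).map_surjective (x ≫ φ)
    obtain ⟨y', hy'⟩ := (yon S).map_surjective (x ≫ φ')
    rw [← hy, ← hy']
    congr 1
    have := hcf T x
    have := hcs T x
    have := hcq T x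
    refine eq_of_fpqc (c T x) ((yon S).map_injective ?_)
    rw [Functor.map_comp, Functor.map_comp, hy, hy', ← reassoc_of% (hl T x), ← reassoc_of% (hl T x), h]

/-- A single faithfully flat quasi-compact map of schemes is an fpqc covering. -/
theorem isFpqcCover_yon {W B : Over S} (q : W ⟶ B) [Flat q.left] [Surjective q.left] [IsAffineHom q.left] :
    IsFpqcCover (fun _ : PUnit.{u + 1} => (yon S).obj W) (fun _ => (yon S).map q) := by
  refine ⟨fun _ => locP_of_repWith etaleLocal_flat
    ((repWith_yon_map_iff _ q).2 ‹_›), fun Z hZ h => ?_⟩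
  obtain ⟨g, rfl⟩ := (yon S).map_surjective h
  have s := IsPullback.of_hasPullback g q
  have s' := (isPullback_over_left s).flip
  have hc : IsAffineHom (pullback.fst g q).left := MorphismProperty.of_isPullback s' ‹_›
  have hs : Surjective (pullback.fst g q).left := MorphismProperty.of_isPullback s' ‹_›
  refine ⟨1, fun _ => pullback g q, fun _ => pullback.fst g q, fun _ => isAffine_of_isAffineHom (pullback.fst g q).left,
    fun _ => MorphismProperty.of_isPullback s' ‹_›, fun z => ⟨0, hs.surj z⟩, fun _ => ⟨⟨⟩, (yon S).map (pullback.snd g q), ?_⟩⟩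
  rw [← Functor.map_comp, ← Functor.map_comp, s.w]

/-- Effective fpqc descent of affine schemes for algebraic spaces. -/
theorem exists_iso_of_fpqc_affine {U V W : Over S} [IsAffine U.left] [IsAffine V.left] [IsAffine W.left]
    (p : V ⟶ U) [Flat p.left] [Surjective p.left] {F : Sp S} (hF : IsAlgSpace F)
    (a : F ⟶ (yon S).obj U) (π : (yon S).obj W ⟶ F) (w : W ⟶ V)
    (sq : IsPullback π ((yon S).map w) a ((yon S).map p)) :
    ∃ W₀ : Over S, IsAffine W₀.left ∧ Nonempty ((yon S).obj W₀ ≅ F) := by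
  obtain ⟨B, q, u₀, hB, hsq, hq⟩ := exists_pullback_of_fpqc_affine p a π w sq
  have hpq : QuasiCompact p.left := inferInstance
  obtain ⟨⟨φ, hφ⟩, huniq⟩ := exists_desc_fpqc p a π w sq q hq
  have s' := isPullback_over_left hsq
  have : Flat q.left := MorphismProperty.of_isPullback s' ‹_›
  have : Surjective q.left := MorphismProperty.of_isPullback s' ‹_›
  have : IsAffineHom q.left := MorphismProperty.of_isPullback s' inferInstance
  have hφu : φ ≫ (yon S).map u₀ = a := by
    obtain ⟨⟨_, _⟩, hu⟩ := exists_desc_fpqc p a π w sq (w ≫ p) fun Z z₁ z₂ h => (yon S).map_injective (by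
      simp only [Functor.map_comp, ← sq.w, reassoc_of% h])
    exact hu _ _ (by rw [reassoc_of% hφ, sq.w, ← Functor.map_comp, ← Functor.map_comp, hsq.w])
  have top : IsPullback π (𝟙 ((yon S).obj W)) φ ((yon S).map q) := by
    refine IsPullback.of_bot ?_ (by rw [hφ, Category.id_comp]) (hsq.flip.map (yon S))
    rw [Category.id_comp, hφu]
    exact sq
  have : IsIso φ := isIso_of_fpqc (Yi := fun _ : PUnit.{u + 1} => (yon S).obj W) (g := fun _ => (yon S).map q)
    (IsAlgSpace.yon_obj B) (fun _ => IsAlgSpace.yon_obj W) (isFpqcCover_yon q) hF (fun _ => IsAlgSpace.yon_obj W)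
    (fun _ => top) fun _ => inferInstance
  exact ⟨B, hB, ⟨(asIso φ).symm⟩⟩

/-- A sheaf over a disjoint union which is a scheme over each piece is a scheme. -/
theorem exists_iso_of_sigma {κ : Type u} {V : Over S} {Wc : κ → Over S} (e : ∀ j, Wc j ⟶ V)
    (he : ∀ j, IsOpenImmersion (e j).left) (hcov : ∀ v : V.left, ∃ j, v ∈ Set.range (e j).left)
    (hdisj : ∀ j k, j ≠ k → Disjoint (Set.range (e j).left) (Set.range (e k).left))
    {P : Sp S} (a : P ⟶ (yon S).obj V) (Xc : κ → Over S)
    (w : ∀ j, Xc j ⟶ Wc j) (π : ∀ j, (yon S).obj (Xc j) ⟶ P)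
    (sq : ∀ j, IsPullback (π j) ((yon S).map (w j)) a ((yon S).map (e j))) :
    ∃ (X : Over S) (v : X ⟶ V) (Φ : (yon S).obj X ⟶ P),
      ((∀ j, IsAffine (Xc j).left) → Finite κ → IsAffine X.left) ∧
      (∀ Q : Scheme.{u} → Prop, Q (∐ fun j => (Xc j).left) → Q X.left) ∧
      IsPullback Φ ((yon S).map v) a (𝟙 _) := by
  let Y : κ → Scheme.{u} := fun j => (Xc j).left
  let d : (∐ Y) ⟶ V.left := Sigma.desc fun j => (w j).left ≫ (e j).left
  have hd : ∀ j, Sigma.ι Y j ≫ d = (w j).left ≫ (e j).left := fun j => Sigma.ι_desc _ _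
  let X : Over S := Over.mk (d ≫ V.hom)
  let v : X ⟶ V := Over.homMk d rfl
  let i : ∀ j, Xc j ⟶ X := fun j => Over.homMk (Sigma.ι Y j) (by
    change Sigma.ι Y j ≫ d ≫ V.hom = _
    rw [reassoc_of% (hd j), Over.w (e j), Over.w (w j)])
  have hiv : ∀ j, i j ≫ v = w j ≫ e j := fun j => Over.OverMorphism.ext (hd j)
  have hi : ∀ j, IsOpenImmersion (i j).left := fun j => (sigmaOpenCover Y).map_prop j
  have hicov : ∀ x : X.left, ∃ j, x ∈ Set.range (i j).left := fun x => ⟨_, (sigmaOpenCover Y).covers x⟩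
  have hmono : ∀ j, Mono (i j) := fun j =>
    (Over.forget S).mono_of_mono_map (have := hi j; inferInstanceAs (Mono (i j).left))
  have hemono : ∀ j, Mono (e j) := fun j =>
    (Over.forget S).mono_of_mono_map (have := he j; inferInstanceAs (Mono (e j).left))
  have hempty : ∀ {Z : Over S} {G : Sp S}, (∀ z : Z.left, False) → ∀ l l' : (yon S).obj Z ⟶ G, l = l' :=
    fun hz l l' => Groth.Agent.AlgSp.InfGlue.hom_ext_cover (ι := PEmpty.{u + 1}) (U := fun x => x.elim) (fun x => x.elim)
      (fun x => x.elim) (fun t => (hz t).elim) _ _ (fun x => x.elim)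
  have hsame : ∀ {Z : Over S} {j k : κ} (α : Z ⟶ Wc j) (β : Z ⟶ Wc k), α ≫ e j = β ≫ e k → j ≠ k →
      ∀ z : Z.left, False := fun α β h hjk z =>
    Set.disjoint_left.1 (hdisj _ _ hjk) ⟨α.left z, rfl⟩
      ⟨β.left z, ((congrArg (fun k => k.left z) h).symm :)⟩
  obtain ⟨Φ, hΦ⟩ := Groth.Agent.AlgSp.InfGlue.exists_glue (T := X) (U := Xc) i (fun j => have := hi j; inferInstance) hicov π
    fun j k Z α β hαβ => by
      by_cases hjk : j = k
      · subst hjk
        have := hmono j
        rw [(cancel_mono (i j)).1 hαβ]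
      · exact hempty (hsame (α ≫ w j) (β ≫ w k) (by
          rw [Category.assoc, Category.assoc, ← hiv, ← hiv, reassoc_of% hαβ]) hjk) _ _
  have hΦa : Φ ≫ a = (yon S).map v := by
    refine Groth.Agent.AlgSp.InfGlue.hom_ext_cover (T := X) (U := Xc) i (fun j => have := hi j; inferInstance) hicov _ _ fun j => ?_
    rw [reassoc_of% (hΦ j), (sq j).w, ← Functor.map_comp, ← Functor.map_comp, hiv]
  have : IsIso Φ := Groth.Agent.AlgSp.isIso_of_yon Φ fun T x => by
    obtain ⟨g, hg⟩ := (yon S).map_surjective (x ≫ a)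
    let t : ∀ j, pullback g (e j) ⟶ T := fun j => pullback.fst g (e j)
    have ht : ∀ j, IsOpenImmersion (t j).left := fun j =>
      MorphismProperty.of_isPullback (isPullback_over_left (IsPullback.of_hasPullback g (e j))).flip (he j)
    have htcov : ∀ z : T.left, ∃ j, z ∈ Set.range (t j).left := by
      intro z
      obtain ⟨j, y, hy⟩ := hcov (g.left z)
      obtain ⟨r, hr, -⟩ := Scheme.exists_preimage_of_isPullback
        (isPullback_over_left (IsPullback.of_hasPullback g (e j))) z y hy.symm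
      exact ⟨j, r, hr⟩
    have hte : ∀ j, t j ≫ g = pullback.snd g (e j) ≫ e j := fun j => pullback.condition
    have hloc : ∀ j, ∃ y : pullback g (e j) ⟶ Xc j, (yon S).map y ≫ π j = (yon S).map (t j) ≫ x ∧
        y ≫ w j = pullback.snd g (e j) := by
      intro j
      obtain ⟨y, hy⟩ := (yon S).map_surjective ((sq j).lift ((yon S).map (t j) ≫ x)
        ((yon S).map (pullback.snd g (e j))) (by
          rw [Category.assoc, ← hg, ← Functor.map_comp, ← Functor.map_comp, hte]))
      exact ⟨y, by rw [hy, (sq j).lift_fst], (yon S).map_injective (by rw [Functor.map_comp, hy, (sq j).lift_snd])⟩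
    choose y hy₁ hy₂ using hloc
    obtain ⟨l, hl⟩ := Groth.Agent.AlgSp.InfGlue.exists_glue (T := T) t (fun j => have := ht j; inferInstance) htcov
      (fun j => (yon S).map (y j ≫ i j)) fun j k Z α β hαβ => by
        rw [← Functor.map_comp, ← Functor.map_comp]
        congr 1
        by_cases hjk : j = k
        · subst hjk
          have : Mono (t j) := (Over.forget S).mono_of_mono_map (have := ht j; inferInstanceAs (Mono (t j).left))
          rw [(cancel_mono (t j)).1 hαβ]
        · exact (yon S).map_injective (hempty (hsame (α ≫ pullback.snd g (e j)) (β ≫ pullback.snd g (e k)) (by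
            rw [Category.assoc, Category.assoc, ← hte, ← hte, reassoc_of% hαβ]) hjk) _ _)
    obtain ⟨l, rfl⟩ := (yon S).map_surjective l
    refine ⟨l, Groth.Agent.AlgSp.InfGlue.hom_ext_cover (T := T) t (fun j => have := ht j; inferInstance) htcov _ _ fun j => ?_,
      fun l' hl' => (yon S).map_injective
        (Groth.Agent.AlgSp.InfGlue.hom_ext_cover (T := T) t (fun j => have := ht j; inferInstance) htcov _ _ fun j => ?_)⟩
    · rw [reassoc_of% (hl j), Functor.map_comp, Category.assoc, hΦ, hy₁]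
    · rw [hl j, ← Functor.map_comp]
      congr 1
      have hgv : l' ≫ v = g := (yon S).map_injective (by
        rw [Functor.map_comp, ← hΦa, reassoc_of% hl', hg])
      have hrange : Set.range (t j ≫ l').left ⊆ Set.range (i j).left := by
        rintro _ ⟨z, rfl⟩
        obtain ⟨k, r, hr⟩ := hicov ((t j ≫ l').left z)
        rcases eq_or_ne k j with rfl | hkj
        · exact ⟨r, hr⟩
        · refine ((Set.disjoint_left.1 (hdisj k j hkj) : ∀ ⦃a⦄, a ∈ Set.range (e k).left → a ∉ Set.range (e j).left)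
            (a := v.left ((t j ≫ l').left z)) ⟨(w k).left r, ?_⟩ ⟨(pullback.snd g (e j)).left z, ?_⟩).elim
          · rw [← hr]
            exact (congrArg (fun m => m.left r) (hiv k)).symm
          · exact (congrArg (fun m => m.left z) (show pullback.snd g (e j) ≫ e j = (t j ≫ l') ≫ v by
              rw [Category.assoc, hgv, hte]) :)
      have := hi j
      let r : pullback g (e j) ⟶ Xc j := Over.homMk (IsOpenImmersion.lift (i j).left (t j ≫ l').left hrange) (by
        rw [← Over.w (i j), IsOpenImmersion.lift_fac_assoc, Over.w])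
      have hri : r ≫ i j = t j ≫ l' := Over.OverMorphism.ext (IsOpenImmersion.lift_fac _ _ _)
      suffices r = y j by rw [← hri, this]
      refine (yon S).map_injective ((sq j).hom_ext ?_ ?_)
      · rw [hy₁, ← hΦ j, ← Functor.map_comp_assoc, hri, Functor.map_comp, Category.assoc, hl']
      · have := hemono j
        rw [← Functor.map_comp, ← Functor.map_comp]
        congr 1
        rw [← cancel_mono (e j), hy₂, Category.assoc, ← hiv, reassoc_of% hri, hgv, hte]
  refine ⟨X, v, Φ, ?_, fun _ h => h, IsPullback.of_horiz_isIso ⟨by rw [Category.comp_id, hΦa]⟩⟩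
  exact fun hX hfin => by
    have : ∀ j, IsAffine (Y j) := hX
    exact inferInstanceAs (IsAffine (∐ Y))

/-- Affine morphisms descend along fpqc coverings. -/
theorem isAffineMor_of_fpqc {ι : Type u} {Y : Sp S} {Yi : ι → Sp S} {g : ∀ i, Yi i ⟶ Y} {X : Sp S} {f : X ⟶ Y}
    {Xi : ι → Sp S} {p : ∀ i, Xi i ⟶ Yi i} {q : ∀ i, Xi i ⟶ X} (hY : IsAlgSpace Y)
    (hg : IsFpqcCover Yi g) (hX : IsAlgSpace X) (sq : ∀ i, IsPullback (q i) (p i) f (g i))
    (hp : ∀ i, IsAffineMor (p i)) : IsAffineMor f := by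
  intro Z hZ z
  have sZ := IsPullback.of_hasPullback f z
  obtain ⟨n, Wc, c, hWc, hc, hs, hl⟩ := hg.2 Z hZ z
  let Wu : ULift.{u} (Fin n) → Over S := fun j => Wc j.down
  let Y₀ : ULift.{u} (Fin n) → Scheme.{u} := fun j => (Wu j).left
  let d : (∐ Y₀) ⟶ Z.left := Sigma.desc fun j => (c j.down).left
  have hd : ∀ j, Sigma.ι Y₀ j ≫ d = (c j.down).left := fun j => Sigma.ι_desc _ _
  let V : Over S := Over.mk (d ≫ Z.hom)
  let cV : V ⟶ Z := Over.homMk d rfl
  let e : ∀ j, Wu j ⟶ V := fun j => Over.homMk (Sigma.ι Y₀ j) (by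
    change Sigma.ι Y₀ j ≫ d ≫ Z.hom = _
    rw [reassoc_of% (hd j), Over.w])
  have hec : ∀ j, e j ≫ cV = c j.down := fun j => Over.OverMorphism.ext (hd j)
  have : ∀ j, IsAffine (Y₀ j) := fun j => hWc j.down
  have : IsAffine V.left := inferInstanceAs (IsAffine (∐ Y₀))
  have : Surjective cV.left := ⟨fun x => by
    obtain ⟨j, r, rfl⟩ := hs x
    exact ⟨Sigma.ι Y₀ ⟨j⟩ r, by change d _ = _; rw [← Scheme.Hom.comp_apply, hd]⟩⟩
  have : Flat cV.left := IsZariskiLocalAtSource.sigmaDesc fun j => hc j.down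
  have s2 := IsPullback.of_hasPullback (pullback.snd f z) ((yon S).map cV)
  have hpiece : ∀ j, ∃ (Xc : Over S) (w : Xc ⟶ Wu j)
      (π : (yon S).obj Xc ⟶ pullback (pullback.snd f z) ((yon S).map cV)), IsAffine Xc.left ∧
      IsPullback π ((yon S).map w) (pullback.snd _ _) ((yon S).map (e j)) := by
    intro j
    obtain ⟨i, l, hli⟩ := hl j.down
    obtain ⟨Xc, w, r, hr, hXc⟩ := hp i (hWc j.down) l
    have big := hr.paste_horiz (sq i)
    rw [hli, ← hec j, Functor.map_comp, Category.assoc] at big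
    have s3 := s2.paste_horiz sZ
    obtain ⟨π, hπ₁, hπ₂⟩ := s3.exists_lift (r ≫ q i) ((yon S).map w ≫ (yon S).map (e j)) (by
      rw [big.w, Category.assoc])
    exact ⟨Xc, w, π, hXc, IsPullback.of_right (by rw [hπ₁]; exact big) hπ₂ s3⟩
  choose Xc w π hXc hsq using hpiece
  obtain ⟨XV, v, Φ, hXV₀, -, sV⟩ := exists_iso_of_sigma e (fun j => (sigmaOpenCover Y₀).map_prop j)
    (fun x => ⟨_, (sigmaOpenCover Y₀).covers x⟩)
    (fun j k hjk => Set.disjoint_left.2 fun x ⟨r₁, h₁⟩ ⟨r₂, h₂⟩ => by
      obtain ⟨r, -, -⟩ := Scheme.exists_preimage_of_isPullback (IsPullback.of_hasPullback (Sigma.ι Y₀ j) (Sigma.ι Y₀ k))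
        r₁ r₂ (h₁.trans h₂.symm)
      exact (isEmpty_pullback_sigmaι_of_ne Y₀ hjk).elim r)
    (pullback.snd (pullback.snd f z) ((yon S).map cV)) Xc w π hsq
  have := hXV₀ hXc inferInstance
  have s4 := sV.paste_horiz s2
  rw [Category.id_comp] at s4
  obtain ⟨W₀, hW₀, ⟨E⟩⟩ := exists_iso_of_fpqc_affine cV
    (Groth.Agent.AlgSp.isAlgSpace_pullback hY hX (IsAlgSpace.yon_obj Z) f z) (pullback.snd f z) _ v s4
  obtain ⟨i₀, hi₀⟩ := (yon S).map_surjective (E.hom ≫ pullback.snd f z)
  exact ⟨W₀, i₀, E.hom ≫ pullback.fst f z, IsPullback.of_iso sZ E.symm (Iso.refl _) (Iso.refl _) (Iso.refl _)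
    (by simp) (by simp [hi₀]) (by simp) (by simp), hW₀⟩

end Groth.Agent.AlgSpCov
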