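import Groth.Agent.AlgSpD.EtSite
import Groth.Agent.AlgSpB.Points
import Groth.Prelude.Def_AlgSpCov
import Mathlib.CategoryTheory.Sites.PrecoverageToGrothendieck

/-!
# The big etale site of algebraic spaces: covering sieves seen from schemes

* `etLiftTop S`: the topology of sieves through which morphisms from schemes lift etale locally.
* `spacesTop_le`: it contains the etale topology of algebraic spaces.
-/

set_option autoImplicit false
set_option backward.isDefEq.respectTransparency false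

universe u

open CategoryTheory CategoryTheory.Limits AlgebraicGeometry

namespace Groth.Agent.AlgSpCov

open _root_.AlgSp

variable {S : Scheme.{u}}

/-- The morphism of spaces defined by a morphism of sheaves from a scheme. -/
noncomputable abbrev schArrow {T : Over S} {Z : Space S} (t : (yon S).obj T ⟶ Z.obj) :
    (ofScheme S).obj T ⟶ Z :=
  ObjectProperty.homMk t

variable (S) in
/-- Sieves through which every morphism from a scheme lifts etale locally. -/
def etLiftTop : GrothendieckTopology (Space S) where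
  sieves Z := {R | ∀ (T : Over S) (t : (ofScheme S).obj T ⟶ Z) (x : ↥T.left), ∃ (T' : Over S) (c : T' ⟶ T),
    Etale c.left ∧ x ∈ Set.range c.left ∧ R ((ofScheme S).map c ≫ t)}
  top_mem' Z T t x := ⟨T, 𝟙 T, inferInstanceAs (Etale (𝟙 T.left)), ⟨x, rfl⟩, trivial⟩
  pullback_stable' Z Z' R f hR T t x := by
    obtain ⟨T', c, hc, hx, hR⟩ := hR T (t ≫ f) x
    exact ⟨T', c, hc, hx, by simpa using hR⟩
  transitive' Z R hR R' h T t x := by
    obtain ⟨T', c, hc, ⟨x', rfl⟩, hR⟩ := hR T t x
    obtain ⟨T'', c', hc', ⟨x'', rfl⟩, hR'⟩ := h hR T' (𝟙 _) x'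
    refine ⟨T'', c' ≫ c, by rw [Over.comp_left]; infer_instance, ⟨x'', rfl⟩, ?_⟩
    simpa using hR'

theorem spacesTop_le : spacesTop S (@IsEtaleMor S) ≤ etLiftTop S := by
  rw [spacesTop, Precoverage.toGrothendieck_le_iff_le_toPrecoverage]
  intro Z R hR
  rw [GrothendieckTopology.mem_toPrecoverage_iff]
  intro T t x
  obtain ⟨hP, hx⟩ := hR
  obtain ⟨Y, g, hg, y, hy⟩ := hx (Points.ofPt (F := Z.obj) t.hom x)
  obtain ⟨U, a, ha, has⟩ := Y.property.atlas
  obtain ⟨v, rfl⟩ := AlgSpB.surjective_ofPt has y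
  have hb : RepWith @Etale (a ≫ g.hom) := hP g hg a ha
  obtain ⟨W, fst, snd, sq⟩ := AlgSpB.exists_pullback_yon hb.1 (t.hom : (yon S).obj T ⟶ Z.obj)
  have : Etale snd.left := hb.2 _ _ snd sq
  obtain ⟨w, -, hw⟩ := (AlgSpB.ofPt_eq_ofPt_iff sq v x).1 (by rw [← Points.map_ofPt]; exact hy)
  refine ⟨W, snd, inferInstance, ⟨w, hw⟩, Y, schArrow ((yon S).map fst ≫ a), g, hg, ?_⟩
  ext : 1
  exact (Category.assoc _ _ _).trans sq.w

/-- A jointly surjective family of etale morphisms of schemes covers in the big etale site. -/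
theorem sieve_mem_spacesTop {T : Over S} (R : Sieve ((ofScheme S).obj T))
    (h : ∀ x : ↥T.left, ∃ (T' : Over S) (c : T' ⟶ T), Etale c.left ∧ x ∈ Set.range c.left ∧ R ((ofScheme S).map c)) :
    R ∈ spacesTop S (@IsEtaleMor S) ((ofScheme S).obj T) := by
  choose T' c hc hx hR using h
  refine GrothendieckTopology.superset_covering _ (S := Sieve.generate
    (Presieve.ofArrows (fun x => (ofScheme S).obj (T' x)) fun x => (ofScheme S).map (c x))) ?_
    (Precoverage.generate_mem_toGrothendieck ?_)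
  · rw [Sieve.generate_le_iff]
    rintro _ _ ⟨x⟩
    exact hR x
  · refine (ofArrows_mem_spacesPre_iff _ _ _).2 ⟨fun x => (isEtaleMor_yon_map_iff _).2 (hc x), fun p => ?_⟩
    obtain ⟨x, rfl⟩ : ∃ x, Points.ofScheme T x = p := (Points.schemeHomeo T).surjective p
    obtain ⟨w, hw⟩ := hx x
    refine ⟨x, Points.ofScheme _ w, ?_⟩
    change Points.map ((yon S).map (c x)) (Points.ofScheme _ w) = _
    rw [← Points.ofPt_eq_map_ofScheme, ← Category.comp_id ((yon S).map (c x)), AlgSpB.ofPt_map_comp, hw,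
      Points.ofPt_eq_map_ofScheme, Points.map_id]

variable {X Y : Space S} (f : Y ⟶ X)

/-- The functor from the small etale site of `Y` to the big etale site of `X`. -/
noncomputable abbrev toBig : EtOver Y.obj ⥤ Over X :=
  EtOver.toEtSpOver Y ⋙ ObjectProperty.ι (fun E : Over Y => IsEtaleMor E.hom.hom) ⋙ Over.map f

theorem toBig_isCocontinuous :
    (toBig f).IsCocontinuous (etTop Y.obj) (spacesTopOver (@IsEtaleMor S) X) := by
  refine ⟨fun {E} T hT => ?_⟩
  rw [AlgSpD.mem_etTop_iff]
  intro x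
  rw [GrothendieckTopology.mem_over_iff] at hT
  obtain ⟨T', c, hc, hx, hR⟩ := spacesTop_le _ hT E.obj.left (𝟙 _) x
  have hc' : RepWith @Etale ((yon S).map c ≫ E.obj.hom) := AlgSpB.repWith_etale_map_comp c E.property
  refine ⟨EtOver.mk ((yon S).map c ≫ E.obj.hom) hc', EtOver.homMk c rfl, ?_, hx⟩
  rw [Category.comp_id] at hR
  change T ((toBig f).map (EtOver.homMk c rfl : EtOver.mk ((yon S).map c ≫ E.obj.hom) hc' ⟶ E))
  let i : (toBig f).obj (EtOver.mk ((yon S).map c ≫ E.obj.hom) hc') ⟶
      Over.mk ((ofScheme S).map c ≫ ((toBig f).obj E).hom) :=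
    Over.homMk (𝟙 ((ofScheme S).obj T')) (by
      ext : 1
      exact (Category.id_comp _).trans (Category.assoc _ _ _).symm)
  convert T.downward_closed ((Sieve.overEquiv_iff T _).1 hR) i using 1
  ext : 2
  exact (Category.id_comp _).symm

theorem toBig_isContinuous :
    (toBig f).IsContinuous (etTop Y.obj) (spacesTopOver (@IsEtaleMor S) X) := by
  refine Functor.isContinuous_of_coverPreserving ⟨?_⟩ ⟨fun {E} T hT => ?_⟩
  · intro ℱ E T x hx Y₁ Y₂ W f₁ f₂ g₁ g₂ hg₁ hg₂ eq
    have sqS := IsPullback.of_hasPullback g₁.hom.left g₂.hom.left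
    set p := pullback.fst g₁.hom.left g₂.hom.left
    set q := pullback.snd g₁.hom.left g₂.hom.left
    have : Etale g₂.hom.left.left := EtOver.etale_left g₂
    have : Etale p.left := MorphismProperty.of_isPullback (P := @Etale) (sqS.map (Over.forget S)).flip ‹_›
    let P : EtOver Y.obj := EtOver.mk ((yon S).map p ≫ Y₁.obj.hom) (AlgSpB.repWith_etale_map_comp p Y₁.property)
    let k₁ : P ⟶ Y₁ := EtOver.homMk p rfl
    let k₂ : P ⟶ Y₂ := EtOver.homMk q (by
      change (yon S).map q ≫ Y₂.obj.hom = (yon S).map p ≫ Y₁.obj.hom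
      rw [← EtOver.w g₂, ← EtOver.w g₁, ← Category.assoc, ← Category.assoc, ← Functor.map_comp,
        ← Functor.map_comp, sqS.w])
    have sqY := sqS.map (yon S)
    have eq' : f₁.left.hom ≫ (yon S).map g₁.hom.left = f₂.left.hom ≫ (yon S).map g₂.hom.left :=
      congrArg (fun m : W ⟶ _ => m.left.hom) eq
    let l : W ⟶ (toBig f).obj P := Over.homMk (ObjectProperty.homMk (sqY.lift f₁.left.hom f₂.left.hom eq')) (by
      ext : 1
      change sqY.lift f₁.left.hom f₂.left.hom eq' ≫ ((yon S).map p ≫ Y₁.obj.hom) ≫ f.hom = W.hom.hom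
      rw [Category.assoc, sqY.lift_fst_assoc]
      exact congrArg (fun m => m.hom) (Over.w f₁))
    have h₁ : f₁ = l ≫ (toBig f).map k₁ := by
      ext : 2
      exact (sqY.lift_fst _ _ eq').symm
    have h₂ : f₂ = l ≫ (toBig f).map k₂ := by
      ext : 2
      exact (sqY.lift_snd _ _ eq').symm
    have := hx k₁ k₂ hg₁ hg₂ (EtOver.hom_ext _ _ sqS.w)
    simp only [Functor.comp_map, Functor.op_map, Quiver.Hom.unop_op] at this
    rw [h₁, h₂, op_comp, op_comp, Functor.map_comp, Functor.map_comp]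
    exact congrArg (ℱ.obj.map l.op) this
  · rw [AlgSpD.mem_etTop_iff] at hT
    rw [GrothendieckTopology.mem_over_iff]
    refine sieve_mem_spacesTop (T := E.obj.left) _ fun x => ?_
    obtain ⟨E', g, hg, hx⟩ := hT x
    refine ⟨E'.obj.left, g.hom.left, EtOver.etale_left g, hx, ?_⟩
    refine (Sieve.overEquiv_iff _ _).2 ?_
    let i : Over.mk ((ofScheme S).map g.hom.left ≫ ((toBig f).obj E).hom) ⟶ (toBig f).obj E' :=
      Over.homMk (𝟙 ((ofScheme S).obj E'.obj.left)) (by
        ext : 1
        change 𝟙 _ ≫ E'.obj.hom ≫ f.hom = (yon S).map g.hom.left ≫ E.obj.hom ≫ f.hom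
        rw [Category.id_comp, ← EtOver.w g, Category.assoc])
    convert (Sieve.functorPushforward (toBig f) T).downward_closed
      (Sieve.image_mem_functorPushforward (toBig f) T hg) i using 1
    ext : 2
    exact (Category.id_comp _).symm

end Groth.Agent.AlgSpCov
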