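import Groth.Agent.AlgSpCov.ThickDeform
import Groth.Agent.AlgSp.InfEtale
import Groth.Agent.S10620
import Groth.Agent.S10621
import Groth.Agent.S9927

/-!
# Monomorphisms of algebraic spaces deform to monomorphisms
-/

universe u

open CategoryTheory CategoryTheory.Limits AlgebraicGeometry Opposite

set_option backward.isDefEq.respectTransparency.types false

namespace Groth.Agent.AlgSpCov.DeformMono

open _root_.AlgSp Groth.Agent.AlgSp Groth.Agent.AlgSpCov.ThickCharts Groth.Agent.AlgSpCov.ThickDeform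

variable {S : Scheme.{u}}

/-- `Spec (A ⧸ I)` over `S`. -/
noncomputable abbrev ptI {A : Type u} [CommRing A] (str : Spec (CommRingCat.of A) ⟶ S) (I : Ideal A) : Over S :=
  Over.mk (Spec.map (CommRingCat.ofHom (Ideal.Quotient.mk I)) ≫ str)

/-- The closed immersion `Spec (A ⧸ I) ⟶ Spec A` over `S`. -/
noncomputable abbrev jI {A : Type u} [CommRing A] (str : Spec (CommRingCat.of A) ⟶ S) (I : Ideal A) :
    ptI str I ⟶ Over.mk str :=
  Over.homMk (Spec.map (CommRingCat.ofHom (Ideal.Quotient.mk I))) rfl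

/-- For a formally unramified map two lifts which agree modulo a nilpotent ideal are equal. -/
theorem eq_of_nilpotent {F G : Sp S} {p : F ⟶ G} (hp : IsFormallyUnramifiedMor p) :
    ∀ (m : ℕ) {A : Type u} [CommRing A] (I : Ideal A) (str : Spec (CommRingCat.of A) ⟶ S)
      (a b : (yon S).obj (Over.mk str) ⟶ F), I ^ (2 ^ m) = ⊥ →
      (yon S).map (jI str I) ≫ a = (yon S).map (jI str I) ≫ b → a ≫ p = b ≫ p → a = b := by
  intro m
  induction m with
  | zero =>
    intro A _ I str a b hI h₁ h₂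
    rw [pow_zero, pow_one] at hI
    exact hp ⟨A, I, by rw [hI, pow_two, Ideal.bot_mul], str, (yon S).map (jI str I) ≫ a, a ≫ p,
      Category.assoc _ _ _⟩ a b rfl rfl h₁.symm h₂.symm
  | succ m ih =>
    intro A _ I str a b hI h₁ h₂
    let K := I ^ (2 ^ m)
    have hK : K ^ 2 = ⊥ := by rw [← pow_mul, ← pow_succ, hI]
    let J := I.map (Ideal.Quotient.mk K)
    let strK : Spec (CommRingCat.of (A ⧸ K)) ⟶ S := Spec.map (CommRingCat.ofHom (Ideal.Quotient.mk K)) ≫ str
    have hJ : J ^ (2 ^ m) = ⊥ := by rw [← Ideal.map_pow]; exact Ideal.map_quotient_self K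
    let φ : A ⧸ I →+* (A ⧸ K) ⧸ J := Ideal.quotientMap J (Ideal.Quotient.mk K) Ideal.le_comap_map
    have hφ : CommRingCat.ofHom (Ideal.Quotient.mk I) ≫ CommRingCat.ofHom φ =
        CommRingCat.ofHom (Ideal.Quotient.mk K) ≫ CommRingCat.ofHom (Ideal.Quotient.mk J) := by
      ext x; rfl
    have hl : Spec.map (CommRingCat.ofHom φ) ≫ Spec.map (CommRingCat.ofHom (Ideal.Quotient.mk I)) =
        Spec.map (CommRingCat.ofHom (Ideal.Quotient.mk J)) ≫ Spec.map (CommRingCat.ofHom (Ideal.Quotient.mk K)) := by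
      rw [← Spec.map_comp, ← Spec.map_comp, hφ]
    let r : ptI strK J ⟶ ptI str I := Over.homMk (Spec.map (CommRingCat.ofHom φ)) (by
      change Spec.map _ ≫ Spec.map _ ≫ str = Spec.map _ ≫ Spec.map _ ≫ str
      rw [← Category.assoc, hl, Category.assoc])
    have hr : jI strK J ≫ jI str K = r ≫ jI str I := Over.OverMorphism.ext hl.symm
    have hKab : (yon S).map (jI str K) ≫ a = (yon S).map (jI str K) ≫ b := by
      refine ih J strK _ _ hJ ?_ (by rw [Category.assoc, Category.assoc, h₂])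
      rw [← Functor.map_comp_assoc, ← Functor.map_comp_assoc, hr, Functor.map_comp_assoc, Functor.map_comp_assoc,
        h₁]
    exact hp ⟨A, K, hK, str, (yon S).map (jI str K) ≫ a, a ≫ p, Category.assoc _ _ _⟩
      a b rfl rfl hKab.symm h₂.symm

/-- A closed immersion into an affine scheme with nilpotent kernel is given by a nilpotent ideal. -/
theorem exists_ideal_of_nilpotent {A : Type u} [CommRing A] {T : Scheme.{u}} (s : T ⟶ Spec (CommRingCat.of A))
    [IsClosedImmersion s] (hs : IsNilpotent s.ker) :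
    ∃ (I : Ideal A) (e : T ≅ Spec (CommRingCat.of (A ⧸ I))), IsNilpotent I ∧
      e.hom ≫ Spec.map (CommRingCat.ofHom (Ideal.Quotient.mk I)) = s := by
  obtain ⟨I, e, he⟩ := IsClosedImmersion.Spec_iff.1 ‹IsClosedImmersion s›
  refine ⟨I, e, ?_, he.symm⟩
  let σ := Spec.map (CommRingCat.ofHom (Ideal.Quotient.mk I))
  have hσ : IsNilpotent σ.ker := by rw [← Scheme.Hom.ker_comp_of_isIso e.hom σ, ← he]; exact hs
  have : IsClosedImmersion σ := IsClosedImmersion.spec_of_surjective _ Ideal.Quotient.mk_surjective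
  obtain ⟨n, hn⟩ := Groth.Agent.Thick.Unram.isNilpotent_ker_app σ hσ (isAffineOpen_top _)
  refine ⟨n, eq_bot_iff.2 ?_⟩
  let ε := (Scheme.ΓSpecIso (CommRingCat.of A)).commRingCatIsoToRingEquiv
  have hk : I.comap ε.toRingHom ≤ RingHom.ker (σ.appTop).hom := by
    intro x hx
    have h := congr($(Scheme.ΓSpecIso_naturality (CommRingCat.ofHom (Ideal.Quotient.mk I))).hom x)
    rw [RingHom.mem_ker]
    refine (map_eq_zero_iff _ (Scheme.ΓSpecIso (CommRingCat.of (A ⧸ I))).commRingCatIsoToRingEquiv.injective).1 ?_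
    refine Eq.trans h ?_
    exact Ideal.Quotient.eq_zero_iff_mem.2 hx
  have h2 : (I.comap ε.toRingHom) ^ n = ⊥ := le_bot_iff.1 ((Ideal.pow_right_mono hk n).trans hn.le)
  rw [← Ideal.map_comap_of_surjective ε.toRingHom ε.surjective I, ← Ideal.map_pow, h2, Ideal.map_bot]

/-- A formally unramified map to a scheme is mono if it is so over a finite order thickening. -/
theorem mono_of_thick_yon {P P₀ : Sp S} {V V' : Over S} {iV : V ⟶ V'}
    (hV : MoreMor.IsFiniteOrderThickening iV.left) {p : P ⟶ (yon S).obj V'} {p₀ : P₀ ⟶ (yon S).obj V}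
    {k : P₀ ⟶ P} (sq : IsPullback k p₀ p ((yon S).map iV)) [Mono p₀] (hp : IsFormallyUnramifiedMor p) :
    Mono p := by
  refine mono_of_yon p fun U a b hab => ?_
  let ι : U.left → Over S := fun x =>
    Over.mk ((exists_isAffineOpen_mem_and_subset (X := U.left) (x := x) (U := ⊤) trivial).choose_spec.1.fromSpec
      ≫ U.hom)
  let g : ∀ x, ι x ⟶ U := fun x => Over.homMk
    (exists_isAffineOpen_mem_and_subset (X := U.left) (x := x) (U := ⊤) trivial).choose_spec.1.fromSpec rfl
  refine InfGlue.hom_ext_cover g (fun x => inferInstanceAs (Etale (IsAffineOpen.fromSpec _))) (fun x => ⟨x, ?_⟩) a b ?_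
  · rw [show (g x).left = IsAffineOpen.fromSpec _ from rfl, IsAffineOpen.range_fromSpec]
    exact (exists_isAffineOpen_mem_and_subset (X := U.left) (x := x) (U := ⊤) trivial).choose_spec.2.1
  intro x
  obtain ⟨t, ht⟩ := (yon S).map_surjective ((yon S).map (g x) ≫ a ≫ p)
  let T₀ := pullback t iV
  have sqT : IsPullback (pullback.fst t iV) (pullback.snd t iV) t iV := IsPullback.of_hasPullback _ _
  have sqL : IsPullback (pullback.fst t iV).left (pullback.snd t iV).left t.left iV.left :=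
    sqT.map (Over.forget S)
  have := hV.1.1
  have : IsClosedImmersion (pullback.fst t iV).left := MorphismProperty.of_isPullback sqL.flip hV.1.1
  obtain ⟨I, e, ⟨n, hn⟩, he⟩ := exists_ideal_of_nilpotent (pullback.fst t iV).left
    (Groth.Agent.Wt.FinOrdThick.isNilpotent_ker hV.2 sqL)
  have he' : (Spec.map (CommRingCat.ofHom (Ideal.Quotient.mk I))) = e.inv ≫ (pullback.fst t iV).left := by
    rw [← he, e.inv_hom_id_assoc]
  let r : ptI (ι x).hom I ⟶ T₀ := Over.homMk e.inv (by
    change e.inv ≫ T₀.hom = Spec.map _ ≫ (ι x).hom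
    rw [he', Category.assoc, Over.w (pullback.fst t iV)])
  have hr : jI (ι x).hom I = r ≫ pullback.fst t iV := Over.OverMorphism.ext he'
  have hp₁ : ((yon S).map (jI (ι x).hom I) ≫ (yon S).map (g x) ≫ a) ≫ p =
      (yon S).map (r ≫ pullback.snd t iV) ≫ (yon S).map iV := by
    simp only [Category.assoc, ← ht, ← Functor.map_comp]
    rw [hr, Category.assoc, sqT.w]
  have hp₂ : ((yon S).map (jI (ι x).hom I) ≫ (yon S).map (g x) ≫ b) ≫ p =
      (yon S).map (r ≫ pullback.snd t iV) ≫ (yon S).map iV := by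
    rw [← hp₁]; simp only [Category.assoc, hab]
  have e₀ : sq.lift _ _ hp₁ = sq.lift _ _ hp₂ := (cancel_mono p₀).1 (by rw [sq.lift_snd, sq.lift_snd])
  have h₁ := congrArg (· ≫ k) e₀
  simp only [sq.lift_fst] at h₁
  refine eq_of_nilpotent hp n I (ι x).hom _ _ ?_ h₁ (by simp only [Category.assoc, hab])
  rw [← Nat.sub_add_cancel (Nat.lt_two_pow_self (n := n)).le, pow_add, hn, Ideal.zero_eq_bot, Ideal.mul_bot]

/-- A monomorphism deforms to a monomorphism. -/
theorem mono_deform {X X' Y Y' B B' : Space S} {iX : X ⟶ X'} {iY : Y ⟶ Y'} {iB : B ⟶ B'} {f : X ⟶ Y}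
    {f' : X' ⟶ Y'} {g : Y ⟶ B} {g' : Y' ⟶ B'}
    (hcX : IsPullback iX.hom (f ≫ g).hom (f' ≫ g').hom iB.hom) (hcY : IsPullback iY.hom g.hom g'.hom iB.hom)
    (w : iX ≫ f' = f ≫ iY) (hB : IsFinThickMor iB.hom) (hflat : LocP @Flat (f' ≫ g').hom) [Mono f.hom] :
    Mono f'.hom := by
  have hfu : IsFormallyUnramifiedMor f.hom := fun sq l l' h₁ h₂ h₃ h₄ => (cancel_mono f.hom).1 (h₂.trans h₄.symm)
  have hfu' : IsFormallyUnramifiedMor f'.hom := (Groth.Agent.S10621.result f').1.2
    (locP_deform etaleLocal_formallyUnramified (fun _ _ e he => inferInstance) hcX hcY w hB hflat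
      (fun A A' B B' C C' iA iB iC h h' k k' hC hA hB' w' hfl hh =>
        have := hh
        fu_deform_scheme hC hA hB' w') ((Groth.Agent.S10621.result f).1.1 hfu))
  have hc : IsPullback iX.hom f.hom f'.hom iY.hom :=
    IsPullback.of_bot hcX (congrArg InducedCategory.Hom.hom w) hcY
  obtain ⟨W', c', hc', hc's⟩ := B'.property.atlas
  obtain ⟨V', b', k', hb', hb's, wk⟩ := exists_chart_lift Y'.property B'.property g'.hom c' hc' hc's
  obtain ⟨W, iW, c, sqW⟩ := hB.choose_spec.1.1 c'
  obtain ⟨V, b, k, iV, sqV, wk₀, sk⟩ := exists_cart_chart hcY sqW wk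
  have hW := isFiniteOrderThickening_chart hB hc' sqW
  have hV : MoreMor.IsFiniteOrderThickening iV.left :=
    have := hW.1.1
    ⟨⟨MorphismProperty.of_isPullback sk.flip hW.1.1, MorphismProperty.of_isPullback sk.flip hW.1.2⟩,
      Groth.Agent.Wt.FinOrdThick.isNilpotent_ker hW.2 sk⟩
  have sqP := IsPullback.of_hasPullback f'.hom b'
  have sqP₀ := IsPullback.of_hasPullback f.hom b
  let κ : pullback f.hom b ⟶ pullback f'.hom b' := sqP.lift (pullback.fst f.hom b ≫ iX.hom)
    (pullback.snd f.hom b ≫ (yon S).map iV) (by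
      rw [Category.assoc, hc.w, ← Category.assoc, sqP₀.w, Category.assoc, Category.assoc, sqV.w])
  have sq : IsPullback κ (pullback.snd f.hom b) (pullback.snd f'.hom b') ((yon S).map iV) := by
    refine IsPullback.of_right ?_ (sqP.lift_snd ..) sqP
    rw [show κ ≫ pullback.fst f'.hom b' = pullback.fst f.hom b ≫ iX.hom from sqP.lift_fst .., ← sqV.w]
    exact sqP₀.paste_horiz hc
  have : Mono (pullback.snd f'.hom b') := mono_of_thick_yon hV sq
    ((Groth.Agent.S10620.result _ _ _ _ sqP).2.2 hfu')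
  exact Groth.Agent.S9927.result f' V' b' hb' hb's _ _ sqP

end Groth.Agent.AlgSpCov.DeformMono
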