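import Groth.Agent.AlgSpB.Points
import Groth.Agent.AlgSpCov.LocP
import Groth.Agent.Hens.Unique
import Groth.Agent.EtNormal.Basic
import Groth.Agent.Hensel.EssEt
import Groth.Prelude.Def_AlgSpDec
import Groth.Prelude.Def_Hens2
import Mathlib.AlgebraicGeometry.Morphisms.FlatMono

/-!
# Morphisms of elementary etale neighbourhoods

* `isEtaleNbhd_of_elem`: a morphism of elementary etale neighbourhoods is an etale neighbourhood of schemes.
* `elem_comp`: conversely, composing with an etale neighbourhood of schemes.
* `isHenselization_of_isEtaleNbhd`: a henselization upstairs is one downstairs.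
-/

set_option autoImplicit false
set_option backward.isDefEq.respectTransparency false

universe u

open CategoryTheory CategoryTheory.Limits AlgebraicGeometry IsLocalRing

namespace Groth.Agent.AlgSpCov.ElemNbhd

open Groth.Agent

theorem bijective_of_mono_specMap {K L : Type u} [Field K] [Field L] (φ : K →+* L)
    (h : Mono (Spec.map (CommRingCat.ofHom φ))) : Function.Bijective φ := by
  have : Surjective (Spec.map (CommRingCat.ofHom φ)) := ⟨fun x => ⟨IsLocalRing.closedPoint L,
    Subsingleton.elim (α := PrimeSpectrum K) _ _⟩⟩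
  have : Flat (Spec.map (CommRingCat.ofHom φ)) := by
    rw [HasRingHomProperty.Spec_iff (P := @Flat)]
    algebraize [φ]
    exact (inferInstance : Module.Flat K L)
  have : IsIso (Spec.map (CommRingCat.ofHom φ)) := Flat.isIso_of_surjective_of_mono _
  have : IsIso (CommRingCat.ofHom φ) := by
    have : IsIso (Scheme.Spec.map (CommRingCat.ofHom φ).op) := this
    have := isIso_of_reflects_iso (CommRingCat.ofHom φ).op Scheme.Spec
    exact (isIso_op_iff _).1 this
  exact ConcreteCategory.bijective_of_isIso (CommRingCat.ofHom φ)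

variable {S : Scheme.{u}} {F : AlgSp.Sp S} {U U' : Over S} {a : (AlgSp.yon S).obj U ⟶ F}
  {a' : (AlgSp.yon S).obj U' ⟶ F}

/-- A morphism of elementary etale neighbourhoods is an etale neighbourhood. -/
theorem isEtaleNbhd_of_elem (g : U' ⟶ U) (hg : (AlgSp.yon S).map g ≫ a = a') (u' : ↥U'.left)
    {x : AlgSp.Points F} (ha : AlgSp.IsElemEtaleNbhd a (g.left u') x) (ha' : AlgSp.IsElemEtaleNbhd a' u' x) :
    Hens2.IsEtaleNbhd g.left u' (g.left u') := by
  refine ⟨?_, rfl, ?_⟩
  · exact (AlgSp.repWith_yon_map_iff _ _).1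
      (AlgSpCov.repWith_etale_cancel ((AlgSp.yon S).map g) a ha.etale (hg ▸ ha'.etale))
  · let Tu' : Over S := Over.mk (U'.left.fromSpecResidueField u' ≫ U'.hom)
    let Tu : Over S := Over.mk (U.left.fromSpecResidueField (g.left u') ≫ U.hom)
    let j : Tu' ⟶ Tu := Over.homMk (Spec.map (g.left.residueFieldMap u')) (by
      change Spec.map _ ≫ _ ≫ U.hom = _
      rw [← Category.assoc, Scheme.Hom.SpecMap_residueFieldMap_fromSpecResidueField, Category.assoc, Over.w g]
      rfl)
    have hj : (AlgSp.yon S).map j ≫ (AlgSp.FieldPt.ofPt a (g.left u')).toHom =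
        (AlgSp.FieldPt.ofPt a' u').toHom := by
      rw [AlgSp.FieldPt.toHom_ofPt, AlgSp.FieldPt.toHom_ofPt, ← hg, ← Category.assoc, ← Functor.map_comp,
        ← Category.assoc, ← Functor.map_comp]
      congr 2
      exact Over.OverMorphism.ext (Scheme.Hom.SpecMap_residueFieldMap_fromSpecResidueField g.left u')
    have : Mono ((AlgSp.yon S).map j) := @mono_of_mono_fac _ _ _ _ _ _ _ _ ha'.mono hj
    have : Mono j := (AlgSp.yon S).mono_of_mono_map this
    have : Mono j.left := ⟨fun {T} f₁ f₂ e => by
      have e' : f₂ ≫ Tu'.hom = f₁ ≫ Tu'.hom := by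
        rw [← Over.w j, ← Category.assoc, ← Category.assoc, e]
      exact congrArg CommaMorphism.left ((cancel_mono j).1 (Over.OverMorphism.ext
        (f := (Over.homMk f₁ rfl : Over.mk (f₁ ≫ Tu'.hom) ⟶ Tu') ≫ j) (g := Over.homMk f₂ e' ≫ j) e))⟩
    exact bijective_of_mono_specMap (g.left.residueFieldMap u').hom this

/-- An etale neighbourhood of an elementary etale neighbourhood is elementary. -/
theorem elem_comp {x : AlgSp.Points F} {u : ↥U.left} (ha : AlgSp.IsElemEtaleNbhd a u x) (g : U' ⟶ U)
    (u' : ↥U'.left) (hg : Hens2.IsEtaleNbhd g.left u' u) :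
    AlgSp.IsElemEtaleNbhd ((AlgSp.yon S).map g ≫ a) u' x := by
  obtain ⟨he, rfl, hb⟩ := hg
  refine ⟨AlgSpB.repWith_etale_map_comp g ha.etale, by rw [AlgSpB.ofPt_map_comp]; exact ha.ofPt_eq, ?_⟩
  have : IsIso (g.left.residueFieldMap u') := (ConcreteCategory.isIso_iff_bijective _).2 hb
  let Tu' : Over S := Over.mk (U'.left.fromSpecResidueField u' ≫ U'.hom)
  let Tu : Over S := Over.mk (U.left.fromSpecResidueField (g.left u') ≫ U.hom)
  let j : Tu' ⟶ Tu := Over.homMk (Spec.map (g.left.residueFieldMap u')) (by
    change Spec.map _ ≫ _ ≫ U.hom = _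
    rw [← Category.assoc, Scheme.Hom.SpecMap_residueFieldMap_fromSpecResidueField, Category.assoc, Over.w g]
    rfl)
  have : IsIso j := by
    have : IsIso ((Over.forget S).map j) := inferInstanceAs (IsIso (Spec.map (g.left.residueFieldMap u')))
    exact isIso_of_reflects_iso j (Over.forget S)
  have hj : (AlgSp.yon S).map j ≫ (AlgSp.FieldPt.ofPt a (g.left u')).toHom =
      (AlgSp.FieldPt.ofPt ((AlgSp.yon S).map g ≫ a) u').toHom := by
    rw [AlgSp.FieldPt.toHom_ofPt, AlgSp.FieldPt.toHom_ofPt, ← Category.assoc, ← Functor.map_comp,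
      ← Category.assoc, ← Functor.map_comp]
    congr 2
    exact Over.OverMorphism.ext (Scheme.Hom.SpecMap_residueFieldMap_fromSpecResidueField g.left u')
  have := ha.mono
  rw [← hj]
  exact mono_comp _ _

/-- A henselization of the stalk of an etale neighbourhood is one of the stalk downstairs. -/
theorem isHenselization_of_isEtaleNbhd {U' U : Scheme.{u}} (g : U' ⟶ U) (u' : U')
    (hg : Hens2.IsEtaleNbhd g u' (g u')) (R : Type u) [CommRing R] [IsLocalRing R]
    [Algebra (U'.presheaf.stalk u') R] [IsLocalHom (algebraMap (U'.presheaf.stalk u') R)]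
    [Hensel.IsHenselization (U'.presheaf.stalk u') R] :
    letI : Algebra (U.presheaf.stalk (g u')) R :=
      ((algebraMap (U'.presheaf.stalk u') R).comp (g.stalkMap u').hom).toAlgebra
    ∃ (_ : IsLocalHom (algebraMap (U.presheaf.stalk (g u')) R)),
      Hensel.IsHenselization (U.presheaf.stalk (g u')) R := by
  have := hg.etale
  let A : Type u := U.presheaf.stalk (g u')
  let A' : Type u := U'.presheaf.stalk u'
  let sm : A →+* A' := (g.stalkMap u').hom
  let : Algebra A A' := sm.toAlgebra
  let : Algebra A R := ((algebraMap A' R).comp sm).toAlgebra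
  have hlocA : IsLocalHom (algebraMap A A') := inferInstanceAs (IsLocalHom (g.stalkMap u').hom)
  have hAR : IsLocalHom (algebraMap A R) := by
    change IsLocalHom ((algebraMap A' R).comp (algebraMap A A'))
    exact RingHom.isLocalHom_comp _ _
  refine ⟨hAR, ?_, fun T _ _ f hf => ?_⟩
  · exact Hensel.IsHenselization.henselian (R := A')
  let α : ResidueField A' →+* ResidueField T := (ResidueField.map f).comp
    (RingEquiv.ofBijective (g.residueFieldMap u').hom hg.residue_bijective).symm.toRingHom
  have hα : α.comp (ResidueField.map (algebraMap A A')) = ResidueField.map f := RingHom.ext fun a =>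
    congrArg (ResidueField.map f)
      ((RingEquiv.ofBijective (g.residueFieldMap u').hom hg.residue_bijective).symm_apply_apply a)
  obtain ⟨φ, ⟨hφl, hφ, hφr⟩, hφu⟩ :=
    Hensel.existsUnique_of_isEssentiallyEtale (EtNormal.isEssentiallyEtale_stalk g u') T f α hα
  obtain ⟨γ, hγ, hγu⟩ := Hensel.IsHenselization.universal (R := A') (S := R) T φ hφl
  refine ⟨γ, ?_, fun γ' hγ' => hγu γ' ?_⟩
  · change γ.comp ((algebraMap A' R).comp sm) = f
    rw [← RingHom.comp_assoc, hγ]
    exact hφ
  · have e : (γ'.comp (algebraMap A' R)).comp (algebraMap A A') = f := by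
      rw [RingHom.comp_assoc]; exact hγ'
    have hl : IsLocalHom (γ'.comp (algebraMap A' R)) := by
      refine ((IsLocalRing.local_hom_TFAE (γ'.comp (algebraMap A' R))).out 0 2).mpr ?_
      change (IsLocalRing.maximalIdeal A').map (γ'.comp (algebraMap A' R)) ≤ _
      rw [← (EtNormal.isEtLike_stalk g u').map_max, Ideal.map_map, e]
      exact ((IsLocalRing.local_hom_TFAE f).out 0 2).1 hf
    refine hφu _ ⟨hl, e, fun y => ?_⟩
    obtain ⟨c, hc⟩ := hg.residue_bijective.2 (residue A' y)
    obtain ⟨c, rfl⟩ := residue_surjective c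
    have h1 : ResidueField.map (γ'.comp (algebraMap A' R)) (residue A' y) =
        ResidueField.map (γ'.comp (algebraMap A' R)) (residue A' (sm c)) :=
      congrArg _ (hc.symm.trans (ResidueField.map_residue sm c))
    rw [ResidueField.map_residue, ResidueField.map_residue] at h1
    rw [h1, show (γ'.comp (algebraMap A' R)) (sm c) = f c from RingHom.congr_fun e c]
    rw [show residue A' y = ResidueField.map (algebraMap A A') (residue A c) from hc.symm,
      show α (ResidueField.map (algebraMap A A') (residue A c)) = ResidueField.map f (residue A c) from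
        RingHom.congr_fun hα (residue A c), ResidueField.map_residue]

end Groth.Agent.AlgSpCov.ElemNbhd
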