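import Groth.Agent.AlgSpCov.ElemNbhd
import Groth.Agent.Hens.BranchSup
import Groth.Agent.S9237

/-!
# Elementary etale neighbourhoods form a cofiltered category; branch numbers

* `exists_dominating`, `exists_equalizer`, `numBranchesAt_eq`.
-/

set_option autoImplicit false
set_option backward.isDefEq.respectTransparency false

universe u

open CategoryTheory CategoryTheory.Limits AlgebraicGeometry IsLocalRing

namespace Groth.Agent.AlgSpCov.ElemNbhd

open Groth.Agent

variable {S : Scheme.{u}} {X : AlgSp.Sp S} {x : AlgSp.Points X}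

/-- The residue field point of a scheme. -/
noncomputable abbrev resPt (U : Over S) (u : ↥U.left) :
    Over.mk (U.left.fromSpecResidueField u ≫ U.hom) ⟶ U :=
  Over.homMk (U.left.fromSpecResidueField u) rfl

theorem resPt_closedPoint (U : Over S) (u : ↥U.left) (t : Spec (U.left.residueField u)) : (resPt U u).left t = u :=
  (Scheme.fromSpecResidueField_apply u t)

theorem isIso_of_mono_to_field {T : Over S} {K : Type u} [Field K] {σ : Spec (CommRingCat.of K) ⟶ S}
    (q : T ⟶ Over.mk σ) [Mono q] (t : ↥T.left) : IsIso q := by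
  have : Mono q.left := ⟨fun {Z} f₁ f₂ e => by
    have e' : f₂ ≫ T.hom = f₁ ≫ T.hom := by
      rw [← Over.w q, ← Category.assoc, ← Category.assoc, e]
    exact congrArg CommaMorphism.left ((cancel_mono q).1 (Over.OverMorphism.ext
      (f := (Over.homMk f₁ rfl : Over.mk (f₁ ≫ T.hom) ⟶ T) ≫ q) (g := Over.homMk f₂ e' ≫ q) e))⟩
  have : Subsingleton (Over.mk σ).left := inferInstanceAs (Subsingleton (PrimeSpectrum K))
  have : Surjective q.left := ⟨fun y => ⟨t, Subsingleton.elim _ _⟩⟩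
  have : Subsingleton T.left := q.left.injective.subsingleton
  have : CompactSpace T.left := Finite.compactSpace
  have : IsAffine (Over.mk σ).left := inferInstanceAs (IsAffine (Spec (CommRingCat.of K)))
  have : IsIntegral (Over.mk σ).left := inferInstanceAs (IsIntegral (Spec (CommRingCat.of K)))
  have hflat : Flat q.left := by
    have : Flat (q.left : T.left ⟶ Spec (CommRingCat.of K)) := inferInstance
    exact this
  have : IsIso q.left := Flat.isIso_of_surjective_of_mono _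
  have : IsIso ((Over.forget S).map q) := this
  exact isIso_of_reflects_iso q (Over.forget S)

variable (hX : AlgSp.IsAlgSpace X)
include hX

/-- Residue fields of elementary neighbourhoods are identified over the space. -/
theorem exists_residue_iso {U₁ U₂ : Over S} {a₁ : (AlgSp.yon S).obj U₁ ⟶ X} {a₂ : (AlgSp.yon S).obj U₂ ⟶ X}
    {u₁ : ↥U₁.left} {u₂ : ↥U₂.left} (h₁ : AlgSp.IsElemEtaleNbhd a₁ u₁ x) (h₂ : AlgSp.IsElemEtaleNbhd a₂ u₂ x) :
    ∃ σ : Over.mk (U₁.left.fromSpecResidueField u₁ ≫ U₁.hom) ⟶ Over.mk (U₂.left.fromSpecResidueField u₂ ≫ U₂.hom),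
      IsIso σ ∧ (AlgSp.yon S).map (σ ≫ resPt U₂ u₂) ≫ a₂ = (AlgSp.yon S).map (resPt U₁ u₁) ≫ a₁ := by
  let m₁ := (AlgSp.yon S).map (resPt U₁ u₁) ≫ a₁
  let m₂ := (AlgSp.yon S).map (resPt U₂ u₂) ≫ a₂
  have hm₁ : Mono m₁ := by
    have := h₁.mono; rwa [AlgSp.FieldPt.toHom_ofPt] at this
  have hm₂ : Mono m₂ := by
    have := h₂.mono; rwa [AlgSp.FieldPt.toHom_ofPt] at this
  obtain ⟨T, p, q, sq⟩ := AlgSpB.exists_pullback_yon (hX.representable_from_yon m₁) m₂
  obtain ⟨t, -, -⟩ := (AlgSpB.ofPt_eq_ofPt_iff sq (closedPoint _) (closedPoint _)).1 (by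
    change AlgSp.Points.ofPt ((AlgSp.yon S).map _ ≫ a₁) _ = AlgSp.Points.ofPt ((AlgSp.yon S).map _ ≫ a₂) _
    rw [AlgSpB.ofPt_map_comp, AlgSpB.ofPt_map_comp, resPt_closedPoint, resPt_closedPoint, h₁.ofPt_eq, h₂.ofPt_eq])
  have : Mono ((AlgSp.yon S).map p) := sq.mono_fst_of_mono
  have : Mono ((AlgSp.yon S).map q) := sq.mono_snd_of_mono
  have : Mono p := (AlgSp.yon S).mono_of_mono_map inferInstance
  have : Mono q := (AlgSp.yon S).mono_of_mono_map inferInstance
  have := isIso_of_mono_to_field p t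
  have := isIso_of_mono_to_field q t
  refine ⟨inv p ≫ q, inferInstance, ?_⟩
  simp only [Functor.map_comp, Category.assoc]
  rw [show (AlgSp.yon S).map (inv p) = inv ((AlgSp.yon S).map p) from (AlgSp.yon S).map_inv p, IsIso.inv_comp_eq]
  exact sq.w.symm

/-- Two elementary neighbourhoods are dominated by a third. -/
theorem exists_dominating {U₁ U₂ : Over S} {a₁ : (AlgSp.yon S).obj U₁ ⟶ X} {a₂ : (AlgSp.yon S).obj U₂ ⟶ X}
    {u₁ : ↥U₁.left} {u₂ : ↥U₂.left} (h₁ : AlgSp.IsElemEtaleNbhd a₁ u₁ x) (h₂ : AlgSp.IsElemEtaleNbhd a₂ u₂ x) :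
    ∃ (U : Over S) (a : (AlgSp.yon S).obj U ⟶ X) (v : ↥U.left) (p : U ⟶ U₁) (q : U ⟶ U₂),
      AlgSp.IsElemEtaleNbhd a v x ∧ (AlgSp.yon S).map p ≫ a₁ = a ∧ (AlgSp.yon S).map q ≫ a₂ = a ∧
        p.left v = u₁ ∧ q.left v = u₂ := by
  obtain ⟨σ, hσ, e⟩ := exists_residue_iso hX h₁ h₂
  obtain ⟨W, p, q, sq⟩ := AlgSpB.exists_pullback_yon h₁.etale.1 a₂
  have : Etale p.left := h₂.etale.2 _ _ _ sq.flip
  obtain ⟨l, hl⟩ := (AlgSp.yon S).map_surjective (sq.lift _ _ e.symm)
  have hlp : l ≫ p = resPt U₁ u₁ := (AlgSp.yon S).map_injective (by rw [Functor.map_comp, hl, sq.lift_fst])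
  have hlq : l ≫ q = σ ≫ resPt U₂ u₂ := (AlgSp.yon S).map_injective (by rw [Functor.map_comp, hl, sq.lift_snd])
  let v := l.left (closedPoint (U₁.left.residueField u₁))
  have hvp : p.left v = u₁ := by
    change (l ≫ p).left (closedPoint _) = u₁
    rw [hlp, resPt_closedPoint]
  have hnb : Hens2.IsEtaleNbhd p.left v u₁ := by
    refine ⟨inferInstance, hvp, RingHom.injective _, fun z => ?_⟩
    let pt : Spec (U₁.left.residueField u₁) := closedPoint _
    have e : l.left ≫ p.left = U₁.left.fromSpecResidueField u₁ := congrArg CommaMorphism.left hlp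
    have h0 : Function.Bijective ((U₁.left.fromSpecResidueField u₁).residueFieldMap pt) :=
      ⟨RingHom.injective _, fun c => by
        obtain ⟨c, rfl⟩ := Scheme.residue_surjective _ _ c
        obtain ⟨y, rfl⟩ := (U₁.left.fromSpecResidueField u₁).stalkMap_surjective pt c
        exact ⟨Scheme.residue _ _ y, RingHom.congr_fun (congrArg CommRingCat.Hom.hom
          (Scheme.residue_residueFieldMap (U₁.left.fromSpecResidueField u₁) pt)) y⟩⟩
    have h1 : Function.Bijective ((l.left ≫ p.left).residueFieldMap pt) := by rw [e]; exact h0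
    rw [Scheme.residueFieldMap_comp] at h1
    obtain ⟨y, hy⟩ := h1.2 ((l.left.residueFieldMap pt) z)
    exact ⟨y, RingHom.injective (l.left.residueFieldMap pt).hom hy⟩
  refine ⟨W, (AlgSp.yon S).map p ≫ a₁, v, p, q, elem_comp h₁ p v hnb, rfl, sq.w.symm, hvp, ?_⟩
  change (l ≫ q).left (closedPoint _) = u₂
  rw [hlq]
  exact resPt_closedPoint U₂ u₂ _

/-- Parallel morphisms of elementary neighbourhoods are equalized. -/
theorem exists_equalizer {U₁ U₂ : Over S} {a₁ : (AlgSp.yon S).obj U₁ ⟶ X} {a₂ : (AlgSp.yon S).obj U₂ ⟶ X}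
    {u₁ : ↥U₁.left} {u₂ : ↥U₂.left} (b c : U₁ ⟶ U₂) (h₁ : AlgSp.IsElemEtaleNbhd a₁ u₁ x)
    (h₂ : AlgSp.IsElemEtaleNbhd a₂ u₂ x) (hb : (AlgSp.yon S).map b ≫ a₂ = a₁)
    (hc : (AlgSp.yon S).map c ≫ a₂ = a₁) (hbu : b.left u₁ = u₂) (hcu : c.left u₁ = u₂) :
    ∃ (U : Over S) (a : (AlgSp.yon S).obj U ⟶ X) (v : ↥U.left) (h : U ⟶ U₁),
      AlgSp.IsElemEtaleNbhd a v x ∧ (AlgSp.yon S).map h ≫ a₁ = a ∧ h.left v = u₁ ∧ h ≫ b = h ≫ c := by
  obtain ⟨R, s, t, sq⟩ := AlgSpB.exists_pullback_yon h₂.etale.1 a₂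
  obtain ⟨δ, hδ⟩ := (AlgSp.yon S).map_surjective (sq.lift (𝟙 _) (𝟙 _) rfl)
  have hδs : δ ≫ s = 𝟙 _ := (AlgSp.yon S).map_injective (by rw [Functor.map_comp, hδ, sq.lift_fst, CategoryTheory.Functor.map_id])
  have hδt : δ ≫ t = 𝟙 _ := (AlgSp.yon S).map_injective (by rw [Functor.map_comp, hδ, sq.lift_snd, CategoryTheory.Functor.map_id])
  obtain ⟨d, hd⟩ := (AlgSp.yon S).map_surjective (sq.lift _ _ (hb.trans hc.symm))
  have hds : d ≫ s = b := (AlgSp.yon S).map_injective (by rw [Functor.map_comp, hd, sq.lift_fst])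
  have hdt : d ≫ t = c := (AlgSp.yon S).map_injective (by rw [Functor.map_comp, hd, sq.lift_snd])
  have : Etale s.left := h₂.etale.2 _ _ _ sq.flip
  have hsδ : δ.left ≫ s.left = 𝟙 _ := congrArg CommaMorphism.left hδs
  have : Etale (δ.left ≫ s.left) := by rw [hsδ]; infer_instance
  have : Etale δ.left := Etale.of_comp δ.left s.left
  have : Mono δ.left := mono_of_mono_fac hsδ
  have : IsOpenImmersion δ.left := IsOpenImmersion.of_flat_of_mono _
  -- the residue field point lands in the diagonal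
  have hm₂ : Mono ((AlgSp.yon S).map (resPt U₂ u₂) ≫ a₂) := by
    have := h₂.mono; rwa [AlgSp.FieldPt.toHom_ofPt] at this
  let j : ∀ (f : U₁ ⟶ U₂) (_ : f.left u₁ = u₂), Over.mk (U₁.left.fromSpecResidueField u₁ ≫ U₁.hom) ⟶
      Over.mk (U₂.left.fromSpecResidueField u₂ ≫ U₂.hom) := fun f e =>
    Over.homMk (Spec.map (f.left.residueFieldMap u₁) ≫ Spec.map (U₂.left.residueFieldCongr e).inv) (by
      subst e
      simp)
  have hj : ∀ (f : U₁ ⟶ U₂) (e : f.left u₁ = u₂), j f e ≫ resPt U₂ u₂ = resPt U₁ u₁ ≫ f := by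
    intro f e
    subst e
    apply Over.OverMorphism.ext
    simp [j]
  have hjj : j b hbu = j c hcu := (AlgSp.yon S).map_injective ((cancel_mono _).1 (by
    have eb := congrArg (AlgSp.yon S).map (hj b hbu)
    have ec := congrArg (AlgSp.yon S).map (hj c hcu)
    rw [Functor.map_comp, Functor.map_comp] at eb ec
    rw [reassoc_of% eb, reassoc_of% ec, hb, hc]))
  have hdu : d.left u₁ ∈ Set.range δ.left := by
    refine ⟨u₂, ?_⟩
    have e : resPt U₁ u₁ ≫ d = j b hbu ≫ resPt U₂ u₂ ≫ δ := by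
      apply (AlgSp.yon S).map_injective
      apply sq.hom_ext
      · rw [← Functor.map_comp, ← Functor.map_comp, Category.assoc, Category.assoc, Category.assoc, hds, hδs,
          Category.comp_id, hj]
      · rw [← Functor.map_comp, ← Functor.map_comp, Category.assoc, Category.assoc, Category.assoc, hdt, hδt,
          Category.comp_id, hjj, hj]
    have := congrArg (fun m => m.left (closedPoint (U₁.left.residueField u₁))) e
    simp only [Over.comp_left, Scheme.Hom.comp_apply] at this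
    rw [resPt_closedPoint, resPt_closedPoint] at this
    exact this.symm
  let E : U₁.left.Opens := d.left ⁻¹ᵁ δ.left.opensRange
  let h : Over.mk (E.ι ≫ U₁.hom) ⟶ U₁ := Over.homMk E.ι rfl
  let v : E.toScheme := ⟨u₁, hdu⟩
  have hn : Hens2.IsEtaleNbhd h.left v u₁ := by
    refine ⟨inferInstanceAs (Etale E.ι), rfl, ?_⟩
    change Function.Bijective (E.ι.residueFieldMap v)
    exact ConcreteCategory.bijective_of_isIso (E.ι.residueFieldMap v)
  refine ⟨_, (AlgSp.yon S).map h ≫ a₁, v, h, elem_comp h₁ h v hn, rfl, rfl, ?_⟩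
  have hr : Set.range (h ≫ d).left ⊆ Set.range δ.left := by
    rintro _ ⟨z, rfl⟩
    exact z.2
  let m := IsOpenImmersion.lift δ.left (h ≫ d).left hr
  have hm : m ≫ δ.left = (h ≫ d).left := IsOpenImmersion.lift_fac _ _ _
  apply Over.OverMorphism.ext
  have hδt' : δ.left ≫ t.left = 𝟙 _ := congrArg CommaMorphism.left hδt
  calc (h ≫ b).left = (h ≫ d).left ≫ s.left := by rw [← hds]; simp
    _ = m := by rw [← hm, Category.assoc, hsδ, Category.comp_id]
    _ = (h ≫ d).left ≫ t.left := by rw [← hm, Category.assoc, hδt', Category.comp_id]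
    _ = (h ≫ c).left := by rw [← hdt]; simp

omit hX in
theorem numBranchesAt_eq_of_nbhd {U' U : Scheme.{u}} (g : U' ⟶ U) (u' : U') (hg : Hens2.IsEtaleNbhd g u' (g u')) :
    Brnch.numBranchesAt U (g u') = Brnch.numBranchesAt U' u' := by
  let A' : Type u := U'.presheaf.stalk u'
  let H := Groth.Agent.Hens.Henselization (U'.presheaf.stalk u')
  obtain ⟨_, hH⟩ := isHenselization_of_isEtaleNbhd g u' hg H
  let : Algebra (U.presheaf.stalk (g u')) H := ((algebraMap A' H).comp (g.stalkMap u').hom).toAlgebra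
  exact (S9237.result (U.presheaf.stalk (g u')) H).symm.trans (S9237.result (U'.presheaf.stalk u') H)

/-- The number of branches is the same at all elementary neighbourhoods. -/
theorem numBranchesAt_eq {U₁ U₂ : Over S} {a₁ : (AlgSp.yon S).obj U₁ ⟶ X} {a₂ : (AlgSp.yon S).obj U₂ ⟶ X}
    {u₁ : ↥U₁.left} {u₂ : ↥U₂.left} (h₁ : AlgSp.IsElemEtaleNbhd a₁ u₁ x) (h₂ : AlgSp.IsElemEtaleNbhd a₂ u₂ x) :
    Brnch.numBranchesAt U₁.left u₁ = Brnch.numBranchesAt U₂.left u₂ := by
  obtain ⟨U, a, v, p, q, h, hp, hq, rfl, rfl⟩ := exists_dominating hX h₁ h₂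
  rw [numBranchesAt_eq_of_nbhd p.left v (isEtaleNbhd_of_elem p hp v h₁ h),
    numBranchesAt_eq_of_nbhd q.left v (isEtaleNbhd_of_elem q hq v h₂ h)]

end Groth.Agent.AlgSpCov.ElemNbhd
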