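import Groth.Agent.AlgSp.UnivInj
import Groth.Agent.AlgSpB.Points
import Groth.Agent.EtStruct.QFinPts
import Groth.Agent.Wt.Pure
import Groth.Agent.Wt.GeomPts
import Groth.Agent.Wt.Master

/-!
# Injective after etale base change implies universally injective

* `fieldInj_of_etale_injective`: for a morphism from an algebraic space to a scheme, locally of finite type on an
  atlas, injectivity on points after every etale base change gives injectivity on field valued points.
-/

set_option autoImplicit false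
set_option backward.isDefEq.respectTransparency false

universe u

open CategoryTheory CategoryTheory.Limits AlgebraicGeometry

namespace Groth.Agent.AlgSpCov.EtaleInjective

open Groth.Agent

section scheme

variable {R U V : Scheme.{u}} (h : U ⟶ V) [LocallyOfFiniteType h]

theorem residueFieldMap_finite_of_etale_pair {s t : R ⟶ U} [Etale s] (e : s ≫ h = t ≫ h) (r : R)
    (hr : (h.residueFieldMap (s r)).hom.Finite) : (h.residueFieldMap (t r)).hom.Finite := by
  have : LocallyQuasiFinite s := Wt.Master.locallyQuasiFinite_of_etale s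
  have h1 : ((s ≫ h).residueFieldMap r).hom.Finite := by
    rw [Scheme.residueFieldMap_comp, CommRingCat.hom_comp]
    exact (Wt.GeomPts.residueFieldMap_finite s r).comp hr
  have h2 : ((t ≫ h).residueFieldMap r).hom.Finite := e ▸ h1
  rw [Scheme.residueFieldMap_comp, CommRingCat.hom_comp] at h2
  algebraize [(h.residueFieldMap (t r)).hom, (t.residueFieldMap r).hom,
    (t.residueFieldMap r).hom.comp (h.residueFieldMap (t r)).hom]
  have : Module.Finite (V.residueField (h (t r))) (R.residueField r) := h2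
  have : IsNoetherian (V.residueField (h (t r))) (R.residueField r) := inferInstance
  exact FiniteDimensional.left (V.residueField (h (t r))) (U.residueField (t r)) (R.residueField r)

theorem quasiFiniteAt_of_forall_finite (u : U)
    (hu : ∀ u', h u' = h u → (h.residueFieldMap u').hom.Finite) : h.QuasiFiniteAt u := by
  have hcl : ∀ z : h.fiber (h u), IsClosed ({z} : Set (h.fiber (h u))) := fun z => by
    refine (EtStruct.isClosed_asFiber_iff h _ z rfl).1
      ((EtStruct.isClosed_asFiber_iff_finite h _).2 (hu _ ?_))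
    have := Set.mem_range_self (f := h.fiberι (h u)) z
    rwa [h.range_fiberι] at this
  refine (EtStruct.quasiFiniteAt_iff_isClosed_and_forall h u).2 ⟨hcl _, fun z hz => ?_⟩
  exact ((hcl z).closure_eq.le (specializes_iff_mem_closure.1 hz)).symm

theorem exists_finite_in_fibre (u : U) : ∃ u', h u' = h u ∧ (h.residueFieldMap u').hom.Finite := by
  have : LocallyOfFiniteType (h.fiberToSpecResidueField (h u)) := MorphismProperty.pullback_snd _ _ inferInstance
  have : JacobsonSpace (h.fiber (h u)) := LocallyOfFiniteType.jacobsonSpace (h.fiberToSpecResidueField (h u))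
  obtain ⟨z, -, hz⟩ := nonempty_inter_closedPoints (Z := (Set.univ : Set (h.fiber (h u))))
    ⟨h.asFiber u, trivial⟩ isOpen_univ.isLocallyClosed
  refine ⟨h.fiberι _ z, ?_, (EtStruct.isClosed_asFiber_iff_finite h _).1
    ((EtStruct.isClosed_asFiber_iff h _ z rfl).2 hz)⟩
  have := Set.mem_range_self (f := h.fiberι (h u)) z
  rwa [h.range_fiberι] at this

end scheme

variable {S : Scheme.{u}}

theorem exists_geomPt (W : Over S) (w : ↥W.left) :
    ∃ (K : Type u) (_ : Field K) (_ : IsAlgClosed K) (σ : Spec (CommRingCat.of K) ⟶ S) (c : Over.mk σ ⟶ W),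
      c.left (IsLocalRing.closedPoint K) = w := by
  obtain ⟨y, hy⟩ := Wt.GeomPts.exists_geomPt w
  exact ⟨_, inferInstance, inferInstance, y ≫ W.hom, Over.homMk y, hy⟩

variable {P : AlgSp.Sp S}

theorem exists_lift_atlas {U : Over S} {p : (AlgSp.yon S).obj U ⟶ P} (hp : AlgSp.RepWith @Surjective p)
    {K : Type u} [Field K] {σ : Spec (CommRingCat.of K) ⟶ S} (x : (AlgSp.yon S).obj (Over.mk σ) ⟶ P) :
    ∃ (L : Type u) (_ : Field L) (_ : IsAlgClosed L) (w : Spec (CommRingCat.of L) ⟶ S)
      (i : Over.mk w ⟶ Over.mk σ) (a : Over.mk w ⟶ U), (AlgSp.yon S).map i ≫ x = (AlgSp.yon S).map a ≫ p := by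
  obtain ⟨W, q, π, sq⟩ := AlgSpB.exists_pullback_yon hp.1 x
  have : Surjective π.left := hp.2 _ _ _ sq
  obtain ⟨z, -⟩ := π.left.surjective (IsLocalRing.closedPoint K)
  obtain ⟨L, hL, hL', w, c, -⟩ := exists_geomPt W z
  exact ⟨L, hL, hL', w, c ≫ π, c ≫ q, by simp only [Functor.map_comp, Category.assoc, sq.w]⟩

/-- Injective after etale base change implies injective on field valued points. -/
theorem fieldInj_of_etale_injective (hP : AlgSp.IsAlgSpace P) {V U : Over S}
    (f : P ⟶ (AlgSp.yon S).obj V) {p : (AlgSp.yon S).obj U ⟶ P} (hpe : AlgSp.RepWith @Etale p)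
    (hps : AlgSp.RepWith @Surjective p) (h : U ⟶ V) (hh : (AlgSp.yon S).map h = p ≫ f)
    (hft : LocallyOfFiniteType h.left)
    (hinj : ∀ (V' : Over S) (g : V' ⟶ V), Etale g.left → ∀ (P' : AlgSp.Sp S) (fst : P' ⟶ P)
      (snd : P' ⟶ (AlgSp.yon S).obj V'), IsPullback fst snd f ((AlgSp.yon S).map g) →
        Function.Injective (AlgSp.Points.map snd)) :
    AlgSp.FieldInj f := by
  -- the map on points is injective
  have hinj₀ : Function.Injective (AlgSp.Points.map f) :=
    hinj V (𝟙 V) (inferInstanceAs (Etale (𝟙 V.left))) P (𝟙 P) f (IsPullback.of_horiz_isIso ⟨by simp⟩)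
  -- all points of the fibres of `h` are closed
  have hfin : ∀ u : ↥U.left, (h.left.residueFieldMap u).hom.Finite := fun u => by
    obtain ⟨u', hu', hfu'⟩ := exists_finite_in_fibre h.left u
    have hpt : AlgSp.Points.ofPt p u' = AlgSp.Points.ofPt p u := hinj₀ (by
      rw [AlgSp.Points.map_ofPt, AlgSp.Points.map_ofPt, ← hh]
      rw [← Category.comp_id ((AlgSp.yon S).map h), AlgSpB.ofPt_map_comp, AlgSpB.ofPt_map_comp, hu'])
    obtain ⟨R, s, t, sq⟩ := AlgSpB.exists_pullback_yon hpe.1 p
    have : Etale s.left := hpe.2 _ _ _ sq.flip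
    obtain ⟨r, rfl, rfl⟩ := (AlgSpB.ofPt_eq_ofPt_iff sq u' u).1 hpt
    refine residueFieldMap_finite_of_etale_pair h.left ?_ r hfu'
    have e : s ≫ h = t ≫ h := (AlgSp.yon S).map_injective (by
      rw [Functor.map_comp, Functor.map_comp, hh, sq.w_assoc])
    exact congrArg CommaMorphism.left e
  intro K _ σ x y (e : x ≫ f = y ≫ f)
  -- lift to the atlas over an algebraically closed extension
  obtain ⟨L₁, _, _, w₁, i₁, a₁, h₁⟩ := exists_lift_atlas hps x
  obtain ⟨L, _, _, w, i₂, b, h₂⟩ := exists_lift_atlas hps ((AlgSp.yon S).map i₁ ≫ y)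
  have eab : (i₂ ≫ a₁) ≫ h = b ≫ h := (AlgSp.yon S).map_injective (by
    simp only [Functor.map_comp, Category.assoc, hh]
    rw [← reassoc_of% h₁, e, ← reassoc_of% h₂])
  suffices hx : (AlgSp.yon S).map (i₂ ≫ a₁) ≫ p = (AlgSp.yon S).map b ≫ p by
    refine AlgSp.eq_of_field_extension hP (i₂ ≫ i₁) x y ?_
    rw [Functor.map_comp, Category.assoc, Category.assoc, h₁, h₂, ← Category.assoc, ← Functor.map_comp]
    exact hx
  -- split the point of the first lift after an etale neighbourhood
  set a := i₂ ≫ a₁ with ha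
  let u : ↥U.left := a.left (IsLocalRing.closedPoint L)
  obtain ⟨V', g, v', hg, hgv, J, Wo, -, hJ, hJmem⟩ := Wt.Pure.exists_pureParts h.left (h.left u) {u}
    (Set.finite_singleton u) (fun z hz => by rw [Set.mem_singleton_iff.1 hz])
    (fun z _ => quasiFiniteAt_of_forall_finite h.left z fun z' _ => hfin z')
  let V₁ : Over S := Over.mk (g ≫ V.hom)
  let gV : V₁ ⟶ V := Over.homMk g rfl
  -- a common extension over the etale neighbourhood
  obtain ⟨z, -, hzv⟩ := Scheme.Pullback.exists_preimage_pullback (f := a.left ≫ h.left) (g := g)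
    (IsLocalRing.closedPoint L) v' hgv.symm
  obtain ⟨M, _, _, τ, m, hm⟩ := exists_geomPt (Over.mk (pullback.snd (a.left ≫ h.left) g ≫ V₁.hom)) z
  let j : Over.mk τ ⟶ Over.mk w := Over.homMk (m.left ≫ pullback.fst (a.left ≫ h.left) g) (by
    have e1 : pullback.fst (a.left ≫ h.left) g ≫ a.left ≫ h.left = pullback.snd (a.left ≫ h.left) g ≫ g :=
      pullback.condition
    rw [← Over.w a, ← Over.w h, Category.assoc, reassoc_of% e1]
    exact Over.w m)
  let c : Over.mk τ ⟶ V₁ := Over.homMk (m.left ≫ pullback.snd (a.left ≫ h.left) g)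
    ((Category.assoc _ _ _).trans (Over.w m))
  have hcv : c.left (IsLocalRing.closedPoint M) = v' := by
    rw [← hzv, ← hm]
    rfl
  have eca : (j ≫ a) ≫ h = c ≫ gV := Over.OverMorphism.ext (by
    change ((m.left ≫ _) ≫ a.left) ≫ h.left = (m.left ≫ _) ≫ g
    rw [Category.assoc, Category.assoc, Category.assoc, pullback.condition])
  have ecb : (j ≫ b) ≫ h = c ≫ gV := by rw [Category.assoc, ← eab, ← Category.assoc, eca]
  -- the base change
  let W : Over S := Over.mk (pullback.fst h.left g ≫ U.hom)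
  let q : W ⟶ V₁ := Over.homMk (pullback.snd h.left g) (by
    change pullback.snd h.left g ≫ g ≫ V.hom = pullback.fst h.left g ≫ U.hom
    rw [← pullback.condition_assoc, Over.w h])
  let π : W ⟶ U := Over.homMk (pullback.fst h.left g) rfl
  have eW : π ≫ h = q ≫ gV := Over.OverMorphism.ext pullback.condition
  let a' : Over.mk τ ⟶ W := Over.homMk
    (pullback.lift (j ≫ a).left c.left (congrArg CommaMorphism.left eca)) (by
      exact (pullback.lift_fst_assoc _ _ _ _).trans (Over.w (j ≫ a)))
  let b' : Over.mk τ ⟶ W := Over.homMk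
    (pullback.lift (j ≫ b).left c.left (congrArg CommaMorphism.left ecb)) (by
      exact (pullback.lift_fst_assoc _ _ _ _).trans (Over.w (j ≫ b)))
  have a'π : a' ≫ π = j ≫ a := Over.OverMorphism.ext (pullback.lift_fst _ _ _)
  have a'q : a' ≫ q = c := Over.OverMorphism.ext (pullback.lift_snd _ _ _)
  have b'π : b' ≫ π = j ≫ b := Over.OverMorphism.ext (pullback.lift_fst _ _ _)
  have b'q : b' ≫ q = c := Over.OverMorphism.ext (pullback.lift_snd _ _ _)
  -- the point of the first lift is geometrically single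
  set u' := a'.left (IsLocalRing.closedPoint M) with hu'
  have hu'J : u' ∈ J := by
    refine hJmem u' ?_ ?_
    · change (a' ≫ q).left (IsLocalRing.closedPoint M) = v'
      rw [a'q, hcv]
    · change (a' ≫ π).left (IsLocalRing.closedPoint M) ∈ ({u} : Set ↥U.left)
      rw [a'π]
      exact congrArg a.left (Subsingleton.elim (α := PrimeSpectrum L) _ _)
  have hsingle := (hJ u' hu'J).2.1
  -- injectivity over the neighbourhood
  have sq := IsPullback.of_hasPullback f ((AlgSp.yon S).map gV)
  let p' : (AlgSp.yon S).obj W ⟶ pullback f ((AlgSp.yon S).map gV) :=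
    pullback.lift ((AlgSp.yon S).map π ≫ p) ((AlgSp.yon S).map q) (by
      rw [Category.assoc, ← hh, ← Functor.map_comp, ← Functor.map_comp, eW])
  have hp'q : p' ≫ pullback.snd f ((AlgSp.yon S).map gV) = (AlgSp.yon S).map q := pullback.lift_snd _ _ _
  have hp'π : p' ≫ pullback.fst f ((AlgSp.yon S).map gV) = (AlgSp.yon S).map π ≫ p := pullback.lift_fst _ _ _
  have hpt : AlgSp.Points.ofPt ((AlgSp.yon S).map a' ≫ p') (IsLocalRing.closedPoint M) =
      AlgSp.Points.ofPt ((AlgSp.yon S).map b' ≫ p') (IsLocalRing.closedPoint M) := by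
    refine hinj V₁ gV hg _ _ _ sq ?_
    rw [AlgSp.Points.map_ofPt, AlgSp.Points.map_ofPt, Category.assoc, Category.assoc, hp'q,
      ← Functor.map_comp, ← Functor.map_comp, a'q, b'q]
  obtain ⟨N, _, ν, k, l, hkl⟩ := AlgSp.exists_field_of_eq _ _ hpt
  obtain ⟨N', _, _, ν', n, -⟩ := exists_geomPt (Over.mk ν) (IsLocalRing.closedPoint N)
  have hc : k ≫ c = l ≫ c := by
    apply (AlgSp.yon S).map_injective
    have := congrArg (· ≫ pullback.snd f ((AlgSp.yon S).map gV)) hkl
    simp only [Category.assoc, hp'q, ← Functor.map_comp, a'q, b'q] at this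
    exact this
  have e₁ : n ≫ k ≫ a' = n ≫ l ≫ a' := by
    apply Over.OverMorphism.ext
    refine hsingle N' _ _ ?_ ?_ ?_
    · exact congrArg a'.left (Subsingleton.elim (α := PrimeSpectrum M) _ _)
    · exact congrArg a'.left (Subsingleton.elim (α := PrimeSpectrum M) _ _)
    · change (n ≫ k ≫ a' ≫ q).left = (n ≫ l ≫ a' ≫ q).left
      rw [a'q, hc]
  refine AlgSp.eq_of_field_extension hP (n ≫ l ≫ j) _ _ ?_
  have e₂ := congrArg ((AlgSp.yon S).map n ≫ ·) (congrArg (· ≫ pullback.fst f ((AlgSp.yon S).map gV)) hkl)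
  simp only [Category.assoc, hp'π] at e₂
  simp only [← Category.assoc, ← Functor.map_comp] at e₂ ⊢
  simp only [Category.assoc] at e₂ ⊢
  rw [← a'π, ← b'π]
  rw [← e₂, ← Category.assoc l a' π, ← Category.assoc n, ← e₁]
  simp only [Category.assoc]

end Groth.Agent.AlgSpCov.EtaleInjective
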