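import Groth.Agent.AlgSpCov.SmoothSlice
import Groth.Agent.GrpScheme.SepPoint
import Mathlib.RingTheory.Etale.StandardEtale
import Mathlib.FieldTheory.PrimitiveElement
import Mathlib.FieldTheory.IsSepClosed
import Mathlib.AlgebraicGeometry.Morphisms.Etale

/-!
# Smooth morphisms have sections etale locally on the target
-/

universe u

open CategoryTheory AlgebraicGeometry
open scoped TensorProduct

namespace Groth.Agent.AlgSpCov

/-- The elements of `L` which are fractions of the image of `θ`. -/
def fracImage {C L : Type u} [CommRing C] [Field L] (θ : C →+* L) : Subring L where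
  carrier := {x | ∃ e c, θ e ≠ 0 ∧ x * θ e = θ c}
  one_mem' := ⟨1, 1, by simp, by simp⟩
  zero_mem' := ⟨1, 0, by simp, by simp⟩
  mul_mem' := by
    rintro x y ⟨e, c, he, h⟩ ⟨e', c', he', h'⟩
    exact ⟨e * e', c * c', by rw [map_mul]; exact mul_ne_zero he he', by
      rw [map_mul, map_mul, ← h, ← h']; ring⟩
  add_mem' := by
    rintro x y ⟨e, c, he, h⟩ ⟨e', c', he', h'⟩
    exact ⟨e * e', c * e' + c' * e, by rw [map_mul]; exact mul_ne_zero he he', by
      rw [map_mul, map_add, map_mul, map_mul, ← h, ← h']; ring⟩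
  neg_mem' := by
    rintro x ⟨e, c, he, h⟩
    exact ⟨e, -c, he, by rw [map_neg, ← h, neg_mul]⟩

/-- An etale algebra with a point in the separable closure of the residue field realising finitely many elements. -/
theorem exists_etale_fractions {K : Type u} [CommRing K] (p : Ideal K) [p.IsPrime] {L : Type u} [Field L]
    [Algebra p.ResidueField L] [Algebra K L] [IsScalarTower K p.ResidueField L]
    [Algebra.IsSeparable p.ResidueField L] (T : Finset L) :
    ∃ (C : Type u) (_ : CommRing C) (ψ : K →+* C) (θ : C →+* L),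
      ψ.Etale ∧ θ.comp ψ = algebraMap K L ∧ ∀ x ∈ T, x ∈ fracImage θ := by
  let k := p.ResidueField
  have hint : ∀ x ∈ (T : Set L), IsIntegral k x := fun x _ => Algebra.IsIntegral.isIntegral x
  let E := IntermediateField.adjoin k (T : Set L)
  have : FiniteDimensional k E := IntermediateField.finiteDimensional_adjoin hint
  obtain ⟨α, hα⟩ := Field.exists_primitive_element k E
  let g := minpoly k (α : L)
  have hg : g.Monic := minpoly.monic (Algebra.IsIntegral.isIntegral _)
  obtain ⟨⟨b, hb⟩, hbs⟩ := IsLocalization.exist_integer_multiples (nonZeroDivisors (K ⧸ p))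
    g.support g.coeff
  let d : k := algebraMap (K ⧸ p) k b
  have hd : d ≠ 0 := IsFractionRing.to_map_ne_zero_of_mem_nonZeroDivisors hb
  have hrange : ∀ i, (g.scaleRoots d).coeff i ∈ Set.range (algebraMap K k) := by
    intro i
    rw [Polynomial.coeff_scaleRoots]
    by_cases hi : i ∈ g.support
    · rcases (Polynomial.le_natDegree_of_mem_supp i hi).eq_or_lt with rfl | hlt
      · exact ⟨1, by simp [hg.coeff_natDegree]⟩
      · obtain ⟨c, hc⟩ := hbs i hi
        obtain ⟨c, rfl⟩ := Ideal.Quotient.mk_surjective c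
        obtain ⟨b', rfl⟩ := Ideal.Quotient.mk_surjective b
        refine ⟨c * b' ^ (g.natDegree - i - 1), ?_⟩
        have hc' : algebraMap (K ⧸ p) k (Ideal.Quotient.mk p c) = d * g.coeff i :=
          hc.trans (Algebra.smul_def _ _)
        rw [map_mul, map_pow]
        change algebraMap (K ⧸ p) k (Ideal.Quotient.mk p c) * d ^ _ = _
        rw [hc', mul_comm d, mul_assoc, ← pow_succ']
        congr 2
        omega
    · exact ⟨0, by rw [map_zero, Polynomial.notMem_support_iff.1 hi, zero_mul]⟩
  obtain ⟨f, hf, -, hfm⟩ := Polynomial.lifts_and_natDegree_eq_and_monic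
    ((Polynomial.lifts_iff_coeff_lifts _).2 hrange) ((Polynomial.monic_scaleRoots_iff d).2 hg)
  let β : L := algebraMap k L d * (α : L)
  have hroot : Polynomial.aeval β f = 0 := by
    rw [← Polynomial.aeval_map_algebraMap k, hf]
    exact Polynomial.scaleRoots_aeval_eq_zero (minpoly.aeval _ _)
  have hscale : g.scaleRoots d = Polynomial.C (d ^ g.natDegree) * g.comp (Polynomial.C d⁻¹ * Polynomial.X) := by
    ext i
    rw [Polynomial.coeff_scaleRoots, Polynomial.coeff_C_mul, Polynomial.comp_C_mul_X_coeff]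
    by_cases hi : i ≤ g.natDegree
    · rw [pow_sub₀ d hd hi, inv_pow]
      ring
    · simp [Polynomial.coeff_eq_zero_of_natDegree_lt (not_le.1 hi)]
  have hder : Polynomial.aeval β (Polynomial.derivative f) ≠ 0 := by
    rw [← Polynomial.aeval_map_algebraMap k, ← Polynomial.derivative_map, hf, hscale,
      Polynomial.derivative_C_mul, Polynomial.derivative_comp, Polynomial.derivative_C_mul,
      Polynomial.derivative_X, mul_one, map_mul, map_mul, Polynomial.aeval_C, Polynomial.aeval_C,
      Polynomial.aeval_comp, map_mul, Polynomial.aeval_C, Polynomial.aeval_X]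
    have hβ : algebraMap k L d⁻¹ * β = (α : L) := by
      simp only [β, ← mul_assoc, ← map_mul, inv_mul_cancel₀ hd, map_one, one_mul]
    rw [hβ]
    refine mul_ne_zero (by simpa using fun h => absurd h hd) (mul_ne_zero (by simpa using hd) ?_)
    exact (Algebra.IsSeparable.isSeparable k (α : L)).aeval_derivative_ne_zero (minpoly.aeval _ _)
  let P : StandardEtalePair K := ⟨f, hfm, Polynomial.derivative f, 1, 0, 1, by simp⟩
  let θ : P.Ring →ₐ[K] L := P.lift β ⟨hroot, isUnit_iff_ne_zero.2 hder⟩
  refine ⟨P.Ring, inferInstance, algebraMap K P.Ring, θ.toRingHom, RingHom.etale_algebraMap.2 inferInstance,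
    θ.comp_algebraMap, fun x hx => ?_⟩
  have hk : ∀ r : k, algebraMap k L r ∈ fracImage θ.toRingHom := by
    intro r
    obtain ⟨a, b, hb, rfl⟩ := IsFractionRing.div_surjective (A := K ⧸ p) r
    obtain ⟨a, rfl⟩ := Ideal.Quotient.mk_surjective a
    obtain ⟨b, rfl⟩ := Ideal.Quotient.mk_surjective b
    have hb' : algebraMap K k b ≠ 0 :=
      IsFractionRing.to_map_ne_zero_of_mem_nonZeroDivisors (R := K ⧸ p) hb
    refine ⟨algebraMap K P.Ring b, algebraMap K P.Ring a, ?_, ?_⟩
    · change θ (algebraMap K P.Ring b) ≠ 0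
      rw [AlgHom.commutes, IsScalarTower.algebraMap_apply K k L]
      simpa using hb'
    · change _ * θ (algebraMap K P.Ring b) = θ (algebraMap K P.Ring a)
      rw [AlgHom.commutes, AlgHom.commutes, IsScalarTower.algebraMap_apply K k L,
        IsScalarTower.algebraMap_apply K k L, ← map_mul]
      congr 1
      exact div_mul_cancel₀ _ hb'
  have hαmem : (α : L) ∈ fracImage θ.toRingHom := by
    have h1 : β ∈ fracImage θ.toRingHom := by
      refine ⟨1, P.X, by simp, ?_⟩
      change β * θ 1 = θ P.X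
      rw [map_one, mul_one]
      exact (StandardEtalePair.lift_X _ _ _).symm
    have h2 : (α : L) = algebraMap k L d⁻¹ * β := by
      simp only [β, ← mul_assoc, ← map_mul, inv_mul_cancel₀ hd, map_one, one_mul]
    rw [h2]
    exact mul_mem (hk _) h1
  have key : ∀ y : E, (y : L) ∈ fracImage θ.toRingHom := by
    intro y
    have hy : y ∈ (IntermediateField.adjoin k ({α} : Set E)).toSubalgebra := by
      rw [hα]; trivial
    rw [IntermediateField.adjoin_simple_toSubalgebra_of_isAlgebraic
      (Algebra.IsAlgebraic.isAlgebraic α)] at hy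
    induction hy using Algebra.adjoin_induction with
    | mem z hz => rw [Set.mem_singleton_iff.1 hz]; exact hαmem
    | algebraMap r => exact hk r
    | add a c _ _ ha hc => exact add_mem ha hc
    | mul a c _ _ ha hc => exact mul_mem ha hc
  exact key ⟨x, IntermediateField.subset_adjoin k _ hx⟩

set_option synthInstance.maxHeartbeats 200000 in
set_option maxHeartbeats 1000000 in
/-- A standard smooth algebra has, near every prime of the base in its image, a point in an etale algebra. -/
theorem exists_etale_point_of_standardSmooth {K R : Type u} [CommRing K] [CommRing R] (η : K →+* R)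
    (hη : η.IsStandardSmooth) (q : PrimeSpectrum R) :
    ∃ (D : Type u) (_ : CommRing D) (ψ : K →+* D) (ρ : R →+* D), ψ.Etale ∧ ρ.comp η = ψ ∧
      PrimeSpectrum.comap η q ∈ Set.range (PrimeSpectrum.comap ψ) := by
  classical
  algebraize [η]
  let p : Ideal K := q.asIdeal.comap η
  let k := p.ResidueField
  let L := SeparableClosure k
  let φk : k →+* q.asIdeal.ResidueField := Ideal.ResidueField.map p q.asIdeal η rfl
  let Ω := AlgebraicClosure q.asIdeal.ResidueField
  let _ : Algebra k Ω := ((algebraMap q.asIdeal.ResidueField Ω).comp φk).toAlgebra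
  let ι : L →ₐ[k] Ω := IsAlgClosed.lift
  have hΩ : ∀ x, algebraMap K Ω x = algebraMap k Ω (algebraMap K k x) := by
    intro x
    rw [IsScalarTower.algebraMap_apply K R Ω, IsScalarTower.algebraMap_apply R q.asIdeal.ResidueField Ω]
    exact congrArg _ (Ideal.ResidueField.map_algebraMap _ _ _ _ x).symm
  let ιK : L →ₐ[K] Ω := { ι.toRingHom with
    commutes' := fun x => by
      change ι (algebraMap K L x) = _
      rw [IsScalarTower.algebraMap_apply K k L, ι.commutes, hΩ] }
  have : Nontrivial (L ⊗[K] R) :=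
    RingHom.domain_nontrivial (Algebra.TensorProduct.lift ιK (IsScalarTower.toAlgHom K R Ω)
      fun _ _ => .all _ _).toRingHom
  have : Algebra.IsStandardSmooth K R := hη
  obtain ⟨φ₀⟩ := Groth.Agent.GrpScheme.SepPoint.exists_algHom L (L ⊗[K] R)
    (RingHom.isStandardSmooth_algebraMap.2 inferInstance)
  let φ : R →ₐ[K] L := (φ₀.restrictScalars K).comp Algebra.TensorProduct.includeRight
  obtain ⟨t, ht⟩ := (Algebra.FiniteType.out : (⊤ : Subalgebra K R).FG)
  obtain ⟨C, _, ψ, θ, hψ, hθψ, hT⟩ := exists_etale_fractions p (t.image φ)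
  choose! e c he hc using hT
  let E := ∏ x ∈ t.image φ, e x
  have hE : θ E ≠ 0 := by
    rw [map_prod]
    exact Finset.prod_ne_zero_iff.2 fun x hx => he x hx
  let C₁ := Localization.Away E
  let θ₁ : C₁ →+* L := IsLocalization.Away.lift (S := C₁) E (g := θ) (isUnit_iff_ne_zero.2 hE)
  have hθ₁ : ∀ x, θ₁ (algebraMap C C₁ x) = θ x := fun x => IsLocalization.Away.lift_eq E _ x
  let ψ₁ : K →+* C₁ := (algebraMap C C₁).comp ψ
  have hrange : ∀ r, φ r ∈ θ₁.range := by
    intro r
    have hr : r ∈ Algebra.adjoin K (t : Set R) := ht ▸ Algebra.mem_top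
    induction hr using Algebra.adjoin_induction with
    | mem x hx =>
      have hx' : φ x ∈ t.image φ := Finset.mem_image_of_mem φ hx
      obtain ⟨E', hE'⟩ := Finset.dvd_prod_of_mem e hx'
      obtain ⟨v, hv⟩ := IsLocalization.Away.algebraMap_isUnit (S := C₁) E
      refine ⟨algebraMap C C₁ (c (φ x) * E') * ↑v⁻¹, ?_⟩
      have h1 : θ₁ ↑v * θ₁ ↑v⁻¹ = 1 := by rw [← map_mul, Units.mul_inv, map_one]
      rw [map_mul, hθ₁, map_mul, ← hc _ hx', mul_assoc (φ x), ← map_mul, ← hE', ← hθ₁ E, ← hv, mul_assoc, h1,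
        mul_one]
    | algebraMap x =>
      refine ⟨ψ₁ x, ?_⟩
      rw [AlgHom.commutes, ← hθψ]
      exact hθ₁ _
    | add a b _ _ ha hb => rw [map_add]; exact add_mem ha hb
    | mul a b _ _ ha hb => rw [map_mul]; exact mul_mem ha hb
  let J : Ideal C₁ := RingHom.ker θ₁
  let qe := RingHom.quotientKerEquivRange θ₁
  let φJ : R →+* C₁ ⧸ J := qe.symm.toRingHom.comp (φ.toRingHom.codRestrict θ₁.range hrange)
  have hφJ : φJ.comp η = (Ideal.Quotient.mk J).comp ψ₁ := by
    ext x
    apply qe.injective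
    change qe (qe.symm _) = qe _
    rw [RingEquiv.apply_symm_apply]
    apply Subtype.ext
    change φ (algebraMap K R x) = θ₁ (ψ₁ x)
    rw [AlgHom.commutes, ← hθψ]
    exact (hθ₁ _).symm
  have hη' : η.IsStandardSmooth := by simpa [RingHom.algebraMap_toAlgebra] using hη
  obtain ⟨D, _, ψD, ρ, hψD, hρ, hbij, -⟩ :=
    exists_etale_lift_of_standardSmooth η hη' ψ₁ J φJ hφJ
  refine ⟨D, inferInstance, ψD.comp ψ₁, ρ, ?_, hρ, ?_⟩
  · exact RingHom.Etale.stableUnderComposition ψ₁ ψD (RingHom.Etale.stableUnderComposition ψ (algebraMap C C₁) hψ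
      (RingHom.etale_algebraMap.2 (Algebra.Etale.of_isLocalizationAway E))) hψD
  · let qm := RingEquiv.ofBijective _ hbij
    let τ : D →+* L := (θ₁.range.subtype.comp qe.toRingHom).comp
      (qm.symm.toRingHom.comp (Ideal.Quotient.mk (J.map ψD)))
    have hτ : ∀ x, τ (ψD x) = θ₁ x := by
      intro x
      change ((qe (qm.symm (qm (Ideal.Quotient.mk J x)))) : L) = _
      rw [RingEquiv.symm_apply_apply]
      rfl
    refine ⟨⟨RingHom.ker τ, RingHom.ker_isPrime τ⟩, ?_⟩
    ext x
    change τ (ψD (ψ₁ x)) = 0 ↔ η x ∈ q.asIdeal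
    rw [hτ, show θ₁ (ψ₁ x) = algebraMap K L x from (hθ₁ _).trans congr($hθψ x),
      IsScalarTower.algebraMap_apply K k L, map_eq_zero, Ideal.algebraMap_residueField_eq_zero]
    rfl

/-- A smooth morphism of schemes has, near every point of its image, sections etale locally on the target. -/
theorem exists_etale_section {X S : Scheme.{u}} (f : X ⟶ S) [Smooth f] (x : X) :
    ∃ (S' : Scheme.{u}) (g : S' ⟶ S) (s' : S'), Etale g ∧ g s' = f x ∧ ∃ h : S' ⟶ X, h ≫ f = g := by
  obtain ⟨W, hW, U, hU, hxU, hle, hstd⟩ := Smooth.exists_isStandardSmooth f x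
  obtain ⟨D, _, ψ, ρ, hψ, hρ, ⟨d, hd⟩⟩ :=
    exists_etale_point_of_standardSmooth (f.appLE W U hle).hom hstd (hU.primeIdealOf ⟨x, hxU⟩)
  have : Etale (Spec.map (CommRingCat.ofHom ψ)) := (HasRingHomProperty.Spec_iff (P := @Etale)).2 hψ
  let d' : ↥(Spec (CommRingCat.of D)) := d
  refine ⟨Spec (CommRingCat.of D), Spec.map (CommRingCat.ofHom ψ) ≫ hW.fromSpec, d', inferInstance, ?_,
    Spec.map (CommRingCat.ofHom ρ) ≫ hU.fromSpec, ?_⟩
  · rw [Scheme.Hom.comp_apply]
    have h1 : Spec.map (CommRingCat.ofHom ψ) d' = Spec.map (f.appLE W U hle) (hU.primeIdealOf ⟨x, hxU⟩) := hd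
    rw [h1]
    exact (congr(($(IsAffineOpen.SpecMap_appLE_fromSpec f hW hU hle)) (hU.primeIdealOf ⟨x, hxU⟩))).trans
      (congrArg f (hU.fromSpec_primeIdealOf ⟨x, hxU⟩))
  · rw [Category.assoc, ← IsAffineOpen.SpecMap_appLE_fromSpec f hW hU hle, ← Spec.map_comp_assoc]
    congr 2
    exact CommRingCat.hom_ext hρ

end Groth.Agent.AlgSpCov
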