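import Groth.Agent.AlgSpCov.LocPBasic
import Groth.Agent.AlgSpCov.Instances
import Groth.Agent.AlgSp.InfCharts
import Groth.Agent.AlgSp.NoethFib
import Groth.Agent.AlgSp.PointsMor
import Groth.Agent.Thick.FlatCancel
import Groth.Agent.S0392
import Mathlib.AlgebraicGeometry.Morphisms.Flat

/-!
# The fibrewise criterion of flatness for algebraic spaces
-/

universe u

open CategoryTheory CategoryTheory.Limits AlgebraicGeometry Opposite TensorProduct

set_option backward.isDefEq.respectTransparency.types false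

namespace Groth.Agent.AlgSpCov.FibreFlat

open _root_.AlgSp Groth.Agent.AlgSp

variable {S : Scheme.{u}}

/-- A field valued base change of an etale chart is an etale chart. -/
theorem repWith_etale_fibre_chart {X Z : Sp S} {φ : X ⟶ Z} {U W K : Over S} {a : (yon S).obj U ⟶ X}
    {c : (yon S).obj W ⟶ Z} {g : U ⟶ W} (ha : RepWith @Etale a) (hc : RepWith @Etale c)
    (w : a ≫ φ = (yon S).map g ≫ c) (zK : K ⟶ W) {UK : Over S} {uK : UK ⟶ U} {vK : UK ⟶ K}
    (sqU : IsPullback uK vK g zK) {Xz : Sp S} {pX : Xz ⟶ X} {qX : Xz ⟶ (yon S).obj K}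
    (sqX : IsPullback pX qX φ ((yon S).map zK ≫ c)) :
    ∃ a' : (yon S).obj UK ⟶ Xz, RepWith @Etale a' ∧ a' ≫ pX = (yon S).map uK ≫ a ∧
      a' ≫ qX = (yon S).map vK := by
  have hW := IsPullback.of_hasPullback φ c
  obtain ⟨m, hm, hm₁, hm₂⟩ := etale_toPullback ha hc w hW
  let e : Xz ⟶ pullback φ c := hW.lift pX (qX ≫ (yon S).map zK) (by rw [Category.assoc]; exact sqX.w)
  have hsq : IsPullback e qX (pullback.snd φ c) ((yon S).map zK) :=
    IsPullback.of_right (by rw [show e ≫ pullback.fst φ c = pX from hW.lift_fst ..]; exact sqX)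
      (hW.lift_snd ..) hW
  let a' := hsq.lift ((yon S).map uK ≫ m) ((yon S).map vK) (by
    rw [Category.assoc, hm₂, ← Functor.map_comp, ← Functor.map_comp, sqU.w])
  have ha' : IsPullback ((yon S).map uK) a' m e := by
    refine IsPullback.of_bot ?_ (hsq.lift_fst ..).symm hsq
    rw [show a' ≫ qX = (yon S).map vK from hsq.lift_snd .., hm₂]
    exact sqU.map (yon S)
  refine ⟨a', repWith_bc ha' hm, ?_, hsq.lift_snd ..⟩
  rw [← hW.lift_fst pX (qX ≫ (yon S).map zK) (by rw [Category.assoc]; exact sqX.w), ← Category.assoc]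
  change (a' ≫ e) ≫ pullback.fst φ c = _
  rw [show a' ≫ e = (yon S).map uK ≫ m from hsq.lift_fst .., Category.assoc]
  exact congrArg _ hm₁

/-- Flatness of a morphism of algebraic spaces on the fibres gives flatness of the fibres of charts. -/
theorem flat_fibre_chart {X Y Z : Sp S} {f : X ⟶ Y} {h : Y ⟶ Z}
    (hfib : ∀ (K : Type u) [Field K] (sK : Spec (CommRingCat.of K) ⟶ S)
      (z : (yon S).obj (Over.mk sK) ⟶ Z) (Xz Yz : Sp S)
      (pX : Xz ⟶ X) (qX : Xz ⟶ (yon S).obj (Over.mk sK))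
      (pY : Yz ⟶ Y) (qY : Yz ⟶ (yon S).obj (Over.mk sK)) (fz : Xz ⟶ Yz),
      IsPullback pX qX (f ≫ h) z → IsPullback pY qY h z → fz ≫ pY = pX ≫ f → fz ≫ qY = qX →
      LocP @Flat fz)
    {U V W : Over S} {a : (yon S).obj U ⟶ X} {b : (yon S).obj V ⟶ Y} {c : (yon S).obj W ⟶ Z}
    {g₁ : U ⟶ V} {g₂ : V ⟶ W} (ha : RepWith @Etale a) (hb : RepWith @Etale b) (hc : RepWith @Etale c)
    (w₁ : a ≫ f = (yon S).map g₁ ≫ b) (w₂ : b ≫ h = (yon S).map g₂ ≫ c)
    {K : Type u} [Field K] (k : Spec (CommRingCat.of K) ⟶ W.left) {UK VK : Scheme.{u}}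
    {uK : UK ⟶ U.left} {uv : UK ⟶ VK} {vW : VK ⟶ V.left} {vK : VK ⟶ Spec (CommRingCat.of K)}
    (sq₁ : IsPullback uK uv g₁.left vW) (sq₂ : IsPullback vW vK g₂.left k) : Flat uv := by
  let sK : Spec (CommRingCat.of K) ⟶ S := k ≫ W.hom
  let zK : Over.mk sK ⟶ W := Over.homMk k rfl
  let UO : Over S := Over.mk (uK ≫ U.hom)
  let VO : Over S := Over.mk (vW ≫ V.hom)
  let uO : UO ⟶ U := Over.homMk uK rfl
  let vO : VO ⟶ V := Over.homMk vW rfl
  let uvO : UO ⟶ VO := Over.homMk uv (by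
    change uv ≫ vW ≫ V.hom = uK ≫ U.hom
    rw [← reassoc_of% sq₁.w, Over.w g₁])
  let vKO : VO ⟶ Over.mk sK := Over.homMk vK (by
    change vK ≫ k ≫ W.hom = vW ≫ V.hom
    rw [← reassoc_of% sq₂.w, Over.w g₂])
  have sqV : IsPullback vO vKO g₂ zK :=
    IsPullback.of_map (Over.forget S) (Over.OverMorphism.ext sq₂.w) sq₂
  have sqU : IsPullback uO (uvO ≫ vKO) (g₁ ≫ g₂) zK :=
    IsPullback.of_map (Over.forget S) (Over.OverMorphism.ext (sq₁.paste_vert sq₂).w) (sq₁.paste_vert sq₂)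
  let z := (yon S).map zK ≫ c
  have sqX := IsPullback.of_hasPullback (f ≫ h) z
  have sqY := IsPullback.of_hasPullback h z
  let fz : pullback (f ≫ h) z ⟶ pullback h z :=
    sqY.lift (pullback.fst (f ≫ h) z ≫ f) (pullback.snd (f ≫ h) z) (by rw [Category.assoc]; exact sqX.w)
  have hfz := hfib K sK z _ _ _ _ _ _ fz sqX sqY (sqY.lift_fst ..) (sqY.lift_snd ..)
  obtain ⟨a', ha', ha'₁, ha'₂⟩ := repWith_etale_fibre_chart ha hc
    (show a ≫ f ≫ h = (yon S).map (g₁ ≫ g₂) ≫ c by
      rw [← Category.assoc, w₁, Category.assoc, w₂, Functor.map_comp, Category.assoc]) zK sqU sqX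
  obtain ⟨b', hb', hb'₁, hb'₂⟩ := repWith_etale_fibre_chart hb hc w₂ zK sqV sqY
  refine hfz a' b' uvO ha' hb' (sqY.hom_ext ?_ ?_)
  · rw [Category.assoc, sqY.lift_fst, ← Category.assoc, ha'₁, Category.assoc, w₁, Category.assoc, hb'₁,
      ← Functor.map_comp_assoc, ← Functor.map_comp_assoc]
    congr 2
    exact Over.OverMorphism.ext sq₁.w
  · rw [Category.assoc, sqY.lift_snd, ha'₂, Category.assoc, hb'₂, Functor.map_comp]

/-- Localisation of a flat fibre map. -/
theorem flat_bar {R T Sb : Type u} [CommRing R] [CommRing T] [CommRing Sb] {R' : Type u} [CommRing R']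
    [Algebra R R'] [Algebra R T] [Algebra R Sb] [Algebra T Sb] [IsScalarTower R T Sb]
    [Module.Flat T (T ⊗[R] R')] (M : Submonoid R) {Rr : Type u} [CommRing Rr] [Algebra R Rr]
    [IsLocalization M Rr] [Algebra Rr Sb] [IsScalarTower R Rr Sb] {Q : Type u} [CommRing Q] [Algebra R' Q]
    [Module.Flat R' Q] [Algebra R Q] [IsScalarTower R R' Q] [Algebra Rr Q] [IsScalarTower R Rr Q] :
    Module.Flat Sb (Sb ⊗[Rr] Q) := by
  have h1 : Module.Flat Sb (Sb ⊗[R] R') :=
    Module.Flat.of_linearEquiv (AlgebraTensorModule.cancelBaseChange R T Sb Sb R').symm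
  have h2 : (algebraMap Sb (Sb ⊗[R] R')).Flat := RingHom.flat_algebraMap_iff.2 h1
  let j : R' →ₐ[R] Q := IsScalarTower.toAlgHom R R' Q
  have hj : j.toRingHom.Flat := RingHom.flat_algebraMap_iff.2 ‹Module.Flat R' Q›
  let i : Sb →ₐ[Sb] Sb := AlgHom.id Sb Sb
  have h3 : (Algebra.TensorProduct.map i j).toRingHom.Flat :=
    RingHom.Flat.tensorProductMap (RingHom.Flat.id Sb) hj
  have h4 : (algebraMap Sb (Sb ⊗[R] Q)).Flat := by
    have := h2.comp h3
    convert this using 1
    exact (Algebra.TensorProduct.map i j).comp_algebraMap.symm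
  have : Module.Flat Sb (Sb ⊗[R] Q) := RingHom.flat_algebraMap_iff.1 h4
  have := IsLocalization.tensorProduct_compatibleSMul M Rr Sb Q
  exact Module.Flat.of_linearEquiv
    (Algebra.TensorProduct.equivOfCompatibleSMul R Rr Sb Sb Q).toLinearEquiv

set_option maxHeartbeats 1000000 in
/-- Affine form of the Noetherian fibrewise criterion. -/
theorem flat_affine {A B C : Type u} [CommRing A] [CommRing B] [CommRing C] [IsNoetherianRing A]
    [IsNoetherianRing B] [IsNoetherianRing C] [Algebra A B] [Algebra B C] [Algebra A C] [IsScalarTower A B C]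
    [Module.Flat A C]
    (hfib : ∀ (K : Type u) [Field K] [Algebra A K], Module.Flat (B ⊗[A] K) ((B ⊗[A] K) ⊗[B] C)) :
    Module.Flat B C := by
  refine Module.flat_of_isLocalized_maximal C C (fun P => Localization.AtPrime P)
    (fun P _ => Algebra.linearMap C (Localization.AtPrime P)) fun q _ => ?_
  let r : Ideal B := q.comap (algebraMap B C)
  let p : Ideal A := r.comap (algebraMap A B)
  let Ap := Localization.AtPrime p
  let Br := Localization.AtPrime r
  let Cq := Localization.AtPrime q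
  let f₁ : Ap →+* Br := Localization.localRingHom p r (algebraMap A B) rfl
  let f₂ : Br →+* Cq := Localization.localRingHom r q (algebraMap B C) rfl
  let _ : Algebra Ap Br := f₁.toAlgebra
  let _ : Algebra Br Cq := f₂.toAlgebra
  let _ : Algebra Ap Cq := (f₂.comp f₁).toAlgebra
  have : IsScalarTower Ap Br Cq := .of_algebraMap_eq fun _ => rfl
  have hf₁ : ∀ x, f₁ (algebraMap A Ap x) = algebraMap B Br (algebraMap A B x) := fun x =>
    Localization.localRingHom_to_map _ _ _ _ x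
  have hf₂ : ∀ x, f₂ (algebraMap B Br x) = algebraMap C Cq (algebraMap B C x) := fun x =>
    Localization.localRingHom_to_map _ _ _ _ x
  have : IsScalarTower A Ap Br := .of_algebraMap_eq fun x => by
    rw [IsScalarTower.algebraMap_apply A B Br]; exact (hf₁ x).symm
  have : IsScalarTower A Ap Cq := .of_algebraMap_eq fun x => by
    rw [IsScalarTower.algebraMap_apply A C Cq, IsScalarTower.algebraMap_apply A B C]
    exact ((congrArg f₂ (hf₁ x)).trans (hf₂ _)).symm
  have : IsScalarTower B Br Cq := .of_algebraMap_eq fun x => by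
    rw [IsScalarTower.algebraMap_apply B C Cq]; exact (hf₂ x).symm
  have : IsLocalHom (algebraMap Ap Br) := Localization.isLocalHom_localRingHom _ _ _ _
  have : IsLocalHom (algebraMap Br Cq) := Localization.isLocalHom_localRingHom _ _ _ _
  have : IsNoetherianRing Ap := IsLocalization.isNoetherianRing p.primeCompl _ inferInstance
  have : IsNoetherianRing Br := IsLocalization.isNoetherianRing r.primeCompl _ inferInstance
  have : IsNoetherianRing Cq := IsLocalization.isNoetherianRing q.primeCompl _ inferInstance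
  have : Module.Flat C Cq := IsLocalization.flat Cq q.primeCompl
  have : Module.Flat A Cq := Module.Flat.trans A C Cq
  have : Module.Flat Ap Cq := (Module.flat_iff_of_isLocalization Ap p.primeCompl Cq).2 inferInstance
  let Sb := Br ⧸ (IsLocalRing.maximalIdeal Ap).map (algebraMap Ap Br)
  let k := IsLocalRing.ResidueField Ap
  let _ : Algebra k Sb := (Ideal.Quotient.lift (IsLocalRing.maximalIdeal Ap)
    ((Ideal.Quotient.mk _).comp (algebraMap Ap Br)) fun x hx =>
      Ideal.Quotient.eq_zero_iff_mem.2 (Ideal.mem_map_of_mem _ hx)).toAlgebra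
  have : IsScalarTower A k Sb := .of_algebraMap_eq fun x => by
    rw [IsScalarTower.algebraMap_apply A Br Sb, IsScalarTower.algebraMap_apply A Ap Br]
    rfl
  let θ : B ⊗[A] k →ₐ[B] Sb := Algebra.TensorProduct.lift (Algebra.ofId B Sb)
    (IsScalarTower.toAlgHom A k Sb) fun _ _ => Commute.all _ _
  let _ : Algebra (B ⊗[A] k) Sb := θ.toRingHom.toAlgebra
  have : IsScalarTower B (B ⊗[A] k) Sb := .of_algebraMap_eq fun x => (θ.commutes x).symm
  have := hfib k
  have h := (Groth.Agent.S0392.result (R := Ap) (S := Br) (S' := Cq) (M := Cq)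
    (flat_bar (T := B ⊗[A] k) (R' := C) r.primeCompl)).2
  exact (Module.flat_iff_of_isLocalization Br r.primeCompl Cq).1 h

set_option maxHeartbeats 1000000 in
/-- The fibrewise criterion of flatness on charts, Noetherian case. -/
theorem flat_chart {X Y Z : Sp S} {f : X ⟶ Y} {h : Y ⟶ Z}
    (hX : IsLocNoethSp X) (hY : IsLocNoethSp Y) (hZ : IsLocNoethSp Z) (hfl : LocP @Flat (f ≫ h))
    (hfib : ∀ (K : Type u) [Field K] (sK : Spec (CommRingCat.of K) ⟶ S)
      (z : (yon S).obj (Over.mk sK) ⟶ Z) (Xz Yz : Sp S)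
      (pX : Xz ⟶ X) (qX : Xz ⟶ (yon S).obj (Over.mk sK))
      (pY : Yz ⟶ Y) (qY : Yz ⟶ (yon S).obj (Over.mk sK)) (fz : Xz ⟶ Yz),
      IsPullback pX qX (f ≫ h) z → IsPullback pY qY h z → fz ≫ pY = pX ≫ f → fz ≫ qY = qX →
      LocP @Flat fz)
    {U V W : Over S} {a : (yon S).obj U ⟶ X} {b : (yon S).obj V ⟶ Y} {c : (yon S).obj W ⟶ Z}
    {g₁ : U ⟶ V} {g₂ : V ⟶ W} (ha : RepWith @Etale a) (hb : RepWith @Etale b) (hc : RepWith @Etale c)
    (w₁ : a ≫ f = (yon S).map g₁ ≫ b) (w₂ : b ≫ h = (yon S).map g₂ ≫ c) : Flat g₁.left := by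
  have : IsLocallyNoetherian U.left := isLocallyNoetherian_of_etale_chart a ha hX
  have : IsLocallyNoetherian V.left := isLocallyNoetherian_of_etale_chart b hb hY
  have : IsLocallyNoetherian W.left := isLocallyNoetherian_of_etale_chart c hc hZ
  refine Flat.of_stalkMap _ fun x => ?_
  obtain ⟨W₁, hW₁, hxW, -⟩ := exists_isAffineOpen_mem_and_subset (X := W.left) (x := g₂.left (g₁.left x))
    (U := ⊤) trivial
  obtain ⟨V₁, hV₁, hxV, hVW⟩ := exists_isAffineOpen_mem_and_subset (X := V.left) (x := g₁.left x)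
    (U := g₂.left ⁻¹ᵁ W₁) hxW
  obtain ⟨U₁, hU₁, hxU, hUV⟩ := exists_isAffineOpen_mem_and_subset (X := U.left) (x := x)
    (U := g₁.left ⁻¹ᵁ V₁) hxV
  let A := Γ(W.left, W₁)
  let B := Γ(V.left, V₁)
  let C := Γ(U.left, U₁)
  let η₂ : A ⟶ B := g₂.left.appLE W₁ V₁ hVW
  let η₁ : B ⟶ C := g₁.left.appLE V₁ U₁ hUV
  have hη₂ : Spec.map η₂ ≫ hW₁.fromSpec = hV₁.fromSpec ≫ g₂.left := hW₁.SpecMap_appLE_fromSpec _ hV₁ hVW
  have hη₁ : Spec.map η₁ ≫ hV₁.fromSpec = hU₁.fromSpec ≫ g₁.left := hV₁.SpecMap_appLE_fromSpec _ hU₁ hUV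
  -- affine charts
  let U' : Over S := Over.mk (hU₁.fromSpec ≫ U.hom)
  let V' : Over S := Over.mk (hV₁.fromSpec ≫ V.hom)
  let W' : Over S := Over.mk (hW₁.fromSpec ≫ W.hom)
  let iU : U' ⟶ U := Over.homMk hU₁.fromSpec rfl
  let iV : V' ⟶ V := Over.homMk hV₁.fromSpec rfl
  let iW : W' ⟶ W := Over.homMk hW₁.fromSpec rfl
  let e₁ : U' ⟶ V' := Over.homMk (Spec.map η₁) (by
    change Spec.map η₁ ≫ hV₁.fromSpec ≫ V.hom = hU₁.fromSpec ≫ U.hom
    rw [reassoc_of% hη₁, Over.w g₁])
  let e₂ : V' ⟶ W' := Over.homMk (Spec.map η₂) (by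
    change Spec.map η₂ ≫ hW₁.fromSpec ≫ W.hom = hV₁.fromSpec ≫ V.hom
    rw [reassoc_of% hη₂, Over.w g₂])
  have he₁ : iU ≫ g₁ = e₁ ≫ iV := Over.OverMorphism.ext hη₁.symm
  have he₂ : iV ≫ g₂ = e₂ ≫ iW := Over.OverMorphism.ext hη₂.symm
  have hcomp : ∀ {P Q : Over S} (i : P ⟶ Q) {F : Sp S} {q : (yon S).obj Q ⟶ F}, Etale i.left →
      RepWith @Etale q → RepWith @Etale ((yon S).map i ≫ q) := fun i _ _ hi hq =>
    (repWith_isMultiplicative _).comp_mem _ _ ((repWith_yon_map_iff _ i).2 hi) hq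
  have ha' := hcomp iU (inferInstanceAs (Etale hU₁.fromSpec)) ha
  have hb' := hcomp iV (inferInstanceAs (Etale hV₁.fromSpec)) hb
  have hc' := hcomp iW (inferInstanceAs (Etale hW₁.fromSpec)) hc
  have w₁' : ((yon S).map iU ≫ a) ≫ f = (yon S).map e₁ ≫ (yon S).map iV ≫ b := by
    rw [Category.assoc, w₁, ← Functor.map_comp_assoc, he₁, Functor.map_comp_assoc]
  have w₂' : ((yon S).map iV ≫ b) ≫ h = (yon S).map e₂ ≫ (yon S).map iW ≫ c := by
    rw [Category.assoc, w₂, ← Functor.map_comp_assoc, he₂, Functor.map_comp_assoc]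
  have hflat : Flat (Spec.map (η₂ ≫ η₁)) := by
    have := hfl _ _ (e₁ ≫ e₂) ha' hc' (by
      rw [← Category.assoc, w₁', Category.assoc, Category.assoc, ← Category.assoc ((yon S).map iV), w₂',
        Functor.map_comp_assoc])
    rw [Spec.map_comp]
    exact this
  have : IsNoetherianRing A := IsLocallyNoetherian.component_noetherian ⟨W₁, hW₁⟩
  have : IsNoetherianRing B := IsLocallyNoetherian.component_noetherian ⟨V₁, hV₁⟩
  have : IsNoetherianRing C := IsLocallyNoetherian.component_noetherian ⟨U₁, hU₁⟩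
  let _ : Algebra A B := η₂.hom.toAlgebra
  let _ : Algebra B C := η₁.hom.toAlgebra
  let _ : Algebra A C := (η₂ ≫ η₁).hom.toAlgebra
  have : IsScalarTower A B C := .of_algebraMap_eq fun _ => rfl
  have : Module.Flat A C := HasRingHomProperty.Spec_iff.1 hflat
  have hBC : Module.Flat B C := flat_affine (A := A) (B := B) (C := C) <| by
    intro K iK iA
    have sq₂ := isPullback_SpecMap_of_isPushout _ _ _ _ (CommRingCat.isPushout_tensorProduct A B K)
    have sq₁ := isPullback_SpecMap_of_isPushout _ _ _ _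
      (CommRingCat.isPushout_tensorProduct B (B ⊗[A] K) C)
    have hf := flat_fibre_chart hfib ha' hb' hc' w₁' w₂' (Spec.map (CommRingCat.ofHom (algebraMap A K)))
      (uv := Spec.map (CommRingCat.ofHom (algebraMap (B ⊗[A] K) ((B ⊗[A] K) ⊗[B] C))))
      sq₁.flip sq₂
    exact RingHom.flat_algebraMap_iff.1 (HasRingHomProperty.Spec_iff.1 hf)
  have hf' : Flat (Spec.map η₁) := HasRingHomProperty.Spec_iff.2 hBC
  let y : ↥(Spec C) := hU₁.primeIdealOf ⟨x, hxU⟩
  have hy : hU₁.fromSpec y = x := hU₁.fromSpec_primeIdealOf ⟨x, hxU⟩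
  have hfl' : (g₁.left.stalkMap (hU₁.fromSpec y)).hom.Flat := by
    have h1 : ((hU₁.fromSpec ≫ g₁.left).stalkMap y).hom.Flat := by
      rw [← hη₁]
      exact Flat.stalkMap _ y
    rw [Scheme.Hom.stalkMap_comp] at h1
    have : IsIso (hU₁.fromSpec.stalkMap y) := inferInstance
    exact (RingHom.Flat.respectsIso.cancel_right_isIso _ _).1 h1
  rwa [hy] at hfl'

end Groth.Agent.AlgSpCov.FibreFlat
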