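import Groth.Agent.AlgSpCov.FibreFlat
import Groth.Agent.S1386

/-!
# The fibrewise criterion of flatness for algebraic spaces, finite presentation case
-/

universe u

open CategoryTheory CategoryTheory.Limits AlgebraicGeometry Opposite

set_option backward.isDefEq.respectTransparency.types false

namespace Groth.Agent.AlgSpCov.FibreFlat

open _root_.AlgSp Groth.Agent.AlgSp

variable {S : Scheme.{u}}

/-- The fibrewise criterion of flatness on charts, finite presentation case. -/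
theorem flat_chart_of_lfp {X Y Z : Sp S} {f : X ⟶ Y} {h : Y ⟶ Z}
    (hfp : LocP @LocallyOfFinitePresentation (f ≫ h)) (hft : LocP @LocallyOfFiniteType h)
    (hfl : LocP @Flat (f ≫ h))
    (hfib : ∀ (K : Type u) [Field K] (sK : Spec (CommRingCat.of K) ⟶ S)
      (z : (yon S).obj (Over.mk sK) ⟶ Z) (Xz Yz : Sp S)
      (pX : Xz ⟶ X) (qX : Xz ⟶ (yon S).obj (Over.mk sK))
      (pY : Yz ⟶ Y) (qY : Yz ⟶ (yon S).obj (Over.mk sK)) (fz : Xz ⟶ Yz),
      IsPullback pX qX (f ≫ h) z → IsPullback pY qY h z → fz ≫ pY = pX ≫ f → fz ≫ qY = qX →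
      LocP @Flat fz)
    {U V W : Over S} {a : (yon S).obj U ⟶ X} {b : (yon S).obj V ⟶ Y} {c : (yon S).obj W ⟶ Z}
    {g₁ : U ⟶ V} {g₂ : V ⟶ W} (ha : RepWith @Etale a) (hb : RepWith @Etale b) (hc : RepWith @Etale c)
    (w₁ : a ≫ f = (yon S).map g₁ ≫ b) (w₂ : b ≫ h = (yon S).map g₂ ≫ c) :
    Flat g₁.left ∧ ∀ u : ↥U.left, (g₂.left.stalkMap (g₁.left u)).hom.Flat := by
  have w : a ≫ f ≫ h = (yon S).map (g₁ ≫ g₂) ≫ c := by
    rw [← Category.assoc, w₁, Category.assoc, w₂, Functor.map_comp, Category.assoc]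
  have : LocallyOfFinitePresentation (g₁.left ≫ g₂.left) := hfp a c (g₁ ≫ g₂) ha hc w
  have : LocallyOfFiniteType g₂.left := hft b c g₂ hb hc w₂
  have hflat : Flat (g₁.left ≫ g₂.left) := hfl a c (g₁ ≫ g₂) ha hc w
  have key : ∀ u : ↥U.left, (g₂.left.stalkMap (g₁.left u)).hom.Flat ∧ (g₁.left.stalkMap u).hom.Flat := by
    intro u
    refine ((Groth.Agent.S1386.result g₁.left g₂.left).1 u).1 ⟨Flat.stalkMap _ u, ?_⟩
    let s := g₂.left (g₁.left u)
    have sq₂ : IsPullback (g₂.left.fiberι s) (g₂.left.fiberToSpecResidueField s) g₂.left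
        (W.left.fromSpecResidueField s) := IsPullback.of_hasPullback _ _
    have h1 : MoreMor.fiberMap g₁.left g₂.left s ≫ g₂.left.fiberι s =
        (g₁.left ≫ g₂.left).fiberι s ≫ g₁.left := pullback.lift_fst _ _ _
    have h2 : MoreMor.fiberMap g₁.left g₂.left s ≫ g₂.left.fiberToSpecResidueField s =
        (g₁.left ≫ g₂.left).fiberToSpecResidueField s := pullback.lift_snd _ _ _
    have sq₁ : IsPullback ((g₁.left ≫ g₂.left).fiberι s) (MoreMor.fiberMap g₁.left g₂.left s)
        g₁.left (g₂.left.fiberι s) := by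
      refine IsPullback.of_bot ?_ h1.symm sq₂
      rw [h2]
      exact IsPullback.of_hasPullback _ _
    have := flat_fibre_chart hfib ha hb hc w₁ w₂ (W.left.fromSpecResidueField s) sq₁ sq₂
    exact Flat.stalkMap _ _
  exact ⟨Flat.of_stalkMap _ fun u => (key u).2, fun u => (key u).1⟩

end Groth.Agent.AlgSpCov.FibreFlat
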