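import Groth.Agent.AlgSpCov.LocPBasic
import Groth.Agent.AlgSpB.Points
import Groth.Agent.AlgSpB.RedInduced
import Groth.Agent.AlgSpD.ReducedEtale
import Groth.Agent.LimTop.Reduced
import Groth.Agent.AlgSpD.OnePoint
import Groth.Agent.RegLoc.Homological
import Groth.Agent.S0065

/-!
# Reduced, locally Noetherian and regular descend along flat surjective morphisms of spaces
-/

set_option autoImplicit false
set_option backward.isDefEq.respectTransparency false
set_option backward.isDefEq.respectTransparency.types false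

universe u

open CategoryTheory CategoryTheory.Limits AlgebraicGeometry MorphismProperty

namespace Groth.Agent.AlgSpCov

open _root_.AlgSp

variable {S : Scheme.{u}}

/-- From an etale surjective chart of the source, a scheme etale over it and flat surjective over a chart
of the target. -/
theorem exists_flat_surjective_chart {X Y : Space S} (f : X ⟶ Y) (hfl : LocP @Flat f.hom)
    (hs : IsSurjectiveMor f.hom) {U : Over S} (a : (yon S).obj U ⟶ X.obj) (ha : RepWith @Etale a)
    (has : RepWith @Surjective a) :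
    ∃ (V R : Over S) (p : (yon S).obj V ⟶ Y.obj) (r : R ⟶ V) (e : R ⟶ U),
      RepWith @Etale p ∧ RepWith @Surjective p ∧ Etale e.left ∧ Flat r.left ∧ Surjective r.left ∧
      (LocP @LocallyOfFinitePresentation f.hom → LocallyOfFinitePresentation r.left) ∧
      (LocP @Smooth f.hom → Smooth r.left) := by
  obtain ⟨V, p, hp, hps⟩ := Y.property.atlas
  have hQ := IsPullback.of_hasPullback f.hom p
  obtain ⟨W, e, he, hes⟩ := (Groth.Agent.AlgSp.isAlgSpace_pullback Y.property X.property
    (IsAlgSpace.yon_obj V) f.hom p).atlas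
  obtain ⟨w, hw⟩ := (yon S).map_surjective (e ≫ pullback.snd f.hom p)
  have hWX : RepWith @Etale (e ≫ pullback.fst f.hom p) := repWith_comp he (repWith_bc hQ.flip hp)
  obtain ⟨R, ρU, ρW, hR⟩ := exists_pullback ha.1 (e ≫ pullback.fst f.hom p)
  have hρW : Etale ρW.left := ha.2 _ _ _ hR
  have hρWs : Surjective ρW.left := has.2 _ _ _ hR
  have hρU : Etale ρU.left := hWX.2 _ _ _ hR.flip
  have hws : Surjective w.left := ⟨fun v => by
    obtain ⟨z, hz⟩ := hs (Points.ofPt p v)
    obtain ⟨q, -, hq⟩ := AlgSpB.exists_of_isPullback hQ z (Points.ofScheme V v)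
      (hz.trans (Points.ofPt_eq_map_ofScheme p v))
    obtain ⟨y, hy⟩ := AlgSpB.surjective_ofPt hes q
    refine ⟨y, (Points.schemeHomeo V).injective ?_⟩
    change _ = Points.ofScheme V v
    rw [← hq, ← hy, Points.map_ofPt, ← hw]
    exact ((Points.ofPt_eq_map_ofScheme ((yon S).map w) y).trans (Points.map_yon_map_apply w y)).symm⟩
  have key : ∀ {P : MorphismProperty Scheme.{u}} [P.IsStableUnderBaseChange], EtaleLocal P →
      LocP P f.hom → P (ρW ≫ w).left := fun {P} _ hP hfP => by
    rw [Over.comp_left]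
    exact hP.precomp _ _ hρW (chart_of_locP hP X.property Y.property hfP p hQ he w hw.symm)
  exact ⟨V, R, p, ρW ≫ w, ρU, hp, hps, hρU, key etaleLocal_flat hfl,
    by rw [Over.comp_left]; infer_instance, key etaleLocal_locallyOfFinitePresentation,
    key etaleLocal_smooth⟩

theorem isReducedSp_of_flat_surjective {X Y : Space S} (f : X ⟶ Y) (hfl : LocP @Flat f.hom)
    (hs : IsSurjectiveMor f.hom) (hX : IsReducedSp X.obj) : IsReducedSp Y.obj := by
  obtain ⟨U, a, ha, has, hU⟩ := hX
  obtain ⟨V, R, p, r, e, hp, hps, he, hr, hrs, -, -⟩ := exists_flat_surjective_chart f hfl hs a ha has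
  have : AlgebraicGeometry.IsReduced U.left := hU
  have : AlgebraicGeometry.IsReduced R.left := AlgSpB.isReduced_of_etale e.left
  exact ⟨V, p, hp, hps, LimTop.isReduced_of_flat_surjective r.left⟩

theorem isLocNoethSp_of_fppf_surjective {X Y : Space S} (f : X ⟶ Y) (hfl : LocP @Flat f.hom)
    (hfp : LocP @LocallyOfFinitePresentation f.hom) (hs : IsSurjectiveMor f.hom)
    (hX : IsLocNoethSp X.obj) : IsLocNoethSp Y.obj := by
  obtain ⟨U, a, ha, has, hU⟩ := hX
  obtain ⟨V, R, p, r, e, hp, hps, he, hr, hrs, hrp, -⟩ := exists_flat_surjective_chart f hfl hs a ha has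
  have := hrp hfp
  have : IsLocallyNoetherian U.left := hU
  have : IsLocallyNoetherian R.left := LocallyOfFiniteType.isLocallyNoetherian e.left
  exact ⟨V, p, hp, hps, AlgSpD.isLocallyNoetherian_of_fppf r.left⟩

theorem regular_of_fppf_surjective {X Y : Space S} (f : X ⟶ Y) (hfl : LocP @Flat f.hom)
    (hfp : LocP @LocallyOfFinitePresentation f.hom) (hs : IsSurjectiveMor f.hom)
    (hX : EtaleLocally (fun U => IsLocallyNoetherian U ∧ ∀ u : ↥U, IsRegularLocalRing ↥(U.presheaf.stalk u)) X.obj) :
    EtaleLocally (fun U => IsLocallyNoetherian U ∧ ∀ u : ↥U, IsRegularLocalRing ↥(U.presheaf.stalk u)) Y.obj := by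
  obtain ⟨U, a, ha, has, hU, hreg⟩ := hX
  obtain ⟨V, R, p, r, e, hp, hps, he, hr, hrs, hrp, -⟩ := exists_flat_surjective_chart f hfl hs a ha has
  have := hrp hfp
  have : IsLocallyNoetherian R.left := LocallyOfFiniteType.isLocallyNoetherian e.left
  have hN : IsLocallyNoetherian V.left := AlgSpD.isLocallyNoetherian_of_fppf r.left
  refine ⟨V, p, hp, hps, hN, fun v => ?_⟩
  obtain ⟨x, rfl⟩ := r.left.surjective v
  have : IsRegularLocalRing (R.left.presheaf.stalk x) := (S0065.result e.left x).2 (hreg _)
  let _ := (r.left.stalkMap x).hom.toAlgebra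
  have : Module.Flat (V.left.presheaf.stalk (r.left x)) (R.left.presheaf.stalk x) := Flat.stalkMap r.left x
  have : IsLocalHom (algebraMap (V.left.presheaf.stalk (r.left x)) (R.left.presheaf.stalk x)) :=
    inferInstanceAs (IsLocalHom (r.left.stalkMap x).hom)
  exact RegLoc.Homological.isRegularLocalRing_of_flat (R.left.presheaf.stalk x)

/-- An algebra smooth over a reduced ring is reduced. -/
theorem isReduced_of_smooth_algebra (A B : Type u) [CommRing A] [CommRing B] [Algebra A B]
    [_root_.IsReduced A] [Algebra.Smooth A B] : _root_.IsReduced B := by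
  obtain ⟨s, hs, h⟩ := Algebra.Smooth.exists_span_eq_top_isStandardSmooth A B
  refine ⟨fun x hx => ?_⟩
  have hloc : ∀ f ∈ s, algebraMap B (Localization.Away f) x = 0 := by
    intro f hf
    obtain ⟨n, g, -, hg⟩ := RingHom.IsStandardSmooth.exists_etale_mvPolynomial
      (f := algebraMap A (Localization.Away f)) (RingHom.isStandardSmooth_algebraMap.2 (h f hf))
    algebraize [g]
    have := AlgSpD.isReduced_of_etale (MvPolynomial (Fin n) A) (Localization.Away f)
    exact (hx.map (algebraMap B (Localization.Away f))).eq_zero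
  have hann : Ideal.span s ≤ (Submodule.span B {x}).annihilator.radical := by
    rw [Ideal.span_le]
    intro f hf
    obtain ⟨⟨_, m, rfl⟩, hm⟩ := (IsLocalization.map_eq_zero_iff (Submonoid.powers f) _ _).mp (hloc f hf)
    exact ⟨m, (Submodule.mem_annihilator_span_singleton _ _).mpr hm⟩
  rw [hs, top_le_iff, Ideal.radical_eq_top] at hann
  have h1 : (1 : B) ∈ (Submodule.span B {x}).annihilator := hann ▸ Submodule.mem_top
  simpa using (Submodule.mem_annihilator_span_singleton _ _).mp h1

/-- A scheme smooth over a reduced scheme is reduced. -/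
theorem isReduced_of_smooth {X Y : Scheme.{u}} (f : X ⟶ Y) [Smooth f] [AlgebraicGeometry.IsReduced Y] :
    AlgebraicGeometry.IsReduced X := by
  refine @isReduced_of_isReduced_stalk X fun x => ?_
  obtain ⟨V, hV, hxV, -⟩ := exists_isAffineOpen_mem_and_subset (x := f x) (U := (⊤ : Y.Opens)) trivial
  obtain ⟨U, hU, hxU, hUV⟩ := exists_isAffineOpen_mem_and_subset (x := x) (U := f ⁻¹ᵁ V) hxV
  have h := HasRingHomProperty.appLE (P := @Smooth) f inferInstance ⟨V, hV⟩ ⟨U, hU⟩ hUV
  let := (f.appLE V U hUV).hom.toAlgebra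
  have : Algebra.Smooth Γ(Y, V) Γ(X, U) := h
  have hred := isReduced_of_smooth_algebra Γ(Y, V) Γ(X, U)
  let := X.presheaf.algebra_section_stalk ⟨x, hxU⟩
  have := hU.isLocalization_stalk ⟨x, hxU⟩
  exact isReduced_localizationPreserves (R := Γ(X, U)) (hU.primeIdealOf ⟨x, hxU⟩).asIdeal.primeCompl _ hred

theorem isReducedSp_of_smooth {X Y : Space S} (f : X ⟶ Y) (hf : LocP @Smooth f.hom)
    (hY : IsReducedSp Y.obj) : IsReducedSp X.obj := by
  obtain ⟨V, p, hp, hps, hV⟩ := hY
  have hQ := IsPullback.of_hasPullback f.hom p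
  obtain ⟨W, e, he, hes⟩ := (Groth.Agent.AlgSp.isAlgSpace_pullback Y.property X.property
    (IsAlgSpace.yon_obj V) f.hom p).atlas
  obtain ⟨w, hw⟩ := (yon S).map_surjective (e ≫ pullback.snd f.hom p)
  have : Smooth w.left := chart_of_locP etaleLocal_smooth X.property Y.property hf p hQ he w hw.symm
  have : AlgebraicGeometry.IsReduced V.left := hV
  exact ⟨W, _, repWith_comp he (repWith_bc hQ.flip hp), repWith_comp hes (repWith_bc hQ.flip hps),
    isReduced_of_smooth w.left⟩

theorem locP_flat_of_smooth {X Y : Sp S} {f : X ⟶ Y} (hf : LocP @Smooth f) : LocP @Flat f :=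
  fun _ _ a b h ha hb w => have := hf a b h ha hb w; inferInstanceAs (Flat h.left)

end Groth.Agent.AlgSpCov
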