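import Groth.Agent.HTopLib.Cover
import Groth.Agent.S8976
import Mathlib.AlgebraicGeometry.Morphisms.UniversallyOpen

/-!
# fppf families of schemes are ph coverings
-/

set_option autoImplicit false

universe w u

open CategoryTheory AlgebraicGeometry

namespace Groth.Agent.AlgSpCov

theorem isPhCover_of_fppf {T : Scheme.{u}} (E : PreZeroHypercover.{w} T)
    (hflat : ∀ i, Flat (E.f i)) (hfp : ∀ i, LocallyOfFinitePresentation (E.f i))
    (hsurj : ∀ t : T, ∃ (i : E.I₀) (x : E.X i), E.f i x = t) : HTop.IsPhCover E := by
  have : QuasiCompactCover E := ⟨fun {U} hU => .of_isOpenMap (fun i => (E.f i).continuous)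
    (fun i => by
      have := hflat i
      have := hfp i
      exact (E.f i).isOpenMap)
    (fun x _ => (hsurj x).imp fun i => id) U.2 hU.isCompact⟩
  exact (S8976.result E hfp).2 (HTopLib.isVCover_of_fpqc E hflat)

end Groth.Agent.AlgSpCov
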