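import Groth.Agent.AlgSpCov.Listed
import Groth.Agent.AlgSpCov.SchemeDescent
import Groth.Prelude.Def_AlgSpCov

/-!
# Properties of morphisms of algebraic spaces which are fpqc local on the base
-/

universe u

open CategoryTheory CategoryTheory.Limits AlgebraicGeometry Opposite

set_option backward.isDefEq.respectTransparency false

namespace Groth.Agent.AlgSpCov

open AlgSp

variable {S : Scheme.{u}} {P : MorphismProperty Scheme.{u}}

/-- Base change of a chart on a base change of `f` along a morphism of the base. -/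
theorem chart_baseChange {F G : Sp S} {f : F ⟶ G} {W W' : Over S} {g : (yon S).obj W ⟶ G} (c : W' ⟶ W)
    {Q Q' : Sp S} {fst : Q ⟶ F} {snd : Q ⟶ (yon S).obj W} (hQ : IsPullback fst snd f g)
    {fst' : Q' ⟶ F} {snd' : Q' ⟶ (yon S).obj W'} (hQ' : IsPullback fst' snd' f ((yon S).map c ≫ g))
    {U U' : Over S} {m : (yon S).obj U ⟶ Q} (hm : RepWith @Etale m) {h : U ⟶ W}
    (w : m ≫ snd = (yon S).map h) {eU : U' ⟶ U} {h' : U' ⟶ W'} (hU' : IsPullback eU h' h c) :
    ∃ m' : (yon S).obj U' ⟶ Q', RepWith @Etale m' ∧ m' ≫ snd' = (yon S).map h' := by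
  obtain ⟨r, hr₁, hr₂⟩ := hQ.exists_lift fst' (snd' ≫ (yon S).map c) (by rw [hQ'.w, Category.assoc])
  have hQc : IsPullback r snd' snd ((yon S).map c) := IsPullback.of_right (hr₁ ▸ hQ') hr₂ hQ
  have hUy : IsPullback ((yon S).map eU) ((yon S).map h') (m ≫ snd) ((yon S).map c) := by
    rw [w]; exact hU'.map (yon S)
  obtain ⟨m', h1, h2⟩ := hQc.exists_lift ((yon S).map eU ≫ m) ((yon S).map h')
    (by rw [Category.assoc, hUy.w])
  refine ⟨m', repWith_bc (IsPullback.of_bot ?_ h1.symm hQc) hm, h2⟩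
  rwa [h2]

/-- A pullback square in `Over S` gives one of schemes. -/
theorem isPullback_over_left {W U V Z : Over S} {fst : W ⟶ U} {snd : W ⟶ V} {f : U ⟶ Z} {g : V ⟶ Z}
    (h : IsPullback fst snd f g) : IsPullback fst.left snd.left f.left g.left :=
  h.map (Over.forget S)

/-- `P` etale locally descends along fpqc coverings. -/
theorem locP_of_fpqc [P.IsStableUnderBaseChange] [IsZariskiLocalAtTarget P]
    [P.DescendsAlong (@Surjective ⊓ @Flat ⊓ @QuasiCompact)] (hP : EtaleLocal P) {ι : Type u} {Y : Sp S}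
    {Yi : ι → Sp S} {g : ∀ i, Yi i ⟶ Y} (hYi : ∀ i, IsAlgSpace (Yi i)) (hg : IsFpqcCover Yi g)
    {X : Sp S} {f : X ⟶ Y} {Xi : ι → Sp S} {p : ∀ i, Xi i ⟶ Yi i} {q : ∀ i, Xi i ⟶ X}
    (hXi : ∀ i, IsAlgSpace (Xi i)) (sq : ∀ i, IsPullback (q i) (p i) f (g i))
    (hp : ∀ i, LocP P (p i)) : LocP P f := by
  intro U V a b h ha hb w
  refine (IsZariskiLocalAtTarget.iff_of_openCover (P := P) V.left.affineCover).2 fun k => ?_
  change P (pullback.snd h.left (V.left.affineCover.f k))
  let Z : Over S := Over.mk (V.left.affineCover.f k ≫ V.hom)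
  have : IsAffine Z.left := inferInstanceAs (IsAffine (V.left.affineCover.X k))
  let ι' : Z ⟶ V := Over.homMk (V.left.affineCover.f k) rfl
  have hUZ := IsPullback.of_hasPullback h ι'
  suffices P (pullback.snd h ι').left by
    have h1 := isPullback_over_left hUZ
    rwa [← h1.isoPullback_hom_snd, P.cancel_left_of_respectsIso] at this
  have hQV := IsPullback.of_hasPullback f b
  obtain ⟨m, hm, -, hm2⟩ := etale_toPullback ha hb w hQV
  have hQZ := IsPullback.of_hasPullback f ((yon S).map ι' ≫ b)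
  obtain ⟨mZ, hmZ, hmZ2⟩ := chart_baseChange ι' hQV hQZ hm hm2 hUZ
  obtain ⟨n, W, c, hW, hc, hs, hl⟩ := hg.2 Z ‹_› ((yon S).map ι' ≫ b)
  refine of_finite_family (P := P) (pullback.snd h ι').left (fun j => (W j).left) (fun j => (c j).left) hs
    fun j => ?_
  have hT := IsPullback.of_hasPullback (pullback.snd h ι') (c j)
  refine ⟨_, _, _, (isPullback_over_left hT).flip, ?_⟩
  have hQj := IsPullback.of_hasPullback f ((yon S).map (c j) ≫ (yon S).map ι' ≫ b)
  obtain ⟨mj, hmj, hmj2⟩ := chart_baseChange (c j) hQZ hQj hmZ hmZ2 hT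
  obtain ⟨i, l, hli⟩ := hl j
  obtain ⟨r, hr₁, hr₂⟩ := (sq i).exists_lift (pullback.fst f ((yon S).map (c j) ≫ (yon S).map ι' ≫ b))
    (pullback.snd f _ ≫ l) (by rw [hQj.w, Category.assoc, hli])
  have hQi : IsPullback r (pullback.snd f ((yon S).map (c j) ≫ (yon S).map ι' ≫ b)) (p i) l := by
    refine IsPullback.of_right ?_ hr₂ (sq i)
    rw [hr₁, hli]
    exact hQj
  exact chart_of_locP hP (hXi i) (hYi i) (hp i) l hQi hmj _ hmj2

/-- The properties `LocP P` are fpqc local on the base. -/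
theorem isLocalOnBase_locP [P.IsStableUnderBaseChange] [IsZariskiLocalAtTarget P]
    [P.DescendsAlong (@Surjective ⊓ @Flat ⊓ @QuasiCompact)] (hP : EtaleLocal P) :
    IsLocalOnBase (IsFpqcCover (S := S)) (LocP P) :=
  fun _ _ _ _ hY hYi hg _ _ hX _ _ _ hXi sq =>
    ⟨fun hf i => locP_baseChange hP hX hY (sq i) hf, locP_of_fpqc hP hYi hg hXi sq⟩

/-- A representable morphism has `P` if its base changes along an fpqc covering have `P`. -/
theorem repWith_of_fpqc [P.IsStableUnderBaseChange] [IsZariskiLocalAtTarget P]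
    [P.DescendsAlong (@Surjective ⊓ @Flat ⊓ @QuasiCompact)] {ι : Type u} {Y : Sp S} {Yi : ι → Sp S}
    {g : ∀ i, Yi i ⟶ Y} (hg : IsFpqcCover Yi g) {X : Sp S} {f : X ⟶ Y} (hf : Representable f)
    {Xi : ι → Sp S} {p : ∀ i, Xi i ⟶ Yi i} {q : ∀ i, Xi i ⟶ X}
    (sq : ∀ i, IsPullback (q i) (p i) f (g i)) (hp : ∀ i, RepWith P (p i)) : RepWith P f := by
  refine ⟨hf, fun V T b fst snd hT => ?_⟩
  refine (IsZariskiLocalAtTarget.iff_of_openCover (P := P) V.left.affineCover).2 fun k => ?_
  change P (pullback.snd snd.left (V.left.affineCover.f k))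
  let Z : Over S := Over.mk (V.left.affineCover.f k ≫ V.hom)
  have : IsAffine Z.left := inferInstanceAs (IsAffine (V.left.affineCover.X k))
  let ι' : Z ⟶ V := Over.homMk (V.left.affineCover.f k) rfl
  have hUZ := IsPullback.of_hasPullback snd ι'
  suffices P (pullback.snd snd ι').left by
    have h1 := isPullback_over_left hUZ
    rwa [← h1.isoPullback_hom_snd, P.cancel_left_of_respectsIso] at this
  obtain ⟨n, W, c, hW, hc, hs, hl⟩ := hg.2 Z ‹_› ((yon S).map ι' ≫ b)
  refine of_finite_family (P := P) (pullback.snd snd ι').left (fun j => (W j).left) (fun j => (c j).left) hs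
    fun j => ?_
  have hTj := IsPullback.of_hasPullback (pullback.snd snd ι') (c j)
  refine ⟨_, _, _, (isPullback_over_left hTj).flip, ?_⟩
  obtain ⟨i, l, hli⟩ := hl j
  have hbig := (hTj.map (yon S)).paste_horiz ((hUZ.map (yon S)).paste_horiz hT)
  obtain ⟨r, hr₁, hr₂⟩ := (sq i).exists_lift _ ((yon S).map (pullback.snd (pullback.snd snd ι') (c j)) ≫ l)
    (hbig.w.trans (by simp [hli]))
  have hQi : IsPullback r ((yon S).map (pullback.snd (pullback.snd snd ι') (c j))) (p i) l := by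
    refine IsPullback.of_right ?_ hr₂ (sq i)
    rw [hr₁, hli]
    simpa using hbig
  exact (hp i).2 l r _ hQi

end Groth.Agent.AlgSpCov
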