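import Groth.Agent.AlgSpD.EtaleTop
import Mathlib.AlgebraicGeometry.Morphisms.Integral
import Mathlib.AlgebraicGeometry.Fiber

/-!
# Integral morphisms of schemes and dimension
-/

set_option autoImplicit false
set_option backward.isDefEq.respectTransparency false

universe u

open AlgebraicGeometry CategoryTheory Order

namespace Groth.Agent.AlgSpCov.IntegralDim

variable {X Y : Scheme.{u}}

theorem eq_of_specializes_of_isIntegralHom_field {K : Type u} [Field K] {P : Scheme.{u}}
    (π : P ⟶ Spec (CommRingCat.of K)) [IsIntegralHom π] {x x' : P} (h : x' ⤳ x) : x' = x := by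
  have : IsAffine P := isAffine_of_isAffineHom π
  obtain ⟨φ, hφ⟩ := Spec.map_surjective (P.isoSpec.inv ≫ π)
  have : IsIntegralHom (Spec.map φ) := hφ ▸ inferInstance
  have hint : φ.hom.IsIntegral := IsIntegralHom.SpecMap_iff.1 inferInstance
  algebraize [φ.hom]
  have hT : T1Space (PrimeSpectrum Γ(P, ⊤)) := by
    refine ⟨fun p => (PrimeSpectrum.isClosed_singleton_iff_isMaximal p).2 ?_⟩
    exact Ideal.isMaximal_of_isIntegral_of_isMaximal_comap p.asIdeal
      (by rw [Ring.isField_iff_maximal_bot.1 (Field.toIsField K) |>.eq_of_le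
            (Ideal.IsPrime.ne_top (Ideal.comap_isPrime _ _)) bot_le |>.symm]
          exact Ideal.bot_isMaximal)
  have h' := h.map P.isoSpec.hom.continuous
  exact P.isoSpec.hom.homeomorph.injective (@Specializes.eq _ _ hT _ _ h')

theorem eq_of_specializes_of_apply_eq (f : X ⟶ Y) [IsIntegralHom f] {x x' : X}
    (h : x' ⤳ x) (e : f x' = f x) : x' = x := by
  let y := f x
  have : IsIntegralHom (f.fiberToSpecResidueField y) :=
    MorphismProperty.pullback_snd (P := @IsIntegralHom) _ _ inferInstance
  let hh := f.fiberHomeo y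
  have hs : (⟨x', e⟩ : ↥(f ⁻¹' {y})) ⤳ ⟨x, rfl⟩ := (subtype_specializes_iff _ _).2 h
  have := eq_of_specializes_of_isIntegralHom_field (f.fiberToSpecResidueField y)
    (hs.map hh.symm.continuous)
  exact congrArg Subtype.val (hh.symm.injective this)

theorem strictMono_of_isIntegralHom (f : X ⟶ Y) [IsIntegralHom f] : StrictMono (f : X → Y) := by
  intro a b hab
  have h1 : b ⤳ a := hab.le
  refine lt_iff_le_not_ge.2 ⟨h1.map f.continuous, fun h2 => hab.not_ge ?_⟩
  have e : f b = f a := ((h1.map f.continuous).antisymm h2).eq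
  rw [eq_of_specializes_of_apply_eq f h1 e]

theorem topologicalKrullDim_le_of_strictMono (f : X ⟶ Y) (hf : StrictMono (f : X → Y)) :
    topologicalKrullDim X ≤ topologicalKrullDim Y := by
  rw [AlgSpD.topologicalKrullDim_eq_iSup, AlgSpD.topologicalKrullDim_eq_iSup]
  exact iSup_le fun x => (WithBot.coe_le_coe.2 (coheight_le_coheight_apply_of_strictMono _ hf x)).trans
    (le_iSup (fun y : Y => (coheight y : WithBot ℕ∞)) (f x))

theorem height_apply_le (f : X ⟶ Y) (hf : IsClosedMap (f : X → Y)) (x : X) :
    height (f x) ≤ height x := by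
  have key : ∀ (n : ℕ) (x : X) (q : LTSeries Y), q.length = n → q.last = f x → (n : ℕ∞) ≤ height x := by
    intro n
    induction n with
    | zero => intros; simp
    | succ n ih =>
      intro x q hn hq
      have h0 : q.length ≠ 0 := by omega
      let q' := q.eraseLast
      have hlt : q'.last < f x := by
        rw [← hq, RelSeries.last_eraseLast]
        exact q.strictMono (by rw [Fin.lt_def]; simp; omega)
      obtain ⟨x', hx', e⟩ := hf (closure {x}) isClosed_closure |>.closure_subset_iff.2
        (Set.singleton_subset_iff.2 ⟨x, subset_closure rfl, rfl⟩)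
        (specializes_iff_mem_closure.1 (show f x ⤳ q'.last from hlt.le))
      have hsp : x ⤳ x' := specializes_iff_mem_closure.2 hx'
      have hlt' : x' < x := lt_iff_le_not_ge.2 ⟨hsp, fun h => hlt.not_ge
        (e ▸ (show x' ⤳ x from h).map f.continuous)⟩
      have := ih x' q' (by simp [q', hn]) e.symm
      push_cast
      exact le_trans (by gcongr) (height_add_one_le hlt')
  exact height_le fun q hq => key _ x q rfl hq

theorem topologicalKrullDim_le_of_closed_surjective (f : X ⟶ Y) (hf : IsClosedMap (f : X → Y))
    [Surjective f] : topologicalKrullDim Y ≤ topologicalKrullDim X := by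
  have key : ∀ Z : Scheme.{u}, topologicalKrullDim Z = ⨆ z : Z, (height z : WithBot ℕ∞) := fun Z => by
    rw [← Order.krullDim_eq_iSup_height]
    exact @Order.krullDim_eq_of_orderIso _ _ _ _ (irreducibleSetEquivPoints (α := Z))
  rw [key, key]
  refine iSup_le fun y => ?_
  obtain ⟨x, rfl⟩ := f.surjective y
  exact (WithBot.coe_le_coe.2 (height_apply_le f hf x)).trans (le_iSup (fun z : X => (height z : WithBot ℕ∞)) x)

end Groth.Agent.AlgSpCov.IntegralDim
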