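import Groth.Agent.S10515
import Groth.Agent.AlgSpCov.BigEtSite
import Groth.Agent.AlgSpCov.FppfPh
import Groth.Agent.AlgSpCov.LocPBasic
import Groth.Agent.HTopPh.Bind
import Groth.Prelude.Def_W4stk3sptopologiesPh
import Mathlib.CategoryTheory.Sites.Canonical

/-!
# The big ph site of an algebraic space

* `spacesTop_le_phSpacesTop`: etale coverings are ph coverings.
* `isSheaf_phOver_of_etale_of_proper`: an etale sheaf with descent along proper surjective morphisms
  is a ph sheaf.
-/

set_option autoImplicit false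
set_option backward.isDefEq.respectTransparency false

universe w u

open CategoryTheory CategoryTheory.Limits AlgebraicGeometry Opposite

namespace Groth.Agent.AlgSpCov

open _root_.AlgSp

variable {S : Scheme.{u}}

/-- A proper morphism of schemes gives a proper morphism of spaces. -/
theorem isProperMor_yonMap {U V : Over S} (g : U ⟶ V) (hg : IsProper g.left) :
    IsProperMor ((yon S).map g) :=
  ⟨(isSeparatedMor_yon_map_iff g).2 inferInstance,
    ⟨locP_of_repWith etaleLocal_locallyOfFiniteType ((repWith_yon_map_iff _ g).2 inferInstance),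
      Groth.Agent.AlgSp.isQuasiCompactMor_of_repWith (IsAlgSpace.yon_obj V)
        ((repWith_yon_map_iff _ g).2 inferInstance)⟩,
    Groth.Agent.AlgSp.isUnivClosedMor_of_repWith ((repWith_yon_map_iff _ g).2 inferInstance)⟩

/-- A surjective morphism of schemes is surjective on points. -/
theorem surjective_map_yonMap {U V : Over S} (g : U ⟶ V) (hg : Surjective g.left) :
    IsSurjectiveMor ((yon S).map g) := fun z => by
  obtain ⟨x, rfl⟩ : ∃ x, Points.ofScheme V x = z := (Points.schemeHomeo V).surjective z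
  obtain ⟨y, rfl⟩ := hg.surj x
  exact ⟨Points.ofScheme U y, by
    rw [← Points.ofPt_eq_map_ofScheme, ← Category.comp_id ((yon S).map g), AlgSpB.ofPt_map_comp,
      Points.ofPt_eq_map_ofScheme, Points.map_id]⟩

theorem generate_singleton_mem_phSpacesTop {Y Z : Space S} (f : Y ⟶ Z) (hf : IsProperMor f.hom)
    (hs : IsSurjectiveMor f.hom) : Sieve.generate (Presieve.singleton f) ∈ phSpacesTop S Z := by
  refine Precoverage.generate_mem_toGrothendieck ?_
  rw [← Presieve.ofArrows_pUnit f]
  exact (ofArrows_mem_phSpacesPre_iff (fun _ : PUnit.{u + 1} => Y) fun _ => f).2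
    (S10515.result f hf hs)

theorem spacesPre_le_phSpacesPre {Z : Space S} {R : Presieve Z}
    (hR : R ∈ spacesPre S (@IsEtaleMor S) Z) : R ∈ phSpacesPre S Z := by
  refine ⟨fun Y g hg U V a b k ha hb w =>
    have : Etale k.left := locP_etale_of_isEtaleMor (hR.1 g hg) a b k ha hb w
    (inferInstance : LocallyOfFiniteType k.left), fun T hT t => ?_⟩
  have hmem := spacesTop_le _ (Precoverage.generate_mem_toGrothendieck hR) T (schArrow t)
  choose T' c hc hx hS using hmem
  let E : PreZeroHypercover.{u} T.left := ⟨↥T.left, fun x => (T' x).left, fun x => (c x).left⟩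
  obtain ⟨F, hF, hl⟩ := HTopPh.exists_standard_refining
    (isPhCover_of_fppf E (fun x => have := hc x; (inferInstance : Flat (c x).left))
      (fun x => have := hc x; (inferInstance : LocallyOfFinitePresentation (c x).left))
      fun x => by
        obtain ⟨y, hy⟩ := hx x
        exact ⟨x, y, hy⟩) (𝟙 T.left)
  refine ⟨F, hF, fun j => ?_⟩
  obtain ⟨x, l, hl⟩ := hl j
  rw [Category.comp_id] at hl
  have hl' : l ≫ (c x).left = F.f j := hl
  obtain ⟨Y, u, g, hg, e⟩ := hS x
  let l' : Over.mk (F.f j ≫ T.hom) ⟶ T' x := Over.homMk l (by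
    show l ≫ (T' x).hom = F.f j ≫ T.hom
    rw [← Over.w (c x), reassoc_of% hl'])
  refine ⟨Y, g, hg, (yon S).map l' ≫ u.hom, ?_⟩
  have e' : u.hom ≫ g.hom = (yon S).map (c x) ≫ t := congrArg (fun v => v.hom) e
  rw [Category.assoc, e', ← Category.assoc, ← Functor.map_comp]
  congr 2
  exact Over.OverMorphism.ext hl'

variable (S) in
theorem spacesTop_le_phSpacesTop : spacesTop S (@IsEtaleMor S) ≤ phSpacesTop S := by
  rw [spacesTop, Precoverage.toGrothendieck_le_iff_le_toPrecoverage]
  intro Z R hR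
  rw [GrothendieckTopology.mem_toPrecoverage_iff]
  exact Precoverage.generate_mem_toGrothendieck (spacesPre_le_phSpacesPre hR)

variable {X : Space S} (F : (Over X)ᵒᵖ ⥤ Type w)

/-- The sieves on spaces all of whose base changes over `X` cover for the finest topology of `F`. -/
def descentTop : GrothendieckTopology (Space S) where
  sieves Z := {R | ∀ (W : Space S) (φ : W ⟶ Z) (g : W ⟶ X),
    (Sieve.overEquiv (Over.mk g)).symm (R.pullback φ) ∈ Sheaf.finestTopologySingle F (Over.mk g)}
  top_mem' Z W φ g := by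
    rw [Sieve.pullback_top, map_top]
    exact GrothendieckTopology.top_mem _ _
  pullback_stable' Z Z' R φ hR W ψ g := by
    rw [← Sieve.pullback_comp]
    exact hR W _ g
  transitive' Z R hR R' h W φ g := by
    refine (Sheaf.finestTopologySingle F).transitive (hR W φ g) _ fun V k hk => ?_
    rw [← Sieve.overEquiv_symm_pullback]
    have := h (show R (k.left ≫ φ) from hk) V.left (𝟙 V.left) V.hom
    rw [Sieve.pullback_id, Sieve.pullback_comp] at this
    exact this

variable {F}

theorem descentTop_mem {Z W : Space S} {R : Sieve Z} (hR : R ∈ descentTop F Z) (φ : W ⟶ Z) (g : W ⟶ X) :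
    (Sieve.overEquiv (Over.mk g)).symm (R.pullback φ) ∈ Sheaf.finestTopologySingle F (Over.mk g) :=
  hR W φ g

theorem spacesTop_le_descentTop
    (he : Presieve.IsSheaf (spacesTopOver (@IsEtaleMor S) X) F) :
    spacesTop S (@IsEtaleMor S) ≤ descentTop F := by
  intro Z R hR W φ g Y f
  exact he _ ((spacesTopOver (@IsEtaleMor S) X).pullback_stable f
    ((spacesTop S (@IsEtaleMor S)).overEquiv_symm_mem_over (Over.mk g) _
      ((spacesTop S (@IsEtaleMor S)).pullback_stable φ hR)))

/-- A pullback of sheaves of algebraic spaces gives a pullback of spaces. -/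
theorem exists_space_pullback {Y Z W : Space S} (f : Y ⟶ Z) (φ : W ⟶ Z) :
    ∃ (P : Space S) (a : P ⟶ Y) (b : P ⟶ W), IsPullback a.hom b.hom f.hom φ.hom :=
  ⟨⟨pullback f.hom φ.hom,
      Groth.Agent.AlgSp.isAlgSpace_pullback Z.property Y.property W.property f.hom φ.hom⟩,
    ObjectProperty.homMk (pullback.fst f.hom φ.hom), ObjectProperty.homMk (pullback.snd f.hom φ.hom),
    IsPullback.of_hasPullback _ _⟩

/-- The descent hypothesis of the ph sheaf criterion. -/
def ProperDescent (F : (Over X)ᵒᵖ ⥤ Type w) : Prop :=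
  ∀ ⦃U V W : Over X⦄ (f : V ⟶ U) (p q : W ⟶ V),
    IsProperMor f.left.hom → IsSurjectiveMor f.left.hom →
    IsPullback p.left.hom q.left.hom f.left.hom f.left.hom →
    ∀ t : F.obj (op V), F.map p.op t = F.map q.op t → ∃! s : F.obj (op U), F.map f.op s = t

theorem generate_singleton_mem_descentTop (hp : ProperDescent F) {Y Z : Space S} (f : Y ⟶ Z)
    (hf : IsProperMor f.hom) (hs : IsSurjectiveMor f.hom) :
    Sieve.generate (Presieve.singleton f) ∈ descentTop F Z := by
  intro W φ g W₂ k
  let ψ : W₂.left ⟶ Z := k.left ≫ φ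
  obtain ⟨P, a, b, sq⟩ := exists_space_pullback f ψ
  let b' : Over.mk (b ≫ W₂.hom) ⟶ W₂ := Over.homMk b rfl
  have hsieve : ((Sieve.overEquiv (Over.mk g)).symm
      ((Sieve.generate (Presieve.singleton f)).pullback φ)).pullback k =
        Sieve.generate (Presieve.singleton b') := by
    ext V v
    rw [Sieve.pullback_apply, Sieve.overEquiv_symm_iff, Sieve.pullback_apply]
    constructor
    · rintro ⟨_, m, _, ⟨⟩, hm⟩
      have hw : m.hom ≫ f.hom = v.left.hom ≫ ψ.hom := by
        have := congrArg (fun r => r.hom) hm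
        simpa [ψ] using this
      let l : V.left ⟶ P := ObjectProperty.homMk (sq.lift m.hom v.left.hom hw)
      have hl : l ≫ b = v.left := ObjectProperty.hom_ext _ (sq.lift_snd _ _ _)
      refine ⟨_, Over.homMk l (show l ≫ b ≫ W₂.hom = V.hom by rw [reassoc_of% hl]; exact Over.w v),
        b', ⟨⟩, ?_⟩
      exact Over.OverMorphism.ext hl
    · rintro ⟨_, l, _, ⟨⟩, rfl⟩
      refine ⟨_, l.left ≫ a, f, ⟨⟩, ?_⟩
      have hw : a ≫ f = b ≫ ψ := ObjectProperty.hom_ext _ sq.w
      simp [hw, b', ψ]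
  rw [hsieve, ← Presieve.isSheafFor_iff_generate, Presieve.isSheafFor_singleton]
  intro t ht
  obtain ⟨Q, c, d, sq'⟩ := exists_space_pullback b b
  have hcd : c ≫ b = d ≫ b := ObjectProperty.hom_ext _ sq'.w
  let p : Over.mk (c ≫ b ≫ W₂.hom) ⟶ Over.mk (b ≫ W₂.hom) := Over.homMk c rfl
  let q : Over.mk (c ≫ b ≫ W₂.hom) ⟶ Over.mk (b ≫ W₂.hom) :=
    Over.homMk d (show d ≫ b ≫ W₂.hom = c ≫ b ≫ W₂.hom by rw [reassoc_of% hcd])
  exact hp b' p q (AlgSpD.isProperMor_baseChange Y.property Z.property sq hf)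
    (Groth.Agent.AlgSp.surjective_map_of_isPullback sq hs) sq' t
    (ht p q (Over.OverMorphism.ext hcd))

theorem generate_mem_descentTop (he : Presieve.IsSheaf (spacesTopOver (@IsEtaleMor S) X) F)
    (hp : ProperDescent F) {Z : Space S} {R : Presieve Z} (hR : R ∈ phSpacesPre S Z) :
    Sieve.generate R ∈ descentTop F Z := by
  obtain ⟨U, a, ha, has⟩ := Z.property.atlas
  let C : Sieve Z := Sieve.ofArrows
    (fun V : U.left.affineOpens => (ofScheme S).obj (Over.mk ((V : U.left.Opens).ι ≫ U.hom)))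
    fun V => schArrow ((yon S).map (Over.homMk (V : U.left.Opens).ι rfl : _ ⟶ U) ≫ a)
  have hC : C ∈ descentTop F Z := by
    refine (descentTop F).transitive
      (S := Sieve.generate (Presieve.singleton (schArrow a))) ?_ C ?_
    · refine spacesTop_le_descentTop he _ (Precoverage.generate_mem_toGrothendieck ?_)
      rw [← Presieve.ofArrows_pUnit]
      refine (ofArrows_mem_spacesPre_iff (ι := PUnit.{u + 1}) _ _ _).2
        ⟨fun _ => _root_.AlgSp.isEtaleMor_of_repWith a ha, fun z => ?_⟩
      obtain ⟨v, rfl⟩ := AlgSpB.surjective_ofPt has z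
      exact ⟨PUnit.unit, Points.ofScheme U v, (Points.ofPt_eq_map_ofScheme _ _).symm⟩
    · rintro V _ ⟨_, m, _, ⟨⟩, rfl⟩
      rw [Sieve.pullback_comp]
      refine (descentTop F).pullback_stable m (spacesTop_le_descentTop he _ (sieve_mem_spacesTop _ fun x => ?_))
      obtain ⟨W, hW, hxW, -⟩ := exists_isAffineOpen_mem_and_subset (TopologicalSpace.Opens.mem_top x)
      refine ⟨Over.mk (W.ι ≫ U.hom), Over.homMk W.ι rfl, inferInstanceAs (Etale W.ι),
        ⟨⟨x, hxW⟩, rfl⟩, ?_⟩
      refine ⟨_, 𝟙 _, _, ⟨(⟨W, hW⟩ : U.left.affineOpens)⟩, ?_⟩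
      rw [Category.id_comp]
      ext : 1
      rfl
  refine (descentTop F).transitive hC _ ?_
  rintro _ _ ⟨_, m, _, ⟨V⟩, rfl⟩
  rw [Sieve.pullback_comp]
  refine (descentTop F).pullback_stable m ?_
  let T : Over S := Over.mk ((V : U.left.Opens).ι ≫ U.hom)
  let t := (yon S).map (Over.homMk (V : U.left.Opens).ι rfl : T ⟶ U) ≫ a
  obtain ⟨G, hG, hl⟩ := hR.2 T (V.2 : IsAffine (V : U.left.Opens).toScheme) t
  obtain ⟨P, f, ι, hf, hfs, hι, hfac, hcov⟩ := hG.exists_proper
  let P' : Over S := Over.mk (f ≫ T.hom)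
  let f' : P' ⟶ T := Over.homMk f rfl
  refine (descentTop F).transitive
    (S := Sieve.generate (Presieve.singleton ((ofScheme S).map f')))
    (generate_singleton_mem_descentTop hp _ (isProperMor_yonMap f' hf)
      (surjective_map_yonMap f' hfs)) _ ?_
  rintro W _ ⟨_, m', _, ⟨⟩, rfl⟩
  rw [Sieve.pullback_comp]
  refine (descentTop F).pullback_stable m' (spacesTop_le_descentTop he _ (sieve_mem_spacesTop _ fun x => ?_))
  obtain ⟨j, y, hy⟩ := hcov x
  have := hι j
  let c : Over.mk (G.f j ≫ T.hom) ⟶ P' := Over.homMk (ι j) (by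
    show ι j ≫ f ≫ T.hom = G.f j ≫ T.hom
    rw [reassoc_of% hfac j])
  refine ⟨Over.mk (G.f j ≫ T.hom), c, inferInstanceAs (Etale (ι j)), ⟨y, hy⟩, ?_⟩
  obtain ⟨Y, g, hg, l, hl⟩ := hl j
  refine ⟨Y, schArrow l, g, hg, ?_⟩
  ext : 1
  refine hl.trans ?_
  change _ = ((yon S).map _ ≫ (yon S).map f') ≫ t
  rw [← Functor.map_comp]
  congr 2
  exact Over.OverMorphism.ext (hfac j).symm

theorem isSheaf_phOver_of_etale_of_proper
    (he : Presieve.IsSheaf (spacesTopOver (@IsEtaleMor S) X) F) (hp : ProperDescent F) :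
    Presieve.IsSheaf (phSpacesTopOver X) F := by
  have hle : phSpacesTop S ≤ descentTop F := by
    rw [phSpacesTop, Precoverage.toGrothendieck_le_iff_le_toPrecoverage]
    intro Z R hR
    rw [GrothendieckTopology.mem_toPrecoverage_iff]
    exact generate_mem_descentTop he hp hR
  intro V R hR
  have h := descentTop_mem (hle _ hR) (𝟙 V.left) V.hom
  rw [Sieve.pullback_id] at h
  have e : (Sieve.overEquiv V).symm (Sieve.overEquiv V R) = R := OrderIso.symm_apply_apply _ _
  replace h : R ∈ Sheaf.finestTopologySingle F V := e ▸ h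
  have h' := h V (𝟙 V)
  rwa [Sieve.pullback_id] at h'

theorem properDescent_of_isSheaf (h : Presieve.IsSheaf (phSpacesTopOver X) F) : ProperDescent F := by
  intro U V W f p q hf hs sq t ht
  have hmem : Sieve.generate (Presieve.singleton f) ∈ phSpacesTopOver X U := by
    rw [GrothendieckTopology.mem_over_iff]
    refine GrothendieckTopology.superset_covering _ ?_
      (generate_singleton_mem_phSpacesTop f.left hf hs)
    rw [Sieve.generate_le_iff]
    rintro _ _ ⟨⟩
    exact (Sieve.overEquiv_iff _ _).2 ⟨V, Over.homMk (𝟙 V.left) (by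
      show 𝟙 V.left ≫ V.hom = f.left ≫ U.hom
      rw [Category.id_comp, Over.w f]), f, ⟨⟩, Over.OverMorphism.ext (Category.id_comp _)⟩
  refine (Presieve.isSheafFor_singleton.1 ((Presieve.isSheafFor_iff_generate _).2 (h _ hmem))) t
    fun {Z} p₁ p₂ e => ?_
  have hw : p₁.left.hom ≫ f.left.hom = p₂.left.hom ≫ f.left.hom :=
    congrArg (fun r => r.left.hom) e
  let l₀ : Z.left ⟶ W.left := ObjectProperty.homMk (sq.lift p₁.left.hom p₂.left.hom hw)
  have h1 : l₀ ≫ p.left = p₁.left := ObjectProperty.hom_ext _ (sq.lift_fst _ _ _)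
  have h2 : l₀ ≫ q.left = p₂.left := ObjectProperty.hom_ext _ (sq.lift_snd _ _ _)
  let l : Z ⟶ W := Over.homMk l₀ (by rw [← Over.w p, reassoc_of% h1]; exact Over.w p₁)
  rw [show p₁ = l ≫ p from (Over.OverMorphism.ext h1).symm,
    show p₂ = l ≫ q from (Over.OverMorphism.ext h2).symm, op_comp, op_comp, Functor.map_comp,
    Functor.map_comp, ConcreteCategory.comp_apply, ConcreteCategory.comp_apply, ht]

end Groth.Agent.AlgSpCov
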