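import Groth.Agent.AlgSpCov.AffineDescent
import Groth.Agent.AlgSp.DescentQAffine

/-!
# fpqc descent of quasi-affine schemes among algebraic spaces
-/

universe u

open CategoryTheory CategoryTheory.Limits AlgebraicGeometry Opposite
open scoped TensorProduct

set_option backward.isDefEq.respectTransparency.types false

namespace Groth.Agent.AlgSpCov

open _root_.AlgSp
open Groth.Agent.AlgSp (exists_hull_baseChange exists_theta theta_unit theta_cocycle exists_descended specMap_algHom_comp)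

variable {S : Scheme.{u}}

/-- fpqc descent of a quasi-affine scheme presented by its hull. -/
theorem exists_iso_of_hull_fpqc {A A' B' : Type u} [CommRing A] [CommRing A'] [CommRing B'] [Algebra A A']
    [Algebra A B'] [Algebra A' B'] [IsScalarTower A A' B'] {U V W : Over S} (p : V ⟶ U) [Flat p.left]
    [Surjective p.left] [QuasiCompact p.left] [QuasiSeparated p.left]
    (iU : U.left ≅ Spec (CommRingCat.of A)) (iV : V.left ≅ Spec (CommRingCat.of A'))
    (hp : iV.hom ≫ Spec.map (CommRingCat.ofHom (algebraMap A A')) = p.left ≫ iU.hom)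
    {F : AlgSp.Sp S} (hF : AlgSp.IsAlgSpace F) (a : F ⟶ (AlgSp.yon S).obj U) (π : (AlgSp.yon S).obj W ⟶ F) (w : W ⟶ V)
    (sq : IsPullback π ((AlgSp.yon S).map w) a ((AlgSp.yon S).map p))
    [CompactSpace W.left] [QuasiSeparatedSpace W.left]
    (j : W.left ⟶ Spec (CommRingCat.of B')) [IsIso j.appTop] [IsOpenImmersion j]
    (hj : j ≫ Spec.map (CommRingCat.ofHom (algebraMap A' B')) = w.left ≫ iV.hom) :
    ∃ W₀ : Over S, W₀.left.IsQuasiAffine ∧ Nonempty ((AlgSp.yon S).obj W₀ ≅ F) := by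
  let pA := Spec.map (CommRingCat.ofHom (algebraMap A A'))
  have hjA : j ≫ Spec.map (CommRingCat.ofHom (algebraMap A B')) = (w ≫ p).left ≫ iU.hom := by
    rw [IsScalarTower.algebraMap_eq A A' B', CommRingCat.ofHom_comp, Spec.map_comp, reassoc_of% hj,
      Over.comp_left, Category.assoc, ← hp]
  have : Module.Flat A A' := by
    have : Flat pA := by
      rw [← MorphismProperty.cancel_left_of_respectsIso @Flat iV.hom, hp,
        MorphismProperty.cancel_right_of_respectsIso @Flat]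
      infer_instance
    rw [HasRingHomProperty.Spec_iff (P := @Flat)] at this
    exact RingHom.flat_algebraMap_iff.1 this
  have h2 := IsPullback.of_hasPullback p (w ≫ p)
  generalize pullback.fst p (w ≫ p) = v, pullback.snd p (w ≫ p) = s at h2
  revert v s
  generalize pullback p (w ≫ p) = X
  intro v s h2
  obtain ⟨c2, hL, hR, hc2i⟩ := exists_hull_baseChange iU iV hp (w ≫ p) j hjA h2
  have h2' : ((AlgSp.yon S).map s ≫ π) ≫ a = (AlgSp.yon S).map v ≫ (AlgSp.yon S).map p := by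
    rw [Category.assoc, sq.w, ← Functor.map_comp, ← Functor.map_comp, ← Functor.map_comp, h2.w]
  obtain ⟨t, ht⟩ := (AlgSp.yon S).map_surjective (sq.lift _ _ h2')
  have htπ : (AlgSp.yon S).map t ≫ π = (AlgSp.yon S).map s ≫ π := by rw [ht, sq.lift_fst]
  have htw : t ≫ w = v := (AlgSp.yon S).map_injective (by rw [Functor.map_comp, ht, sq.lift_snd])
  obtain ⟨θ, hθ, htb⟩ := exists_theta iV j hj c2 hL (t := t) htw
  obtain ⟨d, hdv, hds⟩ := h2.exists_lift w (𝟙 W) (by simp)
  have hdt : d ≫ t = 𝟙 W := (AlgSp.yon S).map_injective (sq.hom_ext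
    (by rw [Functor.map_comp, Category.assoc, htπ, ← Category.assoc, ← Functor.map_comp, hds])
    (by rw [← Functor.map_comp, Category.assoc, htw, hdv, ← Functor.map_comp, Category.id_comp]))
  have hunit := theta_unit iV j hj c2 hL hR θ htb d hdv hds hdt
  have hcocycle : (Algebra.TensorProduct.map (AlgHom.id A A') θ).comp θ =
      (Algebra.TensorProduct.map (AlgHom.id A A') Algebra.TensorProduct.includeRight).comp θ := by
    have : QuasiCompact s.left := MorphismProperty.of_isPullback (h2.map (Over.forget S))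
      (inferInstanceAs (QuasiCompact p.left))
    have : QuasiSeparated s.left := MorphismProperty.of_isPullback (h2.map (Over.forget S))
      (inferInstanceAs (QuasiSeparated p.left))
    have : CompactSpace X.left := QuasiCompact.compactSpace_of_compactSpace s.left
    have : QuasiSeparatedSpace X.left := quasiSeparatedSpace_of_quasiSeparated s.left
    have hc2A : c2 ≫ Spec.map (CommRingCat.ofHom (algebraMap A (A' ⊗[A] B'))) = (v ≫ p).left ≫ iU.hom := by
      rw [← specMap_algHom_comp (Algebra.TensorProduct.includeLeft (S := A) (A := A') (B := B'))]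
      change c2 ≫ Spec.map (CommRingCat.ofHom Algebra.TensorProduct.includeLeftRingHom) ≫ pA = _
      rw [reassoc_of% hL, hp, Over.comp_left, Category.assoc]
    obtain ⟨c3, h3L, h3R, hc3i⟩ := exists_hull_baseChange iU iV hp (v ≫ p) c2 hc2A
      (IsPullback.of_hasPullback p (v ≫ p))
    obtain ⟨g1, hg1v, hg1s⟩ := h2.exists_lift (pullback.fst p (v ≫ p)) (pullback.snd p (v ≫ p) ≫ t)
      (by rw [Category.assoc, reassoc_of% htw, pullback.condition])
    obtain ⟨g2, hg2v, hg2s⟩ := h2.exists_lift (pullback.fst p (v ≫ p)) (pullback.snd p (v ≫ p) ≫ s)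
      (by rw [Category.assoc, ← h2.w, pullback.condition])
    refine theta_cocycle iV j c2 hL hR θ htb c3 h3L h3R hg1v hg1s hg2v hg2s ?_
    refine (AlgSp.yon S).map_injective (sq.hom_ext ?_ ?_)
    · simp only [Functor.map_comp, Category.assoc, htπ]
      rw [← Functor.map_comp_assoc, ← Functor.map_comp_assoc, hg1s, hg2s, Functor.map_comp_assoc,
        Functor.map_comp_assoc, htπ]
    · rw [← Functor.map_comp, ← Functor.map_comp, Category.assoc, Category.assoc, htw, hg1v, hg2v]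
  obtain ⟨B, hB, hBeq⟩ := exists_descended θ hθ (AlgHom.congr_fun hunit) (AlgHom.congr_fun hcocycle)
  let H₀ : Over S := Over.mk (Spec.map (CommRingCat.ofHom (algebraMap A B)) ≫ iU.inv ≫ U.hom)
  let H : Over S := Over.mk (Spec.map (CommRingCat.ofHom B.val.toRingHom) ≫ H₀.hom)
  let qH : H ⟶ H₀ := Over.homMk (Spec.map (CommRingCat.ofHom B.val.toRingHom)) rfl
  let u₀ : H₀ ⟶ U := Over.homMk (Spec.map (CommRingCat.ofHom (algebraMap A B)) ≫ iU.inv)
    (Category.assoc _ _ _)
  have hB' : IsPullback (Spec.map (CommRingCat.ofHom (algebraMap A' B')) ≫ iV.inv) qH.left p.left u₀.left :=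
    IsPullback.of_iso hB (Iso.refl _) iV.symm (Iso.refl _) iU.symm (by simp) (by simp [qH])
      (by rw [Iso.symm_hom, Iso.symm_hom, Iso.comp_inv_eq, Category.assoc, ← hp, Iso.inv_hom_id_assoc])
      (by simp [u₀])
  let wH : H ⟶ V := Over.homMk (Spec.map (CommRingCat.ofHom (algebraMap A' B')) ≫ iV.inv) (by
    change _ = qH.left ≫ H₀.hom
    rw [← Over.w p, ← Over.w u₀, ← reassoc_of% hB'.w, Category.assoc])
  have hsqH : IsPullback wH qH p u₀ := IsPullback.of_map (Over.forget S) (Over.OverMorphism.ext hB'.w) hB'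
  let jH : W ⟶ H := Over.homMk j (by
    rw [← Over.w wH]
    change j ≫ (Spec.map _ ≫ iV.inv) ≫ V.hom = W.hom
    rw [Category.assoc, reassoc_of% hj, Iso.hom_inv_id_assoc, Over.w w])
  have hjw : jH ≫ wH = w := by
    ext
    change j ≫ (Spec.map _ ≫ iV.inv) = w.left
    rw [← Category.assoc, hj, Category.assoc, Iso.hom_inv_id, Category.comp_id]
  have htq : t ≫ jH ≫ qH = s ≫ jH ≫ qH := by
    ext
    change t.left ≫ j ≫ qH.left = s.left ≫ j ≫ qH.left
    rw [← reassoc_of% htb, ← reassoc_of% hR]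
    exact congrArg (c2 ≫ ·) hBeq
  have hqHf : Flat qH.left := MorphismProperty.of_isPullback hB' (inferInstanceAs (Flat p.left))
  have hqHs : Surjective qH.left := MorphismProperty.of_isPullback hB' (inferInstanceAs (Surjective p.left))
  have : IsAffineHom qH.left := inferInstanceAs (IsAffineHom (Spec.map _))
  obtain ⟨⟨φ, hφ⟩, -⟩ := exists_desc_fpqc p a π w sq (jH ≫ qH) fun Z z₁ z₂ hz => by
    have h12 : (z₁ ≫ w) ≫ p = z₂ ≫ w ≫ p := (AlgSp.yon S).map_injective (by
      simp only [Functor.map_comp, Category.assoc, ← sq.w, reassoc_of% hz])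
    obtain ⟨m, hm₁, hm₂⟩ := h2.exists_lift (z₁ ≫ w) z₂ h12
    have hmt : m ≫ t = z₁ := (AlgSp.yon S).map_injective (sq.hom_ext
      (by rw [Functor.map_comp, Category.assoc, htπ, ← Functor.map_comp_assoc, hm₂, hz])
      (by rw [← Functor.map_comp, Category.assoc, htw, hm₁, ← Functor.map_comp]))
    rw [← hmt, ← hm₂, Category.assoc, Category.assoc, htq]
  obtain ⟨-, huniq⟩ := exists_desc_fpqc p a π w sq (w ≫ p) fun Z z₁ z₂ h => (AlgSp.yon S).map_injective (by
    simp only [Functor.map_comp, ← sq.w, reassoc_of% h])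
  have hφa : φ ≫ (AlgSp.yon S).map u₀ = a := by
    refine huniq _ _ ?_
    rw [reassoc_of% hφ, sq.w, ← Functor.map_comp, ← Functor.map_comp, Category.assoc,
      ← hsqH.w, ← hjw, Category.assoc]
  have sqφ : IsPullback π ((AlgSp.yon S).map jH) φ ((AlgSp.yon S).map qH) := by
    refine (IsPullback.of_right ?_ ?_ (hsqH.map (AlgSp.yon S)).flip.flip).flip
    · rw [← Functor.map_comp, hjw, hφa]
      exact sq.flip
    · rw [← Functor.map_comp, hφ]
  have hopen := repWith_isOpenImmersion_of_fpqc (Yi := fun _ : PUnit.{u + 1} => (AlgSp.yon S).obj H)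
    (g := fun _ => (AlgSp.yon S).map qH) (IsAlgSpace.yon_obj H₀) (fun _ => IsAlgSpace.yon_obj H)
    (isFpqcCover_yon qH) hF (Xi := fun _ : PUnit.{u + 1} => (AlgSp.yon S).obj W)
    (fun _ => IsAlgSpace.yon_obj W) (fun _ => sqφ)
    (fun _ => (AlgSp.repWith_yon_map_iff _ jH).2 (inferInstanceAs (IsOpenImmersion j)))
  obtain ⟨W₀, w₀, fst, sW⟩ := hopen.1 (𝟙 _)
  have : IsIso fst := by
    rw [← sW.isoIsPullback_hom_fst _ _ (IsPullback.of_horiz_isIso
      (show CommSq (𝟙 _) φ φ (𝟙 _) from ⟨by simp⟩))]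
    infer_instance
  refine ⟨W₀, ?_, ⟨asIso fst⟩⟩
  have : IsOpenImmersion w₀.left := hopen.2 _ _ _ sW
  obtain ⟨q, hq⟩ := (AlgSp.yon S).map_surjective (π ≫ inv fst)
  have hqs : Surjective q.left := by
    rw [← AlgSp.repWith_yon_map_iff @Surjective, hq, MorphismProperty.cancel_right_of_respectsIso (AlgSp.RepWith _)]
    exact MorphismProperty.of_isPullback sq.flip ((AlgSp.repWith_yon_map_iff @Surjective p).2 inferInstance)
  have : CompactSpace W₀.left := ⟨by
    rw [← Set.image_univ_of_surjective hqs.surj]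
    exact isCompact_univ.image q.left.continuous⟩
  have : IsAffine H₀.left := inferInstanceAs (IsAffine (Spec _))
  exact Scheme.IsQuasiAffine.of_isImmersion w₀.left

/-- fpqc descent of quasi-affine schemes. -/
theorem exists_iso_of_fpqc_quasiAffine {U V W : Over S} [IsAffine U.left] [IsAffine V.left]
    [W.left.IsQuasiAffine] (p : V ⟶ U) [Flat p.left] [Surjective p.left]
    {F : AlgSp.Sp S} (hF : AlgSp.IsAlgSpace F) (a : F ⟶ (AlgSp.yon S).obj U) (π : (AlgSp.yon S).obj W ⟶ F) (w : W ⟶ V)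
    (sq : IsPullback π ((AlgSp.yon S).map w) a ((AlgSp.yon S).map p)) :
    ∃ W₀ : Over S, W₀.left.IsQuasiAffine ∧ Nonempty ((AlgSp.yon S).obj W₀ ≅ F) := by
  let _ : Algebra Γ(U.left, ⊤) Γ(V.left, ⊤) := p.left.appTop.hom.toAlgebra
  let _ : Algebra Γ(V.left, ⊤) Γ(W.left, ⊤) := w.left.appTop.hom.toAlgebra
  let _ : Algebra Γ(U.left, ⊤) Γ(W.left, ⊤) := (w.left.appTop.hom.comp p.left.appTop.hom).toAlgebra
  have : IsScalarTower Γ(U.left, ⊤) Γ(V.left, ⊤) Γ(W.left, ⊤) := IsScalarTower.of_algebraMap_eq fun _ => rfl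
  have : IsIso W.left.toSpecΓ.appTop := by
    rw [Scheme.toSpecΓ_appTop]
    infer_instance
  exact exists_iso_of_hull_fpqc p U.left.isoSpec V.left.isoSpec (Scheme.toSpecΓ_naturality p.left).symm hF a π w sq
    W.left.toSpecΓ (Scheme.toSpecΓ_naturality w.left).symm

/-- A finite disjoint union of quasi-affine schemes is quasi-affine. -/
theorem isQuasiAffine_sigma {κ : Type u} [Finite κ] (X : κ → Scheme.{u}) [∀ i, (X i).IsQuasiAffine] :
    (∐ X).IsQuasiAffine := by
  let T : κ → Scheme.{u} := fun i => Spec Γ(X i, ⊤)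
  let m : (∐ X) ⟶ ∐ T := Sigma.desc fun i => (X i).toSpecΓ ≫ Sigma.ι T i
  have hm : IsOpenImmersion m := isOpenImmersion_sigmaDesc _ _ fun i j hij => Set.disjoint_left.2
    fun x ⟨a, ha⟩ ⟨b, hb⟩ => by
      obtain ⟨r, -, -⟩ := Scheme.exists_preimage_of_isPullback (IsPullback.of_hasPullback (Sigma.ι T i) (Sigma.ι T j))
        ((X i).toSpecΓ a) ((X j).toSpecΓ b) ((ha.trans hb.symm :))
      exact (isEmpty_pullback_sigmaι_of_ne T hij).elim r
  have : CompactSpace ↥(∐ X) := (sigmaMk X).compactSpace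
  exact Scheme.IsQuasiAffine.of_isImmersion m

/-- Quasi-affine morphisms descend along fpqc coverings. -/
theorem isQuasiAffineMor_of_fpqc {ι : Type u} {Y : Sp S} {Yi : ι → Sp S} {g : ∀ i, Yi i ⟶ Y} {X : Sp S} {f : X ⟶ Y}
    {Xi : ι → Sp S} {p : ∀ i, Xi i ⟶ Yi i} {q : ∀ i, Xi i ⟶ X} (hY : IsAlgSpace Y)
    (hg : IsFpqcCover Yi g) (hX : IsAlgSpace X) (sq : ∀ i, IsPullback (q i) (p i) f (g i))
    (hp : ∀ i, IsQuasiAffineMor (p i)) : IsQuasiAffineMor f := by
  intro Z hZ z
  have sZ := IsPullback.of_hasPullback f z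
  obtain ⟨n, Wc, c, hWc, hc, hs, hl⟩ := hg.2 Z hZ z
  let Wu : ULift.{u} (Fin n) → Over S := fun j => Wc j.down
  let Y₀ : ULift.{u} (Fin n) → Scheme.{u} := fun j => (Wu j).left
  let d : (∐ Y₀) ⟶ Z.left := Sigma.desc fun j => (c j.down).left
  have hd : ∀ j, Sigma.ι Y₀ j ≫ d = (c j.down).left := fun j => Sigma.ι_desc _ _
  let V : Over S := Over.mk (d ≫ Z.hom)
  let cV : V ⟶ Z := Over.homMk d rfl
  let e : ∀ j, Wu j ⟶ V := fun j => Over.homMk (Sigma.ι Y₀ j) (by
    change Sigma.ι Y₀ j ≫ d ≫ Z.hom = _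
    rw [reassoc_of% (hd j), Over.w])
  have hec : ∀ j, e j ≫ cV = c j.down := fun j => Over.OverMorphism.ext (hd j)
  have : ∀ j, IsAffine (Y₀ j) := fun j => hWc j.down
  have : IsAffine V.left := inferInstanceAs (IsAffine (∐ Y₀))
  have : Surjective cV.left := ⟨fun x => by
    obtain ⟨j, r, rfl⟩ := hs x
    exact ⟨Sigma.ι Y₀ ⟨j⟩ r, by change d _ = _; rw [← Scheme.Hom.comp_apply, hd]⟩⟩
  have : Flat cV.left := IsZariskiLocalAtSource.sigmaDesc fun j => hc j.down
  have s2 := IsPullback.of_hasPullback (pullback.snd f z) ((yon S).map cV)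
  have hpiece : ∀ j, ∃ (Xc : Over S) (w : Xc ⟶ Wu j)
      (π : (yon S).obj Xc ⟶ pullback (pullback.snd f z) ((yon S).map cV)), Xc.left.IsQuasiAffine ∧
      IsPullback π ((yon S).map w) (pullback.snd _ _) ((yon S).map (e j)) := by
    intro j
    obtain ⟨i, l, hli⟩ := hl j.down
    obtain ⟨Xc, w, r, hr, hXc⟩ := hp i (hWc j.down) l
    have big := hr.paste_horiz (sq i)
    rw [hli, ← hec j, Functor.map_comp, Category.assoc] at big
    have s3 := s2.paste_horiz sZ
    obtain ⟨π, hπ₁, hπ₂⟩ := s3.exists_lift (r ≫ q i) ((yon S).map w ≫ (yon S).map (e j)) (by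
      rw [big.w, Category.assoc])
    exact ⟨Xc, w, π, hXc, IsPullback.of_right (by rw [hπ₁]; exact big) hπ₂ s3⟩
  choose Xc w π hXc hsq using hpiece
  obtain ⟨XV, v, Φ, -, hXV₀, sV⟩ := exists_iso_of_sigma e (fun j => (sigmaOpenCover Y₀).map_prop j)
    (fun x => ⟨_, (sigmaOpenCover Y₀).covers x⟩)
    (fun j k hjk => Set.disjoint_left.2 fun x ⟨r₁, h₁⟩ ⟨r₂, h₂⟩ => by
      obtain ⟨r, -, -⟩ := Scheme.exists_preimage_of_isPullback (IsPullback.of_hasPullback (Sigma.ι Y₀ j) (Sigma.ι Y₀ k))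
        r₁ r₂ (h₁.trans h₂.symm)
      exact (isEmpty_pullback_sigmaι_of_ne Y₀ hjk).elim r)
    (pullback.snd (pullback.snd f z) ((yon S).map cV)) Xc w π hsq
  have := hXV₀ Scheme.IsQuasiAffine (have : ∀ j, (Xc j).left.IsQuasiAffine := hXc; isQuasiAffine_sigma _)
  have s4 := sV.paste_horiz s2
  rw [Category.id_comp] at s4
  obtain ⟨W₀, hW₀, ⟨E⟩⟩ := exists_iso_of_fpqc_quasiAffine cV
    (Groth.Agent.AlgSp.isAlgSpace_pullback hY hX (IsAlgSpace.yon_obj Z) f z) (pullback.snd f z) _ v s4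
  obtain ⟨i₀, hi₀⟩ := (yon S).map_surjective (E.hom ≫ pullback.snd f z)
  exact ⟨W₀, i₀, E.hom ≫ pullback.fst f z, IsPullback.of_iso sZ E.symm (Iso.refl _) (Iso.refl _) (Iso.refl _)
    (by simp) (by simp [hi₀]) (by simp) (by simp), hW₀⟩

end Groth.Agent.AlgSpCov
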