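import Groth.Agent.AlgSpCov.FppfBase
import Groth.Agent.AlgSp.DescentImm
import Mathlib.AlgebraicGeometry.Morphisms.UniversallyOpen

/-!
# fpqc descent of quasi-compact immersions
-/

universe u

open CategoryTheory CategoryTheory.Limits AlgebraicGeometry Opposite Topology

set_option backward.isDefEq.respectTransparency false

namespace Groth.Agent.AlgSpCov

open _root_.AlgSp
open Groth.Agent.AlgSp (openOver openι mem_range_of_eq)

variable {S : Scheme.{u}}

/-- The closure of the image of a quasi-compact space consists of specialisations of points of the image. -/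
theorem exists_specializes_of_mem_closure_range {X Y : Scheme.{u}} [CompactSpace X] [IsAffine Y] (g : X ⟶ Y) {y : Y}
    (hy : y ∈ closure (Set.range g)) : ∃ x, g x ⤳ y := by
  wlog hY : ∃ R, Y = Spec R
  · obtain ⟨x, hx⟩ := this (g ≫ Y.isoSpec.hom) (y := Y.isoSpec.hom y)
      (by
        have := image_closure_subset_closure_image Y.isoSpec.hom.continuous ⟨y, hy, rfl⟩
        rwa [← Set.range_comp] at this) ⟨_, rfl⟩
    refine ⟨x, ?_⟩
    have := hx.map Y.isoSpec.inv.continuous
    have e : ∀ z : Y, Y.isoSpec.inv (Y.isoSpec.hom z) = z := fun z => by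
      rw [← Scheme.Hom.comp_apply, Iso.hom_inv_id]; rfl
    rwa [Scheme.Hom.comp_apply, e, e] at this
  obtain ⟨R, rfl⟩ := hY
  obtain ⟨C, π, hπ⟩ := compactSpace_iff_exists.mp ‹CompactSpace X›
  obtain ⟨φ, hφ⟩ := Spec.homEquiv.symm.surjective (π ≫ g)
  have hr : Set.range g = Set.range (PrimeSpectrum.comap φ.hom) := by
    rw [show (PrimeSpectrum.comap φ.hom : PrimeSpectrum C → PrimeSpectrum R) = g ∘ π from
      congrArg (fun k : Spec C ⟶ Spec R => (k : Spec C → Spec R)) hφ, hπ.range_comp]
  rw [hr, PrimeSpectrum.closure_range_comap] at hy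
  let P : PrimeSpectrum R := y
  obtain ⟨Q, -, hQ, hle⟩ := P.asIdeal.exists_ideal_comap_le_prime (f := φ.hom) (⊥ : Ideal C) hy
  obtain ⟨x, hx⟩ : PrimeSpectrum.comap φ.hom ⟨Q, hQ⟩ ∈ Set.range g := hr ▸ ⟨_, rfl⟩
  exact ⟨x, hx ▸ (PrimeSpectrum.le_iff_specializes ⟨Q.comap φ.hom, inferInstance⟩ P).mp hle⟩

theorem preimage_closure_image {U V : Scheme.{u}} [IsAffine U] (p : V ⟶ U) [Flat p]
    {W : Scheme.{u}} [CompactSpace W] (w : W ⟶ V) (hsat : p ⁻¹' (p '' Set.range w) = Set.range w) :
    p ⁻¹' closure (p '' Set.range w) = closure (Set.range w) := by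
  refine subset_antisymm (fun v hv => ?_) ?_
  · rw [Set.mem_preimage, ← Set.range_comp] at hv
    obtain ⟨x, hx⟩ := exists_specializes_of_mem_closure_range (w ≫ p) hv
    obtain ⟨v', hv', hv''⟩ := Flat.generalizingMap p hx
    have : v' ∈ Set.range w := hsat ▸ ⟨w x, ⟨x, rfl⟩, hv''.symm⟩
    exact hv'.mem_closed isClosed_closure (subset_closure this)
  · nth_rw 1 [← hsat]
    exact p.continuous.closure_preimage_subset _

/-- Quasi-compact immersions satisfy effective descent along surjective flat maps of affine schemes. -/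
theorem repWith_qcImmersion_of_fpqc_affine {U V W : Over S} [IsAffine U.left] [IsAffine V.left] (p : V ⟶ U)
    [Flat p.left] [Surjective p.left] {F : Sp S} (hF : IsAlgSpace F) (a : F ⟶ (yon S).obj U)
    (π : (yon S).obj W ⟶ F) (w : W ⟶ V) (sq : IsPullback π ((yon S).map w) a ((yon S).map p))
    (hw : IsImmersion w.left) (hqc : QuasiCompact w.left) :
    RepWith (@IsImmersion ⊓ @QuasiCompact : MorphismProperty Scheme.{u}) a := by
  have : CompactSpace W.left := QuasiCompact.compactSpace_of_compactSpace w.left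
  let A : Set U.left := p.left '' Set.range w.left
  have hA : p.left ⁻¹' A = Set.range w.left := by
    ext v
    exact ⟨fun ⟨v₀, hv₀, e⟩ => mem_range_of_eq sq hv₀ e, fun hv => ⟨v, hv, rfl⟩⟩
  have hcob : p.left ⁻¹' coborder A = coborder (Set.range w.left) := by
    rw [coborder_eq_union_closure_compl, coborder_eq_union_closure_compl, Set.preimage_union, Set.preimage_compl,
      hA, preimage_closure_image p.left w.left hA]
  let O : U.left.Opens := ⟨coborder A, by
    rw [← (Flat.isQuotientMap_of_surjective p.left).isOpen_preimage, hcob]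
    exact w.left.isLocallyClosed_range.isOpen_coborder⟩
  let OV : V.left.Opens := p.left ⁻¹ᵁ O
  let pO : openOver V OV ⟶ openOver U O := Over.homMk (p.left ∣_ O) (by
    change (p.left ∣_ O) ≫ O.ι ≫ U.hom = OV.ι ≫ V.hom
    rw [morphismRestrict_ι_assoc, Over.w p])
  have sqO : IsPullback pO (openι V OV) (openι U O) p :=
    IsPullback.of_map (Over.forget S) (Over.OverMorphism.ext (morphismRestrict_ι _ _))
      (isPullback_morphismRestrict p.left O)
  let w' : W ⟶ openOver V OV := Over.homMk (IsOpenImmersion.lift OV.ι w.left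
      (fun x hx => (Scheme.Opens.range_ι OV).ge (hcob.ge (subset_coborder hx)))) (by
    change _ ≫ OV.ι ≫ V.hom = W.hom
    rw [IsOpenImmersion.lift_fac_assoc, Over.w w])
  have hw' : w' ≫ openι V OV = w := Over.OverMorphism.ext (IsOpenImmersion.lift_fac _ _ _)
  have : Mono (openι U O) := (Over.forget S).mono_of_mono_map (inferInstanceAs (Mono O.ι))
  have : Mono (openι V OV) := (Over.forget S).mono_of_mono_map (inferInstanceAs (Mono OV.ι))
  have hOV : (OV : Set V.left) = coborder (Set.range w.left) := hcob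
  have hci : IsClosedImmersion w'.left := by
    have : IsPreimmersion (w'.left ≫ OV.ι) := by
      rw [show w'.left ≫ OV.ι = w.left from IsOpenImmersion.lift_fac _ _ _]; infer_instance
    have : IsPreimmersion w'.left := IsPreimmersion.of_comp _ OV.ι
    refine .of_isPreimmersion _ ?_
    have hr : Set.range w'.left = OV.ι ⁻¹' Set.range w.left := by
      rw [show (w.left : W.left → V.left) = OV.ι ∘ w'.left from funext fun x =>
        congr($(IsOpenImmersion.lift_fac OV.ι w.left _) x).symm, Set.range_comp,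
        Set.preimage_image_eq _ OV.ι.injective]
    rw [hr]
    exact isClosed_preimage_val_coborder (s := Set.range w.left) |>.preimage
      (f := fun x : OV.toScheme => (⟨x.1, hOV ▸ x.2⟩ : ↥(coborder (Set.range w.left))))
      (Continuous.subtype_mk continuous_subtype_val _)
  have hwp : w ≫ p = (w' ≫ pO) ≫ openι U O := by rw [Category.assoc, sqO.w, ← Category.assoc, hw']
  obtain ⟨⟨φ, hφ⟩, -⟩ := exists_desc_fpqc p a π w sq (w' ≫ pO) fun Z z₁ z₂ h => by
    rw [← cancel_mono (openι U O)]
    simp only [Category.assoc]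
    rw [show w' ≫ pO ≫ openι U O = w ≫ p by rw [hwp, Category.assoc]]
    exact (yon S).map_injective (by simp only [Functor.map_comp, ← sq.w, reassoc_of% h])
  have hφa : φ ≫ (yon S).map (openι U O) = a := by
    refine (exists_desc_fpqc p a π w sq (w ≫ p) fun Z z₁ z₂ h => (yon S).map_injective (by
      simp only [Functor.map_comp, ← sq.w, reassoc_of% h])).2 _ _ ?_
    rw [reassoc_of% hφ, sq.w, ← Functor.map_comp, ← Functor.map_comp, hwp]
  have s' : IsPullback π ((yon S).map w') φ ((yon S).map pO) := by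
    refine IsPullback.of_isLimit' ⟨by rw [hφ, Functor.map_comp]⟩ (PullbackCone.IsLimit.mk _ (fun c => sq.lift c.fst
      (c.snd ≫ (yon S).map (openι V OV)) ?_) (fun c => sq.lift_fst ..) (fun c => ?_) (fun c m h1 h2 => ?_))
    · rw [← hφa, reassoc_of% c.condition, Category.assoc, ← Functor.map_comp, ← Functor.map_comp, sqO.w]
    · apply (cancel_mono ((yon S).map (openι V OV))).1
      rw [Category.assoc]
      exact (congrArg (_ ≫ ·) (((yon S).map_comp _ _).symm.trans (congrArg _ hw'))).trans (sq.lift_snd ..)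
    · refine sq.hom_ext (h1.trans (sq.lift_fst ..).symm) ?_
      rw [sq.lift_snd, ← hw', Functor.map_comp, reassoc_of% h2]
  have hpO := (sqO.map (Over.forget S)).flip
  have : IsAffineHom pO.left := MorphismProperty.of_isPullback hpO (inferInstance : IsAffineHom p.left)
  have : Flat pO.left := MorphismProperty.of_isPullback hpO ‹Flat p.left›
  have : Surjective pO.left := MorphismProperty.of_isPullback hpO ‹Surjective p.left›
  have := FpqcDesc.descendsAlong_isClosedImmersion.{u}
  have hci' : RepWith @IsClosedImmersion φ := (isLocalOnBase_repWith_of_affine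
      (fun f hf => have : IsClosedImmersion f := hf; inferInstance)
      (fun _ : PUnit.{u + 1} => (yon S).obj (openOver V OV)) (fun _ => (yon S).map pO)
      (IsAlgSpace.yon_obj _) (fun _ => IsAlgSpace.yon_obj _) (isFpqcCover_yon pO) φ hF
      (fun _ => (yon S).obj W) (fun _ => (yon S).map w') (fun _ => π) (fun _ => IsAlgSpace.yon_obj _)
      fun _ => s').2 fun _ => (repWith_yon_map_iff _ w').2 hci
  have himm : RepWith @IsImmersion a := hφa ▸ repWith_comp
    (Groth.Agent.AlgSp.repWith_mono (Q := @IsImmersion)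
      (fun f hf => have : IsClosedImmersion f := hf; inferInstance) hci')
    ((repWith_yon_map_iff _ _).2 (inferInstanceAs (IsImmersion O.ι)))
  have := FpqcDesc.descendsAlong_quasiCompact.{u}
  exact Groth.Agent.AlgSp.repWith_inf himm (repWith_of_fpqc (isFpqcCover_yon p) himm.1
    (fun _ : PUnit.{u + 1} => sq) fun _ => (repWith_yon_map_iff _ w).2 hqc)

/-- An fpqc covering is refined over an affine scheme by a single surjective flat map of affine schemes, along
which a property holds if it holds along the covering. -/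
theorem exists_affine_baseChange {P : MorphismProperty Scheme.{u}} [P.IsStableUnderBaseChange]
    [IsZariskiLocalAtTarget P] {ι : Type u} {Y : Sp S} {Yi : ι → Sp S} {g : ∀ i, Yi i ⟶ Y} {X : Sp S}
    {f : X ⟶ Y} {Xi : ι → Sp S} {p : ∀ i, Xi i ⟶ Yi i} {q : ∀ i, Xi i ⟶ X} (hg : IsFpqcCover Yi g)
    (sq : ∀ i, IsPullback (q i) (p i) f (g i)) (hp : ∀ i, RepWith P (p i)) {Z : Over S} (hZ : IsAffine Z.left)
    {z : (yon S).obj Z ⟶ Y} {F : Sp S} {fst : F ⟶ X} {snd : F ⟶ (yon S).obj Z} (sF : IsPullback fst snd f z) :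
    ∃ (V : Over S) (cV : V ⟶ Z), IsAffine V.left ∧ Flat cV.left ∧ Surjective cV.left ∧
      RepWith P (pullback.snd snd ((yon S).map cV)) := by
  obtain ⟨n, Wc, c, hWc, hc, hs, hl⟩ := hg.2 Z hZ z
  let Wu : ULift.{u} (Fin n) → Over S := fun j => Wc j.down
  let Y₀ : ULift.{u} (Fin n) → Scheme.{u} := fun j => (Wu j).left
  let d : (∐ Y₀) ⟶ Z.left := Sigma.desc fun j => (c j.down).left
  have hd : ∀ j, Sigma.ι Y₀ j ≫ d = (c j.down).left := fun j => Sigma.ι_desc _ _
  let V : Over S := Over.mk (d ≫ Z.hom)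
  let cV : V ⟶ Z := Over.homMk d rfl
  let e : ∀ j, Wu j ⟶ V := fun j => Over.homMk (Sigma.ι Y₀ j) (by
    change Sigma.ι Y₀ j ≫ d ≫ Z.hom = _
    rw [reassoc_of% (hd j), Over.w])
  have hec : ∀ j, e j ≫ cV = c j.down := fun j => Over.OverMorphism.ext (hd j)
  have : ∀ j, IsAffine (Y₀ j) := fun j => hWc j.down
  refine ⟨V, cV, inferInstanceAs (IsAffine (∐ Y₀)), IsZariskiLocalAtSource.sigmaDesc fun j => hc j.down,
    ⟨fun x => ?_⟩, ?_⟩
  · obtain ⟨j, r, rfl⟩ := hs x
    exact ⟨Sigma.ι Y₀ ⟨j⟩ r, by change d _ = _; rw [← Scheme.Hom.comp_apply, hd]⟩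
  have s2 := IsPullback.of_hasPullback snd ((yon S).map cV)
  refine repWith_of_sigma e (fun k => (sigmaOpenCover Y₀).map_prop k)
    (fun x => ⟨_, (sigmaOpenCover Y₀).covers x⟩) (fun j k h => disjoint_range_sigmaι Y₀ h) _
    (fun k => pullback (pullback.snd snd ((yon S).map cV)) ((yon S).map (e k))) (fun k => pullback.fst _ _)
    (fun k => pullback.snd _ _) (fun k => IsPullback.of_hasPullback _ _) fun k => ?_
  obtain ⟨i, l, hli⟩ := hl k.down
  have big := (IsPullback.of_hasPullback (pullback.snd snd ((yon S).map cV)) ((yon S).map (e k))).paste_horiz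
    (s2.paste_horiz sF)
  rw [← Category.assoc ((yon S).map (e k)), ← Functor.map_comp, hec, ← hli] at big
  obtain ⟨r, hr₁, hr₂⟩ := (sq i).exists_lift _ _ (big.w.trans (Category.assoc _ _ _).symm)
  exact repWith_bc (IsPullback.of_right (by rw [hr₁]; exact big) hr₂ (sq i)) (hp i)

/-- Quasi-compact immersions are fpqc local on the base. -/
theorem isLocalOnBase_qcImmersion :
    IsLocalOnBase (IsFpqcCover (S := S)) (RepWith (@IsImmersion ⊓ @QuasiCompact : MorphismProperty Scheme.{u})) :=
  fun _ _ _ _ hY _ hg _ f hX _ _ _ _ sq => ⟨fun hf i => repWith_bc (sq i) hf, fun hp =>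
    Groth.Agent.AlgSp.repWith_of_affine_baseChange f fun Z hZ z F fst snd sF => by
      obtain ⟨V, cV, hV, hc, hs, h⟩ := exists_affine_baseChange hg sq hp hZ sF
      obtain ⟨W, w, fst', sW⟩ := h.1 (𝟙 _)
      have := h.2 _ _ _ sW
      have s' := sW.paste_horiz (IsPullback.of_hasPullback snd ((yon S).map cV))
      rw [Category.id_comp] at s'
      exact repWith_qcImmersion_of_fpqc_affine cV
        (Groth.Agent.AlgSp.isAlgSpace_of_isPullback' hY hX (IsAlgSpace.yon_obj Z) sF) snd _ w s' this.1 this.2⟩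

end Groth.Agent.AlgSpCov
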