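import Mathlib

/-!
# Dimension of a finite algebra over a finite algebra over a field with bounded fibres
-/

set_option autoImplicit false

universe u

open TensorProduct

namespace Groth.Agent.AlgSpCov.RankRing

theorem exists_span_of_fibres (A : Type u) (M : Type u) [CommRing A] [AddCommGroup M] [Module A M]
    [Finite (MaximalSpectrum A)] [Module.Finite A M] (n : ℕ)
    (h : ∀ P : MaximalSpectrum A, Module.finrank (A ⧸ P.1) ((A ⧸ P.1) ⊗[A] M) ≤ n) :
    ∃ c : Fin n → M, Submodule.span A (Set.range c) = ⊤ := by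
  classical
  have hs : ∀ P : MaximalSpectrum A, ∃ s : Fin n → (A ⧸ P.1) ⊗[A] M,
      Submodule.span (A ⧸ P.1) (Set.range s) = ⊤ := by
    intro P
    let := Ideal.Quotient.field P.1
    let b := Module.finBasis (A ⧸ P.1) ((A ⧸ P.1) ⊗[A] M)
    refine ⟨fun i => if hi : (i : ℕ) < Module.finrank (A ⧸ P.1) ((A ⧸ P.1) ⊗[A] M) then b ⟨i, hi⟩ else 0, ?_⟩
    refine top_le_iff.1 (b.span_eq.symm.le.trans (Submodule.span_mono ?_))
    rintro _ ⟨j, rfl⟩
    exact ⟨⟨j, lt_of_lt_of_le j.2 (h P)⟩, by simp [j.2]⟩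
  choose s hs using hs
  choose c hc using fun i : Fin n => Ideal.pi_tensorProductMk_quotient_surjective M _
    (fun _ _ ne ↦ Ideal.isCoprime_of_isMaximal (MaximalSpectrum.ext_iff.ne.mp ne)) (s · i)
  refine ⟨c, ?_⟩
  let N := Submodule.span A (Set.range c)
  have key : ∀ (P : MaximalSpectrum A) (m : M), ∃ x ∈ N, m - x ∈ P.1 • (⊤ : Submodule A M) := by
    intro P m
    obtain ⟨a, ha⟩ := (Submodule.mem_span_range_iff_exists_fun (A ⧸ P.1)).1
      ((hs P).symm.le (Submodule.mem_top : (1 : A ⧸ P.1) ⊗ₜ[A] m ∈ ⊤))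
    choose r hr using fun i => Ideal.Quotient.mk_surjective (a i)
    refine ⟨∑ i, r i • c i, Submodule.sum_mem _ fun i _ => Submodule.smul_mem _ _
      (Submodule.subset_span ⟨i, rfl⟩), ?_⟩
    have hq : (1 : A ⧸ P.1) ⊗ₜ[A] (m - ∑ i, r i • c i) = 0 := by
      rw [TensorProduct.tmul_sub, TensorProduct.tmul_sum, ← ha, sub_eq_zero]
      refine Finset.sum_congr rfl fun i _ => ?_
      rw [TensorProduct.tmul_smul, ← hr i, show s P i = (1 : A ⧸ P.1) ⊗ₜ[A] c i from
        (congrFun (hc i) P).symm]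
      exact (algebraMap_smul (A ⧸ P.1) (r i) _)
    have := congrArg (quotTensorEquivQuotSMul M P.1) hq
    rw [map_zero, quotTensorEquivQuotSMul_mk_one_tmul, Submodule.Quotient.mk_eq_zero] at this
    exact this
  by_contra hN
  have hne : Module.annihilator A (M ⧸ N) ≠ ⊤ := by
    intro hAnn
    apply hN
    refine top_le_iff.1 fun m _ => ?_
    have := Module.mem_annihilator.1 (hAnn.symm.le (Submodule.mem_top : (1 : A) ∈ ⊤)) (N.mkQ m)
    rw [one_smul] at this
    exact (Submodule.Quotient.mk_eq_zero N).1 this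
  obtain ⟨P, hP, hle⟩ := Ideal.exists_le_maximal _ hne
  have htop : (⊤ : Submodule A (M ⧸ N)) ≤ P • ⊤ := by
    intro q _
    obtain ⟨m, rfl⟩ := N.mkQ_surjective q
    obtain ⟨x, hx, hmx⟩ := key ⟨P, hP⟩ m
    have h0 : N.mkQ x = 0 := (Submodule.Quotient.mk_eq_zero N).2 hx
    rw [show N.mkQ m = N.mkQ (m - x) by rw [map_sub, h0, sub_zero]]
    have := Submodule.mem_map_of_mem (f := N.mkQ) hmx
    rw [Submodule.map_smul''] at this
    exact Submodule.smul_mono le_rfl le_top this
  obtain ⟨r, hr1, hr⟩ := Submodule.exists_sub_one_mem_and_smul_eq_zero_of_fg_of_le_smul P ⊤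
    Module.Finite.fg_top htop
  have : r ∈ P := hle (Module.mem_annihilator.2 fun q => hr q trivial)
  exact hP.ne_top ((Ideal.eq_top_iff_one P).2 (by simpa using P.sub_mem this hr1))

theorem finrank_le_mul (K A B : Type u) [Field K] [CommRing A] [CommRing B] [Algebra K A] [Algebra A B]
    [Algebra K B] [IsScalarTower K A B] [Module.Finite K A] [Module.Finite A B] (n : ℕ)
    (h : ∀ P : MaximalSpectrum A, Module.finrank (A ⧸ P.1) ((A ⧸ P.1) ⊗[A] B) ≤ n) :
    Module.finrank K B ≤ n * Module.finrank K A := by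
  have : IsArtinianRing A := IsArtinianRing.of_finite K A
  obtain ⟨c, hc⟩ := exists_span_of_fibres A B n h
  have hsurj : Function.Surjective (Fintype.linearCombination A c) := by
    rw [← LinearMap.range_eq_top, Fintype.range_linearCombination, hc]
  refine (LinearMap.finrank_le_finrank_of_surjective
    (f := (Fintype.linearCombination A c).restrictScalars K) hsurj).trans ?_
  simp [Module.finrank_pi_fintype]

end Groth.Agent.AlgSpCov.RankRing
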