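import Groth.Agent.AlgSpCov.DegreeStrata
import Groth.Agent.AlgSpCov.RankRing
import Mathlib.AlgebraicGeometry.Artinian

/-!
# Ranks of finite schemes over a field

* `flat_over_field`, `finrank_Spec`, `exists_algebra`: a finite scheme over `K` is `Spec B`;
* `finrank_le_sum`: jointly injective maps on global sections bound the rank;
* `bdd_comp`: a morphism with fibres of rank `≤ n` into a finite scheme of rank `≤ m`.
-/

set_option autoImplicit false
set_option backward.isDefEq.respectTransparency false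

universe u

open CategoryTheory CategoryTheory.Limits AlgebraicGeometry
open scoped TensorProduct

namespace Groth.Agent.AlgSpCov.RankBound

open DegStrata

variable {K : Type u} [Field K]

theorem flat_over_field {P : Scheme.{u}} (π : P ⟶ Spec (CommRingCat.of K)) [IsAffineHom π] : Flat π := by
  have : IsAffine P := isAffine_of_isAffineHom π
  obtain ⟨φ, hφ⟩ := Spec.map_surjective (P.isoSpec.inv ≫ π)
  rw [← MorphismProperty.cancel_left_of_respectsIso @Flat P.isoSpec.inv, ← hφ, Flat.SpecMap_iff]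
  algebraize [φ.hom]
  exact inferInstanceAs (Module.Flat K Γ(P, ⊤))

theorem finrank_Spec (B : Type u) [CommRing B] [Algebra K B] [Module.Finite K B] (v) :
    (Spec.map (CommRingCat.ofHom (algebraMap K B))).finrank v = Module.finrank K B := by
  rw [Scheme.Hom.finrank_SpecMap_algebraMap]
  exact congrFun (Module.rankAtStalk_eq_finrank_of_free) _

theorem exists_algebra {P : Scheme.{u}} (π : P ⟶ Spec (CommRingCat.of K)) [IsFinite π] :
    ∃ (_ : Algebra K Γ(P, ⊤)) (_ : IsAffine P), Module.Finite K Γ(P, ⊤) ∧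
      P.isoSpec.inv ≫ π = Spec.map (CommRingCat.ofHom (algebraMap K Γ(P, ⊤))) ∧
      ∀ v, π.finrank v = Module.finrank K Γ(P, ⊤) := by
  have hA : IsAffine P := isAffine_of_isAffineHom π
  obtain ⟨φ, hφ⟩ := Spec.map_surjective (P.isoSpec.inv ≫ π)
  have : Flat π := flat_over_field π
  have : IsFinite (Spec.map φ) := hφ ▸ inferInstance
  have hfin : φ.hom.Finite := IsFinite.SpecMap_iff φ |>.mp inferInstance
  letI := φ.hom.toAlgebra
  have : Module.Finite K Γ(P, ⊤) := hfin
  refine ⟨inferInstance, hA, this, hφ.symm, fun v => ?_⟩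
  rw [← Scheme.Hom.finrank_comp_left_of_isIso P.isoSpec.inv π, ← hφ]
  exact finrank_Spec Γ(P, ⊤) v

theorem appTop_algebraMap {P Q : Scheme.{u}} [IsAffine P] [IsAffine Q] (h : Q ⟶ P) {π : P ⟶ Spec (CommRingCat.of K)}
    {ρ : Q ⟶ Spec (CommRingCat.of K)} [Algebra K Γ(P, ⊤)] [Algebra K Γ(Q, ⊤)]
    (hP : P.isoSpec.inv ≫ π = Spec.map (CommRingCat.ofHom (algebraMap K Γ(P, ⊤))))
    (hQ : Q.isoSpec.inv ≫ ρ = Spec.map (CommRingCat.ofHom (algebraMap K Γ(Q, ⊤))))
    (e : h ≫ π = ρ) (a : K) :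
    h.appTop (algebraMap K Γ(P, ⊤) a) = algebraMap K Γ(Q, ⊤) a := by
  have : CommRingCat.ofHom (algebraMap K Γ(Q, ⊤)) =
      CommRingCat.ofHom (algebraMap K Γ(P, ⊤)) ≫ h.appTop := by
    apply Spec.map_injective
    rw [Spec.map_comp, ← hQ, ← hP, ← e, Scheme.isoSpec_inv_naturality_assoc]
  exact (DFunLike.congr_fun (congrArg CommRingCat.Hom.hom this) a).symm

theorem finrank_le_sum {P : Scheme.{u}} (π : P ⟶ Spec (CommRingCat.of K)) [IsFinite π] {ι : Type*} [Fintype ι]
    (Q : ι → Scheme.{u}) (h : ∀ k, Q k ⟶ P) [∀ k, IsFinite (h k ≫ π)] (n : ι → ℕ)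
    (hn : ∀ k v, (h k ≫ π).finrank v ≤ n k)
    (hinj : ∀ s : Γ(P, ⊤), (∀ k, (h k).appTop s = 0) → s = 0) (v) :
    π.finrank v ≤ ∑ k, n k := by
  obtain ⟨aP, hA, hfP, eP, hr⟩ := exists_algebra π
  choose aQ hAQ hfQ eQ hrQ using fun k => exists_algebra (h k ≫ π)
  let L : ∀ k, Γ(P, ⊤) →ₐ[K] Γ(Q k, ⊤) := fun k =>
    { (h k).appTop.hom with commutes' := fun a => appTop_algebraMap (h k) eP (eQ k) rfl a }
  let M : Γ(P, ⊤) →ₗ[K] ∀ k, Γ(Q k, ⊤) := LinearMap.pi fun k => (L k).toLinearMap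
  have hM : Function.Injective M := by
    rw [injective_iff_map_eq_zero]
    exact fun s hs => hinj s fun k => congrFun hs k
  rw [hr v]
  refine (LinearMap.finrank_le_finrank_of_injective hM).trans ?_
  rw [Module.finrank_pi_fintype]
  exact Finset.sum_le_sum fun k _ => (hrQ k v).symm.trans_le (hn k v)

/-- A finite cover by opens which are finite over `K`. -/
theorem bdd_of_cover {P : Scheme.{u}} (π : P ⟶ Spec (CommRingCat.of K)) {ι : Type u} [Fintype ι]
    (U : ι → P.Opens) (hU : ⨆ k, U k = ⊤) (n : ι → ℕ)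
    (h : ∀ k, IsFinite ((U k).ι ≫ π) ∧ ∀ v, ((U k).ι ≫ π).finrank v ≤ n k) :
    IsFinite π ∧ ∀ v, π.finrank v ≤ ∑ k, n k := by
  have := fun k => (h k).1
  have hc : ∀ k, CompactSpace (U k).toScheme := fun k => QuasiCompact.compactSpace_of_compactSpace ((U k).ι ≫ π)
  have : CompactSpace P := by
    refine ⟨?_⟩
    rw [show (Set.univ : Set P) = ⋃ k, (U k : Set P) by rw [← TopologicalSpace.Opens.coe_iSup, hU]; rfl]
    exact isCompact_iUnion fun k => isCompact_iff_compactSpace.2 (hc k)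
  have : LocallyQuasiFinite π :=
    (IsZariskiLocalAtSource.iff_of_openCover (P.openCoverOfIsOpenCover U (.mk hU))).2
      fun k => inferInstanceAs (LocallyQuasiFinite ((U k).ι ≫ π))
  have : QuasiCompact π := (quasiCompact_iff_compactSpace π).2 inferInstance
  have : IsFinite π := .of_locallyQuasiFinite π
  refine ⟨this, finrank_le_sum π (fun k => (U k).toScheme) (fun k => (U k).ι) n (fun k => (h k).2) fun s hs => ?_⟩
  refine P.sheaf.eq_of_locally_eq' U ⊤ (fun k => homOfLE le_top) hU.ge s 0 fun k => ?_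
  rw [map_zero]
  have e := hs k
  rw [Scheme.Opens.ι_appTop] at e
  apply (P.presheaf.mapIso (eqToIso (congrArg Opposite.op (U k).ι_image_top)).symm).commRingCatIsoToRingEquiv.injective
  rw [map_zero]
  refine Eq.trans ?_ e
  change (P.presheaf.map _ ≫ P.presheaf.map _) s = P.presheaf.map _ s
  rw [← P.presheaf.map_comp]
  rfl

/-- A morphism with fibres of rank at most `n` into a finite scheme of rank at most `m`. -/
theorem bdd_comp {P Q : Scheme.{u}} {f : P ⟶ Q} {π : Q ⟶ Spec (CommRingCat.of K)} [IsFinite π] {m n : ℕ}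
    (hπ : ∀ v, π.finrank v ≤ m) (hf : Bdd n f) :
    IsFinite (f ≫ π) ∧ ∀ v, (f ≫ π).finrank v ≤ n * m := by
  have hfib : ∀ t : Q, IsFinite (f.fiberToSpecResidueField t) := fun t =>
    (hf (Q.residueField t) (Q.fromSpecResidueField t)).1
  have : LocallyQuasiFinite f := LocallyQuasiFinite.of_fiberToSpecResidueField f fun t =>
    have := hfib t; inferInstance
  have : IsLocallyArtinian Q := IsLocallyArtinian.of_locallyQuasiFinite π
  have : CompactSpace Q := QuasiCompact.compactSpace_of_compactSpace π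
  have : Finite Q := finite_of_compact_of_discrete
  have : CompactSpace P := by
    refine ⟨?_⟩
    rw [show (Set.univ : Set P) = ⋃ t : Q, f ⁻¹' {t} by ext; simp]
    refine isCompact_iUnion fun t => ?_
    have := hfib t
    have : CompactSpace (f.fiber t) := QuasiCompact.compactSpace_of_compactSpace (f.fiberToSpecResidueField t)
    rw [← Scheme.Hom.range_fiberι]
    exact isCompact_range (f.fiberι t).continuous
  have : QuasiCompact (f ≫ π) := (quasiCompact_iff_compactSpace _).2 inferInstance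
  have hfin : IsFinite (f ≫ π) := .of_locallyQuasiFinite _
  refine ⟨hfin, fun v => ?_⟩
  obtain ⟨aQ, hAQ, hfQ, eQ, hrQ⟩ := exists_algebra π
  obtain ⟨aP, hAP, hfP, eP, hrP⟩ := exists_algebra (f ≫ π)
  letI : Algebra Γ(Q, ⊤) Γ(P, ⊤) := f.appTop.hom.toAlgebra
  have : IsScalarTower K Γ(Q, ⊤) Γ(P, ⊤) := IsScalarTower.of_algebraMap_eq fun a =>
    (appTop_algebraMap f eQ eP rfl a).symm
  have : Module.Finite Γ(Q, ⊤) Γ(P, ⊤) := Module.Finite.of_restrictScalars_finite K _ _
  rw [hrP v]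
  refine (RankRing.finrank_le_mul K Γ(Q, ⊤) Γ(P, ⊤) n fun M => ?_).trans
    (Nat.mul_le_mul_left n ((hrQ v).symm.trans_le (hπ v)))
  letI := Ideal.Quotient.field M.1
  let A := Γ(Q, ⊤)
  let B := Γ(P, ⊤)
  let g : Spec (CommRingCat.of (↑A ⧸ M.1)) ⟶ Q :=
    Spec.map (CommRingCat.ofHom (algebraMap ↑A (↑A ⧸ M.1))) ≫ Q.isoSpec.inv
  have sq : IsPullback P.isoSpec.hom f (Spec.map (CommRingCat.ofHom (algebraMap ↑A ↑B))) Q.isoSpec.hom :=
    IsPullback.of_horiz_isIso ⟨by exact Scheme.isoSpec_hom_naturality f⟩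
  have sq' := (IsPullback.of_hasPullback f g).paste_horiz sq
  have hg : g ≫ Q.isoSpec.hom = Spec.map (CommRingCat.ofHom (algebraMap ↑A (↑A ⧸ M.1))) := by simp [g]
  rw [hg] at sq'
  let e := sq'.flip.isoPullback ≪≫ pullbackSpecIso ↑A (↑A ⧸ M.1) ↑B
  have he : e.hom ≫ Spec.map (CommRingCat.ofHom (algebraMap (↑A ⧸ M.1) ((↑A ⧸ M.1) ⊗[↑A] ↑B))) =
      pullback.snd f g := by
    simp only [e, Iso.trans_hom, Category.assoc]
    rw [pullbackSpecIso_hom_fst']
    exact sq'.flip.isoPullback_hom_fst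
  obtain ⟨hF, hle⟩ := hf _ g
  have : Module.Finite (↑A ⧸ M.1) ((↑A ⧸ M.1) ⊗[↑A] ↑B) := inferInstance
  have hflat := flat_over_field (Spec.map (CommRingCat.ofHom (algebraMap (↑A ⧸ M.1) ((↑A ⧸ M.1) ⊗[↑A] ↑B))))
  have : IsFinite (Spec.map (CommRingCat.ofHom (algebraMap (↑A ⧸ M.1) ((↑A ⧸ M.1) ⊗[↑A] ↑B)))) :=
    (IsFinite.SpecMap_iff _).2 (RingHom.finite_algebraMap.2 ‹_›)
  have := hle (IsLocalRing.closedPoint (↑A ⧸ M.1))
  rw [← he, Scheme.Hom.finrank_comp_left_of_isIso, finrank_Spec] at this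
  exact this

end Groth.Agent.AlgSpCov.RankBound
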