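import Groth.Agent.AlgSpCov.FppfBase

/-!
# Sheaves over a disjoint union of schemes are coproducts
-/

universe u

open CategoryTheory CategoryTheory.Limits AlgebraicGeometry Opposite

set_option backward.isDefEq.respectTransparency false

namespace Groth.Agent.AlgSpCov

open _root_.AlgSp
open Groth.Agent.AlgSp (yEquiv yEquiv_comp yEquiv_map hom_ext_yon)

variable {S : Scheme.{u}}

/-- A sheaf over a disjoint union of schemes is the coproduct of its restrictions to the pieces. -/
theorem exists_isColimit_of_sigma {κ : Type u} {V : Over S} {Wc : κ → Over S} (e : ∀ j, Wc j ⟶ V)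
    (he : ∀ j, IsOpenImmersion (e j).left) (hcov : ∀ v : V.left, ∃ j, v ∈ Set.range (e j).left)
    (hdisj : ∀ j k, j ≠ k → Disjoint (Set.range (e j).left) (Set.range (e k).left))
    {F : Sp S} (a : F ⟶ (yon S).obj V) (Fc : κ → Sp S) (π : ∀ j, Fc j ⟶ F)
    (w : ∀ j, Fc j ⟶ (yon S).obj (Wc j)) (sq : ∀ j, IsPullback (π j) (w j) a ((yon S).map (e j))) :
    Nonempty (IsColimit (Cofan.mk F π)) := by
  have hemono : ∀ j, Mono (e j) := fun j =>
    (Over.forget S).mono_of_mono_map (have := he j; inferInstanceAs (Mono (e j).left))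
  have hempty : ∀ {Z : Over S} {G : Sp S}, (∀ z : Z.left, False) → ∀ l l' : (yon S).obj Z ⟶ G, l = l' :=
    fun hz l l' => Groth.Agent.AlgSp.InfGlue.hom_ext_cover (ι := PEmpty.{u + 1}) (U := fun x => x.elim)
      (fun x => x.elim) (fun x => x.elim) (fun t => (hz t).elim) _ _ (fun x => x.elim)
  -- two lifts of one point lie in the same piece
  have hov : ∀ (G : Sp S) (m : ∀ j, Fc j ⟶ G) (j k : κ) (Z : Over S) (u₁ : (yon S).obj Z ⟶ Fc j)
      (u₂ : (yon S).obj Z ⟶ Fc k), u₁ ≫ π j = u₂ ≫ π k → u₁ ≫ m j = u₂ ≫ m k := by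
    intro G m j k Z u₁ u₂ h
    obtain ⟨α, hα⟩ := (yon S).map_surjective (u₁ ≫ w j)
    obtain ⟨β, hβ⟩ := (yon S).map_surjective (u₂ ≫ w k)
    have hab : α ≫ e j = β ≫ e k := (yon S).map_injective (by
      rw [Functor.map_comp, Functor.map_comp, hα, hβ, Category.assoc, Category.assoc, ← (sq j).w, ← (sq k).w,
        reassoc_of% h])
    by_cases hjk : j = k
    · subst hjk
      have := hemono j
      have hab' := (cancel_mono (e j)).1 hab
      rw [(sq j).hom_ext h (by rw [← hα, ← hβ, hab'])]
    · exact hempty (fun z => Set.disjoint_left.1 (hdisj _ _ hjk) ⟨α.left z, rfl⟩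
        ⟨β.left z, ((congrArg (fun k => k.left z) hab).symm :)⟩) _ _
  have hloc : ∀ (T : Over S) (x : (yon S).obj T ⟶ F), ∃ (C : κ → Over S) (t : ∀ j, C j ⟶ T)
      (y : ∀ j, (yon S).obj (C j) ⟶ Fc j), (∀ j, IsOpenImmersion (t j).left) ∧
      (∀ z : T.left, ∃ j, z ∈ Set.range (t j).left) ∧ ∀ j, y j ≫ π j = (yon S).map (t j) ≫ x := by
    intro T x
    obtain ⟨g, hg⟩ := (yon S).map_surjective (x ≫ a)
    have hy : ∀ j, ∃ y : (yon S).obj (pullback g (e j)) ⟶ Fc j, y ≫ π j = (yon S).map (pullback.fst g (e j)) ≫ x :=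
      fun j => by
        obtain ⟨y, hy, -⟩ := (sq j).exists_lift ((yon S).map (pullback.fst g (e j)) ≫ x)
          ((yon S).map (pullback.snd g (e j))) (by
            rw [Category.assoc, ← hg, ← Functor.map_comp, ← Functor.map_comp, pullback.condition])
        exact ⟨y, hy⟩
    choose y hy using hy
    refine ⟨_, fun j => pullback.fst g (e j), y,
      fun j => MorphismProperty.of_isPullback (isPullback_over_left (IsPullback.of_hasPullback g (e j))).flip (he j),
      fun z => ?_, hy⟩
    obtain ⟨j, r, hr⟩ := hcov (g.left z)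
    obtain ⟨s, hs, -⟩ := Scheme.exists_preimage_of_isPullback
      (isPullback_over_left (IsPullback.of_hasPullback g (e j))) z r hr.symm
    exact ⟨j, s, hs⟩
  choose C t y ht htcov hy using hloc
  have hext : ∀ {G : Sp S} (n n' : F ⟶ G), (∀ j, π j ≫ n = π j ≫ n') → n = n' := fun n n' h =>
    hom_ext_yon fun T x => Groth.Agent.AlgSp.InfGlue.hom_ext_cover (t T x)
      (fun j => have := ht T x j; inferInstance) (htcov T x) _ _ fun j => by
        simp only [← Category.assoc, ← hy]
        simp only [Category.assoc, h]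
  have hdesc : ∀ (G : Sp S) (m : ∀ j, Fc j ⟶ G), ∃ n : F ⟶ G, ∀ j, π j ≫ n = m j := by
    intro G m
    have hloc' : ∀ (T : Over S) (x : (yon S).obj T ⟶ F), ∃ n : (yon S).obj T ⟶ G,
        ∀ j, (yon S).map (t T x j) ≫ n = y T x j ≫ m j := fun T x =>
      Groth.Agent.AlgSp.InfGlue.exists_glue (t T x) (fun j => have := ht T x j; inferInstance) (htcov T x)
        (fun j => y T x j ≫ m j) fun j k Z α β hab => by
          rw [← Category.assoc, ← Category.assoc]
          refine hov G m j k Z _ _ ?_
          rw [Category.assoc, Category.assoc, hy, hy, ← Functor.map_comp_assoc, ← Functor.map_comp_assoc, hab]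
    choose n hn using hloc'
    have hchar : ∀ (T : Over S) (x : (yon S).obj T ⟶ F) (j : κ) (Z : Over S) (d : Z ⟶ T)
        (z : (yon S).obj Z ⟶ Fc j), z ≫ π j = (yon S).map d ≫ x → z ≫ m j = (yon S).map d ≫ n T x := by
      intro T x j Z d z hz
      refine Groth.Agent.AlgSp.InfGlue.hom_ext_cover (fun k => pullback.fst d (t T x k)) (fun k => ?_) (fun v => ?_) _ _
        fun k => ?_
      · have := ht T x k
        exact MorphismProperty.of_isPullback
          (isPullback_over_left (IsPullback.of_hasPullback d (t T x k))).flip (inferInstance : Etale (t T x k).left)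
      · obtain ⟨k, r, hr⟩ := htcov T x (d.left v)
        obtain ⟨s, hs, -⟩ := Scheme.exists_preimage_of_isPullback
          (isPullback_over_left (IsPullback.of_hasPullback d (t T x k))) v r hr.symm
        exact ⟨k, s, hs⟩
      · rw [← Functor.map_comp_assoc, pullback.condition, Functor.map_comp, Category.assoc, hn,
          ← Category.assoc, ← Category.assoc]
        refine hov G m j k _ _ _ ?_
        rw [Category.assoc, Category.assoc, hz, hy, ← Functor.map_comp_assoc, ← Functor.map_comp_assoc,
          pullback.condition]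
    let lh : F.obj ⟶ G.obj :=
      { app := fun U => TypeCat.ofHom fun s => yEquiv (n U.unop (yEquiv.symm s))
        naturality := fun U U' g => by
          ext s
          change yEquiv (n U'.unop (yEquiv.symm (F.obj.map g s))) =
            G.obj.map g.unop.op (yEquiv (n U.unop (yEquiv.symm s)))
          rw [← yEquiv_map]
          congr 1
          let x := yEquiv.symm (F.obj.map g s)
          have hs' : x = (yon S).map g.unop ≫ yEquiv.symm s := by
            rw [Equiv.symm_apply_eq, yEquiv_map, Equiv.apply_symm_apply]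
            rfl
          refine Groth.Agent.AlgSp.InfGlue.hom_ext_cover (t U'.unop x)
            (fun j => have := ht U'.unop x j; inferInstance) (htcov _ x) _ _ fun j => ?_
          rw [← Functor.map_comp_assoc, hn, hchar _ (yEquiv.symm s) j _ (t U'.unop x j ≫ g.unop) (y U'.unop x j)]
          rw [hy, Functor.map_comp, Category.assoc, hs'] }
    refine ⟨(⟨lh⟩ : F ⟶ G), fun j => hom_ext_yon fun Z z => ?_⟩
    apply yEquiv.injective
    rw [← Category.assoc, yEquiv_comp]
    change yEquiv (n Z (yEquiv.symm (yEquiv (z ≫ π j)))) = _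
    rw [Equiv.symm_apply_apply]
    congr 1
    simpa using (hchar Z (z ≫ π j) j Z (𝟙 Z) z (by simp)).symm
  choose d hd using hdesc
  exact ⟨mkCofanColimit _ (fun s => d s.pt s.inj) (fun s j => hd s.pt s.inj j)
    (fun s n h => hext _ _ fun j => (h j).trans (hd s.pt s.inj j).symm)⟩

end Groth.Agent.AlgSpCov
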