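import Mathlib.RingTheory.Smooth.Local
import Mathlib.RingTheory.Smooth.Locus
import Mathlib.RingTheory.Filtration
import Mathlib.RingTheory.Artinian.Ring
import Mathlib.RingTheory.Jacobson.Ring
import Mathlib.RingTheory.HopkinsLevitzki

/-!
# Smoothness at a prime from liftings along small Artinian extensions
-/

universe u

open TensorProduct KaehlerDifferential

namespace Groth.Agent.AlgSpCov.SmallExtSmooth

open IsLocalRing

/-- Liftings along surjections of Artinian local rings with principal kernel killed by the maximal ideal, for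
points centred at `q`.  The map to the test ring may be assumed of finite type when `q` is maximal. -/
def SmallLifts {A R : Type u} [CommRing A] [CommRing R] (ψ : A →+* R) (q : Ideal R) : Prop :=
  ∀ (B' B : Type u) [CommRing B'] [CommRing B] [IsLocalRing B'] [IsLocalRing B] [IsArtinianRing B']
    [IsArtinianRing B] (π : B' →+* B), Function.Surjective π →
    (∃ t : B', RingHom.ker π = Ideal.span {t} ∧ ∀ a ∈ maximalIdeal B', a * t = 0) →
    ∀ (χ : A →+* B') (u : R →+* B), u.comp ψ = π.comp χ → (maximalIdeal B).comap u = q →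
      (q.IsMaximal → χ.FiniteType) → ∃ v : R →+* B', v.comp ψ = χ ∧ π.comp v = u

/-- Small liftings give liftings along kernels killed by the maximal ideal. -/
theorem exists_lift_of_smallLifts {A R : Type u} [CommRing A] [CommRing R] {ψ : A →+* R} {q : Ideal R}
    (H : SmallLifts ψ q) {C : Type u} [CommRing C] [IsLocalRing C] [IsArtinianRing C] (J : Ideal C)
    (hJ : J * maximalIdeal C = ⊥) (hJm : J ≤ maximalIdeal C) (χ : A →+* C) (hχ : q.IsMaximal → χ.FiniteType)
    (u : R →+* C ⧸ J) (hu : u.comp ψ = (Ideal.Quotient.mk J).comp χ)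
    (huq : ∀ r c, u r = Ideal.Quotient.mk J c → (r ∈ q ↔ c ∈ maximalIdeal C)) :
    ∃ v : R →+* C, v.comp ψ = χ ∧ (Ideal.Quotient.mk J).comp v = u := by
  classical
  revert u
  induction J using WellFoundedLT.induction with
  | _ J IH =>
    intro u hu huq
    by_cases h0 : J = ⊥
    · subst h0
      let e := RingEquiv.quotientBot C
      refine ⟨e.toRingHom.comp u, ?_, ?_⟩
      · ext a
        change e (u (ψ a)) = χ a
        rw [show u (ψ a) = Ideal.Quotient.mk ⊥ (χ a) from congr($hu a)]
        exact RingEquiv.quotientBot_mk _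
      · ext r
        obtain ⟨c, hc⟩ := Ideal.Quotient.mk_surjective (u r)
        change Ideal.Quotient.mk ⊥ (e (u r)) = u r
        rw [← hc]
        exact congrArg _ (RingEquiv.quotientBot_mk _)
    · obtain ⟨J', hJ'⟩ := exists_maximal_of_wellFoundedGT (fun I => I < J) ⟨⊥, bot_lt_iff_ne_bot.2 h0⟩
      obtain ⟨t, htJ, htJ'⟩ := SetLike.exists_of_lt hJ'.1
      have hspan : J' ⊔ Ideal.span {t} = J := by
        refine le_antisymm (sup_le hJ'.1.le ((Ideal.span_singleton_le_iff_mem _).2 htJ)) ?_
        by_contra hne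
        have hlt : J' ⊔ Ideal.span {t} < J :=
          lt_of_le_not_ge (sup_le hJ'.1.le ((Ideal.span_singleton_le_iff_mem _).2 htJ)) hne
        exact htJ' (hJ'.2 hlt le_sup_left
          ((le_sup_right : _ ≤ J' ⊔ Ideal.span {t}) (Ideal.mem_span_singleton_self t)))
      have : Nontrivial (C ⧸ J') := Ideal.Quotient.nontrivial_iff.2
        (fun h => htJ' (h ▸ Submodule.mem_top))
      have : IsLocalRing (C ⧸ J') := .of_surjective' _ Ideal.Quotient.mk_surjective
      have : Nontrivial (C ⧸ J) := Ideal.Quotient.nontrivial_iff.2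
        (fun h => (maximalIdeal.isMaximal C).ne_top (top_le_iff.1 (h ▸ hJm)))
      have : IsLocalRing (C ⧸ J) := .of_surjective' _ Ideal.Quotient.mk_surjective
      let π := Ideal.Quotient.factor hJ'.1.le
      have hπ : Function.Surjective π := Ideal.Quotient.factor_surjective _
      have hker : RingHom.ker π = Ideal.span {Ideal.Quotient.mk J' t} := by
        have hk1 : RingHom.ker π = J.map (Ideal.Quotient.mk J') := by
          refine le_antisymm (fun x hx => ?_) (Ideal.map_le_iff_le_comap.2 fun c hc => ?_)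
          · obtain ⟨c, rfl⟩ := Ideal.Quotient.mk_surjective x
            exact Ideal.mem_map_of_mem _ (Ideal.Quotient.eq_zero_iff_mem.1 hx)
          · exact Ideal.Quotient.eq_zero_iff_mem.2 hc
        rw [hk1]
        conv_lhs => rw [← hspan]
        rw [Ideal.map_sup, Ideal.map_quotient_self, bot_sup_eq,
          Ideal.map_span, Set.image_singleton]
      have hmax : ∀ (K : Ideal C) [IsLocalRing (C ⧸ K)] (c : C),
          Ideal.Quotient.mk K c ∈ maximalIdeal (C ⧸ K) ↔ c ∈ maximalIdeal C := by
        intro K _ c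
        have : (maximalIdeal (C ⧸ K)).comap (Ideal.Quotient.mk K) = maximalIdeal C :=
          IsLocalRing.eq_maximalIdeal (Ideal.comap_isMaximal_of_surjective _ Ideal.Quotient.mk_surjective)
        rw [← this, Ideal.mem_comap]
      obtain ⟨v', hv'₁, hv'₂⟩ := H (C ⧸ J') (C ⧸ J) π hπ ⟨_, hker, fun a ha => by
          obtain ⟨a, rfl⟩ := Ideal.Quotient.mk_surjective a
          rw [← map_mul, mul_comm]
          have : t * a ∈ J * maximalIdeal C := Ideal.mul_mem_mul htJ ((hmax J' a).1 ha)
          rw [hJ, Ideal.mem_bot] at this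
          rw [this, map_zero]⟩
        ((Ideal.Quotient.mk J').comp χ) u (by rw [hu, ← RingHom.comp_assoc, Ideal.Quotient.factor_comp_mk])
        (by
          ext r
          obtain ⟨c, hc⟩ := Ideal.Quotient.mk_surjective (u r)
          rw [Ideal.mem_comap, ← hc, hmax, huq r c hc.symm])
        (fun hq => (hχ hq).comp_surjective Ideal.Quotient.mk_surjective)
      obtain ⟨v, hv₁, hv₂⟩ := IH J' hJ'.1 (le_bot_iff.1 (le_trans (Ideal.mul_mono_left hJ'.1.le) hJ.le))
        (hJ'.1.le.trans hJm) v' hv'₁ (fun r c hc => huq r c (by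
          have := congr($hv'₂ r)
          rw [RingHom.comp_apply, hc] at this
          exact this.symm))
      refine ⟨v, hv₁, ?_⟩
      rw [← hv'₂, ← hv₂, ← RingHom.comp_assoc, Ideal.Quotient.factor_comp_mk]

set_option maxHeartbeats 1000000 in
/-- The Artinian test for the Jacobian criterion: if all the small quotients of `P` admit a lift of `P → S`,
then `S` is formally smooth. -/
theorem formallySmooth_of_lifts {A P S : Type u} [CommRing A] [CommRing P] [CommRing S] [Algebra A P]
    [Algebra A S] [Algebra P S] [IsScalarTower A P S] [IsNoetherianRing P] [IsLocalRing P] [IsLocalRing S]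
    [Algebra.FormallySmooth A P] [Module.Free P Ω[P⁄A]] [Module.Finite P Ω[P⁄A]]
    (hsurj : Function.Surjective (algebraMap P S))
    (H : ∀ N : ℕ, 0 < N →
      let K := RingHom.ker (algebraMap P S) * maximalIdeal P ⊔ maximalIdeal P ^ N
      ∃ v : S →ₐ[A] P ⧸ K, ∀ x, v (algebraMap P S x) - Ideal.Quotient.mk K x ∈
        (RingHom.ker (algebraMap P S)).map (Ideal.Quotient.mk K)) :
    Algebra.FormallySmooth A S := by
  let I := RingHom.ker (algebraMap P S)
  let m := maximalIdeal P
  rw [Algebra.FormallySmooth.iff_injective_cotangentComplexBaseChange_residueField P hsurj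
    (IsNoetherian.noetherian _)]
  let κ := ResidueField S
  have hκ : Function.Surjective (algebraMap P κ) := by
    rw [IsScalarTower.algebraMap_eq P S κ, RingHom.coe_comp]
    exact (IsLocalRing.residue_surjective (R := S)).comp hsurj
  have hkerκ : RingHom.ker (algebraMap P κ) = m :=
    IsLocalRing.eq_maximalIdeal (RingHom.ker_isMaximal_of_surjective _ hκ)
  let e : (P ⧸ m) ≃ₐ[P] κ := AlgEquiv.ofBijective
    (Ideal.Quotient.liftₐ m (Algebra.ofId P κ) fun x hx => by
      rw [← hkerκ] at hx
      exact hx)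
    ⟨RingHom.lift_injective_of_ker_le_ideal _ _ hkerκ.le,
      fun y => by obtain ⟨x, rfl⟩ := hκ y; exact ⟨Ideal.Quotient.mk m x, rfl⟩⟩
  -- elements of `κ ⊗ I`
  have hone : ∀ z : κ ⊗[P] I, ∃ g : I, z = 1 ⊗ₜ g := by
    intro z
    induction z using TensorProduct.induction_on with
    | zero => exact ⟨0, by rw [tmul_zero]⟩
    | tmul c g =>
      obtain ⟨p, rfl⟩ := hκ c
      exact ⟨p • g, by rw [← smul_tmul, Algebra.smul_def, mul_one]⟩
    | add x y hx hy =>
      obtain ⟨g, rfl⟩ := hx
      obtain ⟨g', rfl⟩ := hy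
      exact ⟨g + g', by rw [tmul_add]⟩
  rw [injective_iff_map_eq_zero]
  intro z hz
  obtain ⟨g, rfl⟩ := hone z
  rw [cotangentComplexBaseChange_tmul, one_smul, kerToTensor_apply] at hz
  have hD : KaehlerDifferential.D A P g.1 ∈ m • (⊤ : Submodule P Ω[P⁄A]) := by
    have h1 := congrArg (fun x => TensorProduct.quotTensorEquivQuotSMul Ω[P⁄A] m
      (e.symm.toLinearMap.rTensor _ x)) hz
    simp only [LinearMap.rTensor_tmul, map_zero, AlgEquiv.toLinearMap_apply, map_one,
      TensorProduct.quotTensorEquivQuotSMul_mk_one_tmul] at h1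
    exact (Submodule.Quotient.mk_eq_zero _).1 h1
  suffices hg : g.1 ∈ m • I by
    have hg' : g ∈ m • (⊤ : Submodule P I) := (Submodule.mem_smul_top_iff m I g).2 hg
    clear hz hD hg
    refine Submodule.smul_induction_on hg' (fun a ha x _ => ?_) fun x y hx hy => by
      rw [tmul_add, hx, hy, add_zero]
    have h0 : algebraMap P κ a = 0 := by rw [← RingHom.mem_ker, hkerκ]; exact ha
    rw [← smul_tmul, Algebra.smul_def, h0, zero_mul, zero_tmul]
  -- Artin-Rees
  obtain ⟨k, hk⟩ := Ideal.exists_pow_inf_eq_pow_smul m (I : Submodule P P)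
  have hAR : m ^ (k + 1) ⊓ I ≤ m • I := by
    have h1 := hk (k + 1) (Nat.le_succ k)
    rw [Nat.add_sub_cancel_left, pow_one, smul_eq_mul, Ideal.mul_top] at h1
    rw [h1]
    exact Submodule.smul_mono le_rfl inf_le_right
  let K := I * m ⊔ m ^ (k + 1)
  obtain ⟨v, hv⟩ : ∃ v : S →ₐ[A] P ⧸ K, ∀ x, v (algebraMap P S x) - Ideal.Quotient.mk K x ∈
      I.map (Ideal.Quotient.mk K) := H (k + 1) k.succ_pos
  let C := P ⧸ K
  let J : Ideal C := I.map (Ideal.Quotient.mk K)
  have hJm : ∀ x ∈ m, ∀ y ∈ J, Ideal.Quotient.mk K x * y = 0 := by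
    intro x hx y hy
    obtain ⟨y, hy', rfl⟩ := (Ideal.mem_map_iff_of_surjective _ Ideal.Quotient.mk_surjective).1 hy
    rw [← map_mul, Ideal.Quotient.eq_zero_iff_mem, mul_comm]
    exact Ideal.mem_sup_left (Ideal.mul_mem_mul hy' hx)
  have hJJ : ∀ x ∈ J, ∀ y ∈ J, x * y = 0 := by
    intro x hx y hy
    obtain ⟨x, hx', rfl⟩ := (Ideal.mem_map_iff_of_surjective _ Ideal.Quotient.mk_surjective).1 hx
    exact hJm x (IsLocalRing.le_maximalIdeal (RingHom.ker_ne_top _) hx') y hy
  let M : Submodule P C := J.restrictScalars P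
  let dlin : P →ₗ[A] M :=
    { toFun := fun x => ⟨v (algebraMap P S x) - Ideal.Quotient.mk K x, hv x⟩
      map_add' := fun x y => Subtype.ext (by simp only [map_add, Submodule.coe_add]; ring)
      map_smul' := fun a x => Subtype.ext (by
        change v (algebraMap P S (a • x)) - Ideal.Quotient.mkₐ A K (a • x) =
          a • (v (algebraMap P S x) - Ideal.Quotient.mkₐ A K x)
        rw [smul_sub, show algebraMap P S (a • x) = a • algebraMap P S x from
          map_smul (IsScalarTower.toAlgHom A P S) a x, map_smul, map_smul]) }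
  let d : Derivation A P M := Derivation.mk' dlin fun x y => Subtype.ext (by
    change v (algebraMap P S (x * y)) - Ideal.Quotient.mk K (x * y) =
      Ideal.Quotient.mk K x * (v (algebraMap P S y) - Ideal.Quotient.mk K y) +
        Ideal.Quotient.mk K y * (v (algebraMap P S x) - Ideal.Quotient.mk K x)
    have := hJJ _ (hv x) _ (hv y)
    rw [map_mul, map_mul, map_mul]
    linear_combination this)
  have hzero : d.liftKaehlerDifferential (KaehlerDifferential.D A P g.1) = 0 := by
    refine Submodule.smul_induction_on hD (fun a ha x _ => Subtype.ext ?_) fun x y hx hy => by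
      rw [map_add, hx, hy, add_zero]
    rw [map_smul]
    exact hJm a ha _ (d.liftKaehlerDifferential x).2
  rw [Derivation.liftKaehlerDifferential_comp_D] at hzero
  have h2 : v (algebraMap P S g.1) - Ideal.Quotient.mk K g.1 = 0 := congrArg Subtype.val hzero
  rw [show algebraMap P S g.1 = 0 from g.2, map_zero, zero_sub, neg_eq_zero,
    Ideal.Quotient.eq_zero_iff_mem] at h2
  obtain ⟨p₁, hp₁, p₂, hp₂, hsum⟩ := Submodule.mem_sup.1 h2
  have hp₁' : p₁ ∈ m • I := by rw [smul_eq_mul, mul_comm]; exact hp₁
  have hp₂' : p₂ ∈ m • I := hAR ⟨hp₂, by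
    rw [show p₂ = g.1 - p₁ by rw [← hsum]; ring]
    exact sub_mem g.2 ((Ideal.mul_le_left : I * m ≤ I) hp₁)⟩
  rw [← hsum]
  exact add_mem hp₁' hp₂'

set_option maxHeartbeats 2000000 in
/-- A finite type algebra over a Noetherian ring with small liftings at `q` is smooth at `q`. -/
theorem isSmoothAt_of_smallLifts {A R : Type u} [CommRing A] [IsNoetherianRing A] [CommRing R] [Algebra A R]
    [Algebra.FiniteType A R] (q : Ideal R) [q.IsPrime] (H : SmallLifts (algebraMap A R) q) :
    Algebra.IsSmoothAt A q := by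
  obtain ⟨n, f, hf⟩ := Algebra.FiniteType.iff_quotient_mvPolynomial''.1 (inferInstance : Algebra.FiniteType A R)
  let P₀ := MvPolynomial (Fin n) A
  let m₀ : Ideal P₀ := q.comap f.toRingHom
  have : m₀.IsPrime := Ideal.IsPrime.comap _
  let P := Localization.AtPrime m₀
  let S := Localization.AtPrime q
  let _ : Algebra P S := (Localization.localRingHom m₀ q f.toRingHom rfl).toAlgebra
  have hmap : ∀ x : P₀, algebraMap P S (algebraMap P₀ P x) = algebraMap R S (f x) := fun x =>
    Localization.localRingHom_to_map _ _ _ _ x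
  have : IsScalarTower A P S := .of_algebraMap_eq fun a => by
    rw [IsScalarTower.algebraMap_apply A P₀ P, hmap, AlgHom.commutes, ← IsScalarTower.algebraMap_apply]
  have hsurj : Function.Surjective (algebraMap P S) := by
    intro y
    obtain ⟨b, ⟨s, hs⟩, rfl⟩ := IsLocalization.exists_mk'_eq q.primeCompl y
    obtain ⟨b, rfl⟩ := hf b
    obtain ⟨s, rfl⟩ := hf s
    exact ⟨IsLocalization.mk' P b (⟨s, hs⟩ : m₀.primeCompl), Localization.localRingHom_mk' _ _ _ _ _ _⟩
  have : Algebra.FormallySmooth P₀ P := .of_isLocalization m₀.primeCompl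
  have : Algebra.FormallySmooth A P := .comp A P₀ P
  have : Algebra.EssFiniteType P₀ P := .of_isLocalization _ m₀.primeCompl
  have : Algebra.EssFiniteType A P := .comp _ P₀ _
  have : Module.Free P Ω[P⁄A] := Module.free_of_flat_of_isLocalRing
  have : IsNoetherianRing P := IsLocalization.isNoetherianRing m₀.primeCompl P inferInstance
  refine formallySmooth_of_lifts hsurj fun N hN => ?_
  intro K
  let m := maximalIdeal P
  let I := RingHom.ker (algebraMap P S)
  have hIm : I ≤ m := IsLocalRing.le_maximalIdeal (RingHom.ker_ne_top _)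
  have hKm : K ≤ m := sup_le Ideal.mul_le_right (Ideal.pow_le_self hN.ne')
  let C := P ⧸ K
  have : Nontrivial C := Ideal.Quotient.nontrivial_iff.2
    fun h => (maximalIdeal.isMaximal P).ne_top (top_le_iff.1 (h ▸ hKm))
  have : IsLocalRing C := .of_surjective' _ Ideal.Quotient.mk_surjective
  have hmC : m.map (Ideal.Quotient.mk K) = maximalIdeal C :=
    ((Ideal.map_eq_top_or_isMaximal_of_surjective _ Ideal.Quotient.mk_surjective
      (maximalIdeal.isMaximal P)).resolve_left fun h => by
        have := congrArg (Ideal.comap (Ideal.Quotient.mk K)) h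
        rw [Ideal.comap_map_of_surjective _ Ideal.Quotient.mk_surjective, ← RingHom.ker_eq_comap_bot,
          Ideal.mk_ker, Ideal.comap_top, sup_eq_left.2 hKm] at this
        exact (maximalIdeal.isMaximal P).ne_top this) |> IsLocalRing.eq_maximalIdeal
  have : IsArtinianRing C := (isArtinianRing_iff_isNilpotent_maximalIdeal C).2 ⟨N, by
    rw [← hmC, ← Ideal.map_pow, Ideal.zero_eq_bot, Ideal.map_eq_bot_iff_le_ker, Ideal.mk_ker]
    exact le_sup_right⟩
  let J : Ideal C := I.map (Ideal.Quotient.mk K)
  have hJ : J * maximalIdeal C = ⊥ := by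
    rw [← hmC, ← Ideal.map_mul, Ideal.map_eq_bot_iff_le_ker, Ideal.mk_ker]
    exact le_sup_left
  have hJm : J ≤ maximalIdeal C := hmC ▸ Ideal.map_mono hIm
  -- the point
  let u₀ : S →+* C ⧸ J := (Ideal.Quotient.lift I ((Ideal.Quotient.mk J).comp (Ideal.Quotient.mk K))
    fun x hx => Ideal.Quotient.eq_zero_iff_mem.2 (Ideal.mem_map_of_mem _ hx)).comp
      (RingHom.quotientKerEquivOfSurjective hsurj).symm.toRingHom
  have hu₀ : ∀ x, u₀ (algebraMap P S x) = Ideal.Quotient.mk J (Ideal.Quotient.mk K x) := by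
    intro x
    have : (RingHom.quotientKerEquivOfSurjective hsurj).symm (algebraMap P S x) = Ideal.Quotient.mk I x := by
      rw [RingEquiv.symm_apply_eq]; rfl
    simp only [u₀, RingHom.comp_apply, RingEquiv.toRingHom_eq_coe, RingHom.coe_coe, this]
    rfl
  have hft : q.IsMaximal → (algebraMap A C).FiniteType := fun hq => by
    have hm₀ : m₀.IsMaximal := Ideal.comap_isMaximal_of_surjective _ hf
    have hs : Function.Surjective ((Ideal.Quotient.mkₐ A K).comp (IsScalarTower.toAlgHom A P₀ P)) := by
      intro c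
      obtain ⟨p, rfl⟩ := Ideal.Quotient.mk_surjective c
      obtain ⟨b, ⟨s, hs⟩, rfl⟩ := IsLocalization.exists_mk'_eq m₀.primeCompl p
      have hcop : Ideal.span {s} ⊔ m₀ ^ N = ⊤ := Ideal.sup_pow_eq_top (hm₀.1.2 _ (by
        refine lt_of_le_of_ne le_sup_right fun h => hs ?_
        rw [h]; exact Ideal.mem_sup_left (Ideal.mem_span_singleton_self s)))
      obtain ⟨a, ha, e, he, hae⟩ := Submodule.mem_sup.1 (hcop ▸ Submodule.mem_top : (1 : P₀) ∈ _)
      obtain ⟨w, rfl⟩ := Ideal.mem_span_singleton'.1 ha
      refine ⟨b * w, ?_⟩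
      change Ideal.Quotient.mk K (algebraMap P₀ P (b * w)) = Ideal.Quotient.mk K _
      rw [Ideal.Quotient.eq]
      have he' : algebraMap P₀ P e ∈ K := Ideal.mem_sup_right (by
        change _ ∈ maximalIdeal P ^ N
        rw [← IsLocalization.AtPrime.map_eq_maximalIdeal m₀ P, ← Ideal.map_pow]
        exact Ideal.mem_map_of_mem _ he)
      have key : algebraMap P₀ P (b * w) - IsLocalization.mk' P b (⟨s, hs⟩ : m₀.primeCompl) =
          -(IsLocalization.mk' P b (⟨s, hs⟩ : m₀.primeCompl) * algebraMap P₀ P e) := by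
        have h1 := IsLocalization.mk'_spec P b (⟨s, hs⟩ : m₀.primeCompl)
        have h2 := congrArg (algebraMap P₀ P) hae
        simp only [map_add, map_mul, map_one] at h2
        simp only [map_mul] at h1 ⊢
        linear_combination (-(algebraMap P₀ P w)) * h1 +
          IsLocalization.mk' P b (⟨s, hs⟩ : m₀.primeCompl) * h2
      rw [key]
      exact neg_mem (Ideal.mul_mem_left _ _ he')
    exact RingHom.finiteType_algebraMap.2
      (Algebra.FiniteType.of_surjective ((Ideal.Quotient.mkₐ A K).comp (IsScalarTower.toAlgHom A P₀ P)) hs)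
  obtain ⟨v, hv₁, hv₂⟩ := exists_lift_of_smallLifts H J hJ hJm (algebraMap A C) hft
    (u₀.comp (algebraMap R S)) (by
      ext a
      simp only [RingHom.comp_apply]
      rw [← IsScalarTower.algebraMap_apply A R S, IsScalarTower.algebraMap_apply A P S, hu₀]
      rfl)
    (fun r c hrc => by
      obtain ⟨x, rfl⟩ := hf r
      obtain ⟨p, rfl⟩ := Ideal.Quotient.mk_surjective c
      rw [RingHom.comp_apply, ← hmap, hu₀] at hrc
      have h1 : algebraMap P₀ P x - p ∈ m := by
        rw [Ideal.Quotient.eq, ← map_sub] at hrc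
        obtain ⟨i, hi, hie⟩ := (Ideal.mem_map_iff_of_surjective _ Ideal.Quotient.mk_surjective).1 hrc
        have := (Ideal.Quotient.eq.1 hie)
        have := sub_mem (hIm hi) (hKm this)
        simpa using this
      have h2 : Ideal.Quotient.mk K p ∈ maximalIdeal C ↔ p ∈ m := by
        rw [← hmC, Ideal.mem_map_iff_of_surjective _ Ideal.Quotient.mk_surjective]
        refine ⟨fun ⟨y, hy, hye⟩ => ?_, fun h => ⟨p, h, rfl⟩⟩
        have := hKm (Ideal.Quotient.eq.1 hye)
        simpa using sub_mem hy this
      rw [h2]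
      change x ∈ m₀ ↔ _
      rw [← IsLocalization.AtPrime.to_map_mem_maximal_iff P m₀ x]
      exact ⟨fun h => by have h3 := sub_mem h h1; rwa [sub_sub_cancel] at h3,
        fun h => by have h3 := add_mem h1 h; rwa [sub_add_cancel] at h3⟩)
  · let mkK : P →ₐ[A] C := Ideal.Quotient.mkₐ A K
    let v' : S →+* C := IsLocalization.lift (M := q.primeCompl) (g := v) fun y => by
      obtain ⟨c, hc⟩ := Ideal.Quotient.mk_surjective (u₀ (algebraMap R S y.1))
      by_contra hun
      have hy : IsUnit (u₀ (algebraMap R S y.1)) :=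
        (IsLocalization.map_units S y).map u₀
      have hv : Ideal.Quotient.mk J (v y.1) = u₀ (algebraMap R S y.1) := congr($hv₂ y.1)
      have : Nontrivial (C ⧸ J) := Ideal.Quotient.nontrivial_iff.2
        fun h => (maximalIdeal.isMaximal C).ne_top (top_le_iff.1 (h ▸ hJm))
      have : IsLocalHom (Ideal.Quotient.mk J) :=
        .of_surjective _ Ideal.Quotient.mk_surjective
      exact hun ((isUnit_map_iff (Ideal.Quotient.mk J) _).1 (hv ▸ hy))
    refine ⟨{ v' with commutes' := fun a => ?_ }, fun x => ?_⟩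
    · change v' (algebraMap A S a) = _
      rw [IsScalarTower.algebraMap_apply A R S]
      exact (IsLocalization.lift_eq _ _).trans congr($hv₁ a)
    · change v' (algebraMap P S x) - _ ∈ J
      rw [← Ideal.Quotient.eq, ← hu₀]
      have : (Ideal.Quotient.mk J).comp v' = u₀ := IsLocalization.ringHom_ext q.primeCompl (RingHom.ext fun r => by
        change Ideal.Quotient.mk J (v' (algebraMap R S r)) = u₀ (algebraMap R S r)
        rw [IsLocalization.lift_eq]
        exact congr($hv₂ r))
      exact congr($this (algebraMap P S x))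

end Groth.Agent.AlgSpCov.SmallExtSmooth
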