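import Groth.Agent.AlgSpCov.SmallExtSmooth
import Groth.Agent.AlgSpCov.LocPBasic
import Groth.Agent.AlgSpCov.Instances
import Groth.Agent.AlgSp.InfCharts
import Groth.Agent.AlgSpB.Points
import Groth.Prelude.Def_AlgSpInf

/-!
# Small extensions and charts of morphisms of algebraic spaces
-/

universe u

open CategoryTheory CategoryTheory.Limits AlgebraicGeometry Opposite

set_option backward.isDefEq.respectTransparency.types false

namespace Groth.Agent.AlgSpCov.SmallExtSp

open _root_.AlgSp Groth.Agent.AlgSp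

variable {S : Scheme.{u}} {F G : Sp S}

/-- The closed subscheme of a surjection of rings, over `S`. -/
noncomputable abbrev jπ {B' B : Type u} [CommRing B'] [CommRing B] (π : B' →+* B)
    (s : Spec (CommRingCat.of B') ⟶ S) :
    Over.mk (Spec.map (CommRingCat.ofHom π) ≫ s) ⟶ Over.mk s :=
  Over.homMk (Spec.map (CommRingCat.ofHom π)) rfl

/-- `Spec` of a surjection is isomorphic to `Spec` of the quotient by the kernel. -/
theorem exists_iso {B' B : Type u} [CommRing B'] [CommRing B] (π : B' →+* B) (hπ : Function.Surjective π)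
    (s : Spec (CommRingCat.of B') ⟶ S) :
    ∃ e : Over.mk (Spec.map (CommRingCat.ofHom π) ≫ s) ≅
        Over.mk (Spec.map (CommRingCat.ofHom (Ideal.Quotient.mk (RingHom.ker π))) ≫ s),
      e.hom ≫ jπ (Ideal.Quotient.mk (RingHom.ker π)) s = jπ π s := by
  let q := (RingHom.quotientKerEquivOfSurjective hπ).toCommRingCatIso
  have hq : CommRingCat.ofHom (Ideal.Quotient.mk (RingHom.ker π)) ≫ q.hom = CommRingCat.ofHom π := rfl
  have he : Spec.map q.hom ≫ Spec.map (CommRingCat.ofHom (Ideal.Quotient.mk (RingHom.ker π))) =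
      Spec.map (CommRingCat.ofHom π) := by rw [← Spec.map_comp, hq]
  exact ⟨Over.isoMk (Scheme.Spec.mapIso q.op) (by
    change Spec.map q.hom ≫ Spec.map _ ≫ s = _
    rw [← Category.assoc, he]
    rfl), Over.OverMorphism.ext he⟩

/-- A formally smooth morphism lifts along surjections with square zero kernel. -/
theorem exists_lift_of_formallySmooth {f : F ⟶ G} (hf : IsFormallySmoothMor f) {B' B : Type u} [CommRing B']
    [CommRing B] (π : B' →+* B) (hπ : Function.Surjective π) (h2 : RingHom.ker π ^ 2 = ⊥)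
    (s : Spec (CommRingCat.of B') ⟶ S)
    (α : (yon S).obj (Over.mk (Spec.map (CommRingCat.ofHom π) ≫ s)) ⟶ F)
    (β : (yon S).obj (Over.mk s) ⟶ G) (w : α ≫ f = (yon S).map (jπ π s) ≫ β) :
    ∃ γ : (yon S).obj (Over.mk s) ⟶ F, (yon S).map (jπ π s) ≫ γ = α ∧ γ ≫ f = β := by
  obtain ⟨e, he⟩ := exists_iso π hπ s
  obtain ⟨l, hl₁, hl₂⟩ := hf ⟨B', RingHom.ker π, h2, s, (yon S).map e.inv ≫ α, β, by
    rw [Category.assoc, w, ← Category.assoc, ← Functor.map_comp]
    congr 2
    rw [Iso.inv_comp_eq, he]⟩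
  refine ⟨l, ?_, hl₂⟩
  rw [← he, Functor.map_comp, Category.assoc]
  erw [hl₁]
  rw [← Category.assoc, ← Functor.map_comp, e.hom_inv_id, CategoryTheory.Functor.map_id]
  exact Category.id_comp _

/-- Lifts along surjections with square zero kernel are unique for a formally unramified morphism. -/
theorem eq_of_formallyUnramified {f : F ⟶ G} (hf : IsFormallyUnramifiedMor f) {B' B : Type u} [CommRing B']
    [CommRing B] (π : B' →+* B) (hπ : Function.Surjective π) (h2 : RingHom.ker π ^ 2 = ⊥)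
    (s : Spec (CommRingCat.of B') ⟶ S) {γ γ' : (yon S).obj (Over.mk s) ⟶ F}
    (h₁ : (yon S).map (jπ π s) ≫ γ = (yon S).map (jπ π s) ≫ γ') (h₃ : γ ≫ f = γ' ≫ f) : γ = γ' := by
  obtain ⟨e, he⟩ := exists_iso π hπ s
  have h : (yon S).map (jπ (Ideal.Quotient.mk (RingHom.ker π)) s) ≫ γ =
      (yon S).map (jπ (Ideal.Quotient.mk (RingHom.ker π)) s) ≫ γ' := by
    rw [← he, Functor.map_comp, Category.assoc, Category.assoc] at h₁
    exact (cancel_epi _).1 h₁
  let sq : InfSq f := ⟨B', RingHom.ker π, h2, s,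
    (yon S).map (jπ (Ideal.Quotient.mk (RingHom.ker π)) s) ≫ γ, γ ≫ f, Category.assoc _ _ _⟩
  exact hf sq γ γ' rfl rfl h.symm h₃.symm

/-- Small liftings for a morphism of sheaves at a point give small liftings for the affine charts through it. -/
theorem smallLifts_of_lifts (Qm : Prop) {f : F ⟶ G} {U V : Over S} {a : (yon S).obj U ⟶ F}
    {b : (yon S).obj V ⟶ G} {h : U ⟶ V} (ha : RepWith @Etale a) (hb : RepWith @Etale b)
    (w : a ≫ f = (yon S).map h ≫ b) {W₁ : V.left.Opens} (hW₁ : IsAffineOpen W₁) {U₁ : U.left.Opens}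
    (hU₁ : IsAffineOpen U₁) (hle : U₁ ≤ h.left ⁻¹ᵁ W₁) (q : PrimeSpectrum Γ(U.left, U₁))
    (hQm : Qm → q.asIdeal.IsMaximal)
    (H : ∀ (B' B : Type u) [CommRing B'] [CommRing B] [IsLocalRing B'] [IsLocalRing B]
        [IsArtinianRing B'] [IsArtinianRing B] (π : B' →+* B), Function.Surjective π →
        (∃ t : B', RingHom.ker π = Ideal.span {t} ∧ ∀ a ∈ IsLocalRing.maximalIdeal B', a * t = 0) →
        ∀ (s : Spec (CommRingCat.of B') ⟶ S)
          (α : (yon S).obj (Over.mk (Spec.map (CommRingCat.ofHom π) ≫ s)) ⟶ F)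
          (β : (yon S).obj (Over.mk s) ⟶ G),
          Points.ofPt α (IsLocalRing.closedPoint B) = Points.ofPt a (hU₁.fromSpec q) →
          (Qm → LocP @LocallyOfFiniteType β) → α ≫ f = (yon S).map (jπ π s) ≫ β →
          ∃ γ : (yon S).obj (Over.mk s) ⟶ F, (yon S).map (jπ π s) ≫ γ = α ∧ γ ≫ f = β) :
    SmallExtSmooth.SmallLifts (h.left.appLE W₁ U₁ hle).hom q.asIdeal := by
  intro B' B _ _ _ _ _ _ π hπ hker χ u hu huq hft
  obtain ⟨t, ht, htm⟩ := hker
  let η := h.left.appLE W₁ U₁ hle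
  have hη : Spec.map η ≫ hW₁.fromSpec = hU₁.fromSpec ≫ h.left := hW₁.SpecMap_appLE_fromSpec _ hU₁ hle
  have h2 : RingHom.ker π ^ 2 = ⊥ := by
    have htm' : t ∈ IsLocalRing.maximalIdeal B' :=
      IsLocalRing.le_maximalIdeal (RingHom.ker_ne_top π) (ht ▸ Ideal.mem_span_singleton_self t)
    rw [ht, Ideal.span_singleton_pow, Ideal.span_singleton_eq_bot, pow_two]
    exact htm t htm'
  let v₀ : Spec (CommRingCat.of B') ⟶ V.left := Spec.map (CommRingCat.ofHom χ) ≫ hW₁.fromSpec
  let s := v₀ ≫ V.hom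
  let vO : Over.mk s ⟶ V := Over.homMk v₀ rfl
  let u₀ : Spec (CommRingCat.of B) ⟶ U.left := Spec.map (CommRingCat.ofHom u) ≫ hU₁.fromSpec
  have huv : u₀ ≫ h.left = Spec.map (CommRingCat.ofHom π) ≫ v₀ := by
    simp only [u₀, v₀, Category.assoc]
    rw [← hη, ← Spec.map_comp_assoc, ← Spec.map_comp_assoc]
    congr 2
    exact CommRingCat.hom_ext hu
  let uO : Over.mk (Spec.map (CommRingCat.ofHom π) ≫ s) ⟶ U := Over.homMk u₀ (by
    rw [← Over.w h, reassoc_of% huv]
    rfl)
  have huvO : uO ≫ h = jπ π s ≫ vO := Over.OverMorphism.ext huv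
  have wab : ((yon S).map uO ≫ a) ≫ f = (yon S).map (jπ π s) ≫ (yon S).map vO ≫ b := by
    rw [Category.assoc, w, ← Functor.map_comp_assoc, huvO, Functor.map_comp_assoc]
  have hpt : Points.ofPt ((yon S).map uO ≫ a) (IsLocalRing.closedPoint B) =
      Points.ofPt a (hU₁.fromSpec q) := by
    refine (Groth.Agent.AlgSpB.ofPt_map_comp uO a _).trans (congrArg (Points.ofPt a) ?_)
    change hU₁.fromSpec (Spec.map (CommRingCat.ofHom u) (IsLocalRing.closedPoint B)) = _
    congr 1
    exact PrimeSpectrum.ext huq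
  have hlft : Qm → LocP @LocallyOfFiniteType ((yon S).map vO ≫ b) := fun hQ => by
    have hv : LocallyOfFiniteType vO.left := by
      have : LocallyOfFiniteType (Spec.map (CommRingCat.ofHom χ)) :=
        (HasRingHomProperty.Spec_iff (P := @LocallyOfFiniteType)).2 (hft (hQm hQ))
      exact inferInstanceAs (LocallyOfFiniteType (Spec.map (CommRingCat.ofHom χ) ≫ hW₁.fromSpec))
    exact locP_of_repWith etaleLocal_locallyOfFiniteType
      ((repWith_isMultiplicative _).comp_mem _ _ ((repWith_yon_map_iff _ _).2 hv)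
        ⟨hb.1, fun _ _ g fst snd sq => by
          have : Etale snd.left := hb.2 g fst snd sq
          exact (inferInstance : LocallyOfFiniteType snd.left)⟩)
  obtain ⟨γ, hγ₁, hγ₂⟩ := H B' B π hπ ⟨t, ht, htm⟩ s ((yon S).map uO ≫ a) ((yon S).map vO ≫ b) hpt hlft wab
  obtain ⟨γ', hγ'₁, hγ'₂⟩ := exists_lift_of_formallySmooth
    (fun sq => (InfEtale.formallyEtale_of_repWith_etale ha sq).exists) π hπ h2 s ((yon S).map uO) γ hγ₁.symm
  obtain ⟨g, rfl⟩ := (yon S).map_surjective γ'
  have hgu : jπ π s ≫ g = uO := (yon S).map_injective (by rw [Functor.map_comp, hγ'₁])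
  have hgv : g ≫ h = vO := by
    apply (yon S).map_injective
    refine eq_of_formallyUnramified (InfCharts.formallyUnramified_of_repWith_etale hb) π hπ h2 s ?_ ?_
    · rw [← Functor.map_comp, ← Functor.map_comp, reassoc_of% hgu, huvO]
    · rw [Functor.map_comp, Category.assoc, ← w, ← Category.assoc, hγ'₂, hγ₂]
  -- the lift lands in the affine open
  have hrange : Set.range g.left ⊆ U₁ := by
    rintro _ ⟨x, rfl⟩
    have hc : g.left (IsLocalRing.closedPoint B') ∈ U₁ := by
      have hloc : IsLocalHom π := .of_surjective π hπ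
      have h0 : Spec.map (CommRingCat.ofHom π) (IsLocalRing.closedPoint B) = IsLocalRing.closedPoint B' :=
        IsLocalRing.comap_closedPoint π
      rw [← h0]
      change (jπ π s ≫ g).left (IsLocalRing.closedPoint B) ∈ U₁
      rw [hgu]
      have hm : hU₁.fromSpec (Spec.map (CommRingCat.ofHom u) (IsLocalRing.closedPoint B)) ∈
          Set.range hU₁.fromSpec := ⟨_, rfl⟩
      rw [hU₁.range_fromSpec] at hm
      exact hm
    exact ((IsLocalRing.specializes_closedPoint x).map g.left.continuous).mem_open U₁.2 hc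
  obtain ⟨k, hk⟩ := Spec.map_surjective (IsOpenImmersion.lift hU₁.fromSpec g.left
    (by rw [hU₁.range_fromSpec]; exact hrange))
  have hk' : Spec.map k ≫ hU₁.fromSpec = g.left := by rw [hk, IsOpenImmersion.lift_fac]
  refine ⟨k.hom, ?_, ?_⟩
  · refine congrArg CommRingCat.Hom.hom (Spec.map_injective (a₁ := η ≫ k) (a₂ := CommRingCat.ofHom χ) ?_)
    rw [← cancel_mono hW₁.fromSpec, Spec.map_comp, Category.assoc, hη, reassoc_of% hk']
    exact congr($(hgv).left)
  · refine congrArg CommRingCat.Hom.hom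
      (Spec.map_injective (a₁ := k ≫ CommRingCat.ofHom π) (a₂ := CommRingCat.ofHom u) ?_)
    rw [← cancel_mono hU₁.fromSpec, Spec.map_comp, Category.assoc, hk']
    exact congr($(hgu).left)

end Groth.Agent.AlgSpCov.SmallExtSp
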