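import Groth.Agent.AlgSpCov.SmoothSlice
import Groth.Agent.AlgSpCov.LocP
import Groth.Agent.AlgSpCov.Instances
import Groth.Agent.AlgSp.InfEtale
import Groth.Agent.AlgSp.PointsMor
import Groth.Agent.AlgSp.Space
import Groth.Prelude.Def_AlgSpInf

/-!
# Smooth morphisms of algebraic spaces lift etale locally along thickenings
-/

universe u

open CategoryTheory CategoryTheory.Limits AlgebraicGeometry Opposite

set_option backward.isDefEq.respectTransparency.types false

namespace Groth.Agent.AlgSpCov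

open _root_.AlgSp Groth.Agent.AlgSp

variable {S : Scheme.{u}}

/-- `Spec A` as a scheme over `S`. -/
noncomputable abbrev specOver {A : Type u} [CommRing A] (str : Spec (CommRingCat.of A) ⟶ S) : Over S :=
  Over.mk str

/-- An affine scheme mapping etale to `F` through a given point, lifting a given map to an atlas of `G`. -/
theorem exists_affine_etale_point {F G : Sp S} (hF : IsAlgSpace F) {W : Over S} {c : (yon S).obj W ⟶ G}
    (hc : RepWith @Etale c) (hcs : RepWith @Surjective c) (b : F ⟶ G) (x : Points F) :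
    ∃ (A : CommRingCat.{u}) (str : Spec A ⟶ S) (y : (yon S).obj (Over.mk str) ⟶ F)
      (w : Over.mk str ⟶ W) (t : ↥(Spec A)),
      RepWith @Etale y ∧ (yon S).map w ≫ c = y ≫ b ∧ Points.ofPt y t = x := by
  obtain ⟨V, q, hq, hqs⟩ := hF.atlas
  obtain ⟨p, hp⟩ := (repWith_surjective_iff q hq.1).1 hqs x
  obtain ⟨v, rfl⟩ := (Points.schemeEquiv V).surjective p
  obtain ⟨i, t, ht⟩ := V.left.affineOpenCover.openCover.exists_eq v
  let A₀ : CommRingCat.{u} := V.left.affineOpenCover.X i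
  let j : Spec A₀ ⟶ V.left := V.left.affineOpenCover.f i
  have : IsOpenImmersion j := inferInstanceAs (IsOpenImmersion (V.left.affineOpenCover.openCover.f i))
  let g : Over.mk (j ≫ V.hom) ⟶ V := Over.homMk j rfl
  let y₀ := (yon S).map g ≫ q
  obtain ⟨B, _, φ, u, hφ, ⟨t', ht'⟩, hu⟩ := InfEtale.exists_affine_lift hc hcs (j ≫ V.hom) (y₀ ≫ b) t
  obtain ⟨w, rfl⟩ := (yon S).map_surjective u
  let e : Over.mk (Spec.map (CommRingCat.ofHom φ) ≫ j ≫ V.hom) ⟶ Over.mk (j ≫ V.hom) :=
    Over.homMk (Spec.map (CommRingCat.ofHom φ)) rfl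
  have he : Etale e.left := (HasRingHomProperty.Spec_iff (P := @Etale)).2 hφ
  have hg : Etale g.left := inferInstanceAs (Etale j)
  refine ⟨_, _, (yon S).map e ≫ y₀, w, t', ?_, ?_, ?_⟩
  · exact (repWith_isMultiplicative _).comp_mem _ _ ((repWith_yon_map_iff _ _).2 he)
      ((repWith_isMultiplicative _).comp_mem _ _ ((repWith_yon_map_iff _ _).2 hg) hq)
  · rw [Category.assoc]
    exact hu
  · rw [Groth.Agent.AlgSpB.ofPt_map_comp, show e.left t' = t from ht', Groth.Agent.AlgSpB.ofPt_map_comp,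
      show g.left t = v from ht, Points.ofPt_eq_map_ofScheme, ← hp]
    rfl

set_option maxHeartbeats 2000000 in
/-- A smooth morphism lifts etale locally along thickenings. -/
theorem exists_smooth_lift {X Y T T' : Sp S} (hX : IsAlgSpace X) (hY : IsAlgSpace Y) (hT' : IsAlgSpace T')
    {f : X ⟶ Y} (hf : LocP @Smooth f) {i : T ⟶ T'} (hi : RepWith @IsClosedImmersion i)
    (his : RepWith @Surjective i) (a : T ⟶ X) (b : T' ⟶ Y) (w : a ≫ f = i ≫ b) (t' : Points T') :
    ∃ (V : Over S) (e : (yon S).obj V ⟶ T') (ℓ : (yon S).obj V ⟶ X),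
      RepWith @Etale e ∧ t' ∈ Set.range (Points.ofPt e) ∧ ℓ ≫ f = e ≫ b ∧
      ∀ (P : Sp S) (p₁ : P ⟶ T) (p₂ : P ⟶ (yon S).obj V), IsPullback p₁ p₂ i e → p₂ ≫ ℓ = p₁ ≫ a := by
  obtain ⟨W, c, hc, hcs⟩ := hY.atlas
  obtain ⟨A, str, y, wA, t, hy, hwA, hyt⟩ := exists_affine_etale_point hT' hc hcs b t'
  -- the closed subscheme of `Spec A`
  let s := hi.1.snd y
  have hs : IsClosedImmersion s.left := hi.2 _ _ _ (hi.1.isPullback y)
  have hs' : Surjective s.left := his.2 _ _ _ (hi.1.isPullback y)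
  obtain ⟨I, e₀, he₀⟩ := IsClosedImmersion.Spec_iff.1 hs
  let O₀ : Over S := Over.mk (Spec.map (CommRingCat.ofHom (Ideal.Quotient.mk I)) ≫ str)
  let jA : O₀ ⟶ Over.mk str := Over.homMk (Spec.map (CommRingCat.ofHom (Ideal.Quotient.mk I))) rfl
  let e' : hi.1.pullback y ≅ O₀ := Over.isoMk e₀ (by
    change e₀.hom ≫ Spec.map _ ≫ str = _
    rw [← Category.assoc, ← he₀]
    exact Over.w s)
  have he' : e'.hom ≫ jA = s := Over.OverMorphism.ext he₀.symm
  let k₀ : (yon S).obj O₀ ⟶ T := (yon S).map e'.inv ≫ hi.1.fst y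
  have sqk : IsPullback k₀ ((yon S).map jA) i y := by
    refine (hi.1.isPullback y).of_iso ((yon S).mapIso e') (Iso.refl _) (Iso.refl _) (Iso.refl _) ?_ ?_
      (by simp) (by simp)
    · simp [k₀, ← Category.assoc, ← Functor.map_comp]
    · simp only [Functor.mapIso_hom, Iso.refl_hom, Category.comp_id]
      rw [← Functor.map_comp, he']
  obtain ⟨t₀, ht₀⟩ : ∃ t₀, jA.left t₀ = t := by
    obtain ⟨x, hx⟩ := hs'.surj t
    refine ⟨e₀.hom x, ?_⟩
    rw [← hx]
    exact (congr(($he₀) x)).symm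
  -- the chart of `X ×_Y W`
  let M := pullback f c
  have hM : IsAlgSpace M := isAlgSpace_pullback hY hX (IsAlgSpace.yon_obj W) f c
  obtain ⟨U, aU, haU, haUs⟩ := hM.atlas
  obtain ⟨hUW, hhUW⟩ := (yon S).map_surjective (aU ≫ pullback.snd f c)
  have hsm : Smooth hUW.left :=
    chart_of_locP etaleLocal_smooth hX hY hf c (IsPullback.of_hasPullback f c) haU hUW hhUW.symm
  let σ : (yon S).obj O₀ ⟶ M := pullback.lift (k₀ ≫ a) ((yon S).map jA ≫ (yon S).map wA) (by
    rw [Category.assoc, w, ← Category.assoc, sqk.w, Category.assoc, Category.assoc, hwA])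
  let π := haU.1.snd σ
  have hπ : Etale π.left := haU.2 _ _ _ (haU.1.isPullback σ)
  have hπs : Surjective π.left := haUs.2 _ _ _ (haU.1.isPullback σ)
  obtain ⟨v, hv⟩ := (yon S).map_surjective (haU.1.fst σ)
  obtain ⟨x, hx⟩ := hπs.surj t₀
  obtain ⟨C, _, φ, k, hφ, hk, ⟨z, hz⟩, hko⟩ := InfRing.exists_etale_lift' I π.left x
  let jC : Spec (CommRingCat.of (C ⧸ I.map φ)) ⟶ Spec (CommRingCat.of C) :=
    Spec.map (CommRingCat.ofHom (Ideal.Quotient.mk (I.map φ)))
  let lC : Spec (CommRingCat.of C) ⟶ W.left := Spec.map (CommRingCat.ofHom φ) ≫ wA.left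
  let lU : Spec (CommRingCat.of (C ⧸ I.map φ)) ⟶ U.left := k ≫ v.left
  have hsqW : lU ≫ hUW.left = jC ≫ lC := by
    have h1 : v ≫ hUW = π ≫ jA ≫ wA := (yon S).map_injective (by
      rw [Functor.map_comp, hhUW, hv, ← Category.assoc, (haU.1.isPullback σ).w, Category.assoc,
        pullback.lift_snd, Functor.map_comp, Functor.map_comp])
    simp only [lU, lC, jC, Category.assoc]
    rw [← Over.comp_left, h1, Over.comp_left, Over.comp_left, reassoc_of% hk]
    simp only [jA, Over.homMk_left, ← Spec.map_comp_assoc]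
    rfl
  -- standard smooth affine charts
  obtain ⟨W₁, hW₁, U₁, hU₁, hzU, hle, hstd⟩ := Smooth.exists_isStandardSmooth hUW.left (lU z)
  have : IsClosedImmersion jC := IsClosedImmersion.spec_of_surjective _ Ideal.Quotient.mk_surjective
  obtain ⟨Ωo, hΩo, hΩ⟩ := jC.isClosedEmbedding.isInducing.isOpen_iff.1
    (U₁.2.preimage lU.continuous)
  have hzc : jC z ∈ Ωo ∩ lC ⁻¹' W₁ := by
    refine ⟨?_, ?_⟩
    · change z ∈ jC ⁻¹' Ωo
      rw [hΩ]
      exact hzU
    · change (jC ≫ lC) z ∈ W₁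
      rw [← hsqW]
      exact hle hzU
  obtain ⟨_, ⟨r, rfl⟩, hzr, hrle⟩ := PrimeSpectrum.isTopologicalBasis_basic_opens.exists_subset_of_mem_open
    hzc (hΩo.inter (W₁.2.preimage lC.continuous))
  let C₁ := Localization.Away r
  let φ₁ : A →+* C₁ := (algebraMap C C₁).comp φ
  let J : Ideal C₁ := I.map φ₁
  have hJ : I.map φ ≤ J.comap (algebraMap C C₁) := by
    rw [← Ideal.map_le_iff_le_comap, Ideal.map_map]
  let qr : C ⧸ I.map φ →+* C₁ ⧸ J := Ideal.quotientMap J (algebraMap C C₁) hJ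
  let oC : Spec (CommRingCat.of C₁) ⟶ Spec (CommRingCat.of C) := Spec.map (CommRingCat.ofHom (algebraMap C C₁))
  let oQ : Spec (CommRingCat.of (C₁ ⧸ J)) ⟶ Spec (CommRingCat.of (C ⧸ I.map φ)) :=
    Spec.map (CommRingCat.ofHom qr)
  let jC₁ : Spec (CommRingCat.of (C₁ ⧸ J)) ⟶ Spec (CommRingCat.of C₁) :=
    Spec.map (CommRingCat.ofHom (Ideal.Quotient.mk J))
  have hoQ : oQ ≫ jC = jC₁ ≫ oC := by
    simp only [oQ, jC, jC₁, oC, ← Spec.map_comp]
    rfl
  have hoC : Set.range oC = (PrimeSpectrum.basicOpen r : Set (PrimeSpectrum C)) :=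
    PrimeSpectrum.localization_away_comap_range _ r
  have hrW : Set.range (oC ≫ lC) ⊆ W₁ := by
    rintro _ ⟨q, rfl⟩
    exact (hrle ((Set.ext_iff.1 hoC _).1 ⟨q, rfl⟩)).2
  have hrU : Set.range (oQ ≫ lU) ⊆ U₁ := by
    rintro _ ⟨q, rfl⟩
    have : jC (oQ q) ∈ Ωo := by
      refine (hrle ((Set.ext_iff.1 hoC _).1 ⟨jC₁ q, ?_⟩)).1
      exact (congr(($hoQ) q)).symm
    exact (Set.ext_iff.1 hΩ (oQ q)).1 this
  let lW₁ := IsOpenImmersion.lift W₁.ι (oC ≫ lC) (by rw [Scheme.Opens.range_ι]; exact hrW)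
  let lU₁ := IsOpenImmersion.lift U₁.ι (oQ ≫ lU) (by rw [Scheme.Opens.range_ι]; exact hrU)
  obtain ⟨χ, hχ⟩ := Spec.map_surjective (lW₁ ≫ hW₁.isoSpec.hom)
  obtain ⟨φR, hφR⟩ := Spec.map_surjective (lU₁ ≫ hU₁.isoSpec.hom)
  have hχ' : Spec.map χ ≫ hW₁.fromSpec = oC ≫ lC := by
    rw [hχ, Category.assoc, IsAffineOpen.isoSpec_hom_fromSpec, IsOpenImmersion.lift_fac]
  have hφR' : Spec.map φR ≫ hU₁.fromSpec = oQ ≫ lU := by
    rw [hφR, Category.assoc, IsAffineOpen.isoSpec_hom_fromSpec, IsOpenImmersion.lift_fac]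
  let η := hUW.left.appLE W₁ U₁ hle
  have hη : Spec.map η ≫ hW₁.fromSpec = hU₁.fromSpec ≫ hUW.left := hW₁.SpecMap_appLE_fromSpec _ hU₁ hle
  have hcomp : η ≫ φR = χ ≫ CommRingCat.ofHom (Ideal.Quotient.mk J) := by
    apply Spec.map_injective
    rw [← cancel_mono hW₁.fromSpec, Spec.map_comp, Spec.map_comp, Category.assoc, Category.assoc, hη, hχ',
      reassoc_of% hφR', hsqW]
    change _ = jC₁ ≫ oC ≫ lC
    rw [← Category.assoc, hoQ, Category.assoc]
  obtain ⟨D, _, ψ, ρ, hψ, hρη, hbij, hρmk⟩ :=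
    exists_etale_lift_of_standardSmooth η.hom hstd χ.hom J φR.hom congr($(hcomp).hom)
  let φD : A →+* D := ψ.comp φ₁
  let V : Over S := Over.mk (Spec.map (CommRingCat.ofHom φD) ≫ str)
  let eV : V ⟶ Over.mk str := Over.homMk (Spec.map (CommRingCat.ofHom φD)) rfl
  have hφD : φD.Etale := RingHom.Etale.stableUnderComposition φ₁ ψ
    (RingHom.Etale.stableUnderComposition φ (algebraMap C C₁) hφ
      (RingHom.etale_algebraMap.2 (Algebra.Etale.of_isLocalizationAway r))) hψ
  have heV : Etale eV.left := (HasRingHomProperty.Spec_iff (P := @Etale)).2 hφD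
  let lD : Spec (CommRingCat.of D) ⟶ U.left := Spec.map (CommRingCat.ofHom ρ) ≫ hU₁.fromSpec
  have hlD : lD ≫ hUW.left = eV.left ≫ wA.left := by
    simp only [lD, Category.assoc]
    rw [← hη, ← Spec.map_comp_assoc, show η ≫ CommRingCat.ofHom ρ = χ ≫ CommRingCat.ofHom ψ from
      CommRingCat.hom_ext hρη, Spec.map_comp_assoc, hχ']
    simp only [oC, lC, eV, ← Spec.map_comp_assoc]
    rfl
  let lV : V ⟶ U := Over.homMk lD (by
    rw [← Over.w hUW, reassoc_of% hlD, Over.w wA]
    rfl)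
  have hlV : lV ≫ hUW = eV ≫ wA := Over.OverMorphism.ext hlD
  refine ⟨V, (yon S).map eV ≫ y, (yon S).map lV ≫ aU ≫ pullback.fst f c,
    (repWith_isMultiplicative _).comp_mem _ _ ((repWith_yon_map_iff _ _).2 heV) hy, ?_, ?_, ?_⟩
  · obtain ⟨q₁, hq₁⟩ : jC z ∈ Set.range oC := (Set.ext_iff.1 hoC _).2 hzr
    have hq₁' : q₁ ∈ Set.range jC₁ := by
      change q₁ ∈ Set.range (PrimeSpectrum.comap (Ideal.Quotient.mk J))
      rw [range_comap_of_surjective _ _ Ideal.Quotient.mk_surjective, Ideal.mk_ker]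
      change (J : Set C₁) ⊆ q₁.asIdeal
      rw [SetLike.coe_subset_coe, Ideal.map_le_iff_le_comap, ← Ideal.comap_comap]
      have hz' : (oC q₁).asIdeal = (jC z).asIdeal := congrArg PrimeSpectrum.asIdeal hq₁
      change I ≤ Ideal.comap φ (oC q₁).asIdeal
      rw [hz', ← Ideal.map_le_iff_le_comap]
      intro m hm
      change Ideal.Quotient.mk (I.map φ) m ∈ z.asIdeal
      rw [Ideal.Quotient.eq_zero_iff_mem.2 hm]
      exact zero_mem _
    obtain ⟨q₀, rfl⟩ := hq₁'
    let qm := Ideal.quotientMap (J.map ψ) ψ Ideal.le_comap_map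
    let qe := RingEquiv.ofBijective qm hbij
    let d : ↥(Spec (CommRingCat.of D)) :=
      Spec.map (CommRingCat.ofHom ((qe.symm.toRingHom).comp (Ideal.Quotient.mk (J.map ψ)))) q₀
    refine ⟨d, ?_⟩
    rw [Groth.Agent.AlgSpB.ofPt_map_comp]
    have : eV.left d = t := by
      have h1 : Spec.map (CommRingCat.ofHom ψ) d = jC₁ q₀ := by
        have h0 : CommRingCat.ofHom ψ ≫
            CommRingCat.ofHom ((qe.symm.toRingHom).comp (Ideal.Quotient.mk (J.map ψ))) =
              CommRingCat.ofHom (Ideal.Quotient.mk J) := by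
          ext x
          change qe.symm (qm (Ideal.Quotient.mk J x)) = _
          exact (RingEquiv.symm_apply_apply qe (Ideal.Quotient.mk J x) :)
        rw [← Scheme.Hom.comp_apply, ← Spec.map_comp, h0]
      have h2 : eV.left d = Spec.map (CommRingCat.ofHom φ) (oC (Spec.map (CommRingCat.ofHom ψ) d)) := by
        simp only [eV, oC, ← Scheme.Hom.comp_apply, ← Spec.map_comp]
        rfl
      rw [h2, h1, hq₁, ← ht₀, ← hx, ← hz]
      have h4 : k ≫ π.left ≫ jA.left = jC ≫ Spec.map (CommRingCat.ofHom φ) := by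
        rw [reassoc_of% hk]
        simp only [jA, jC, Over.homMk_left, ← Spec.map_comp]
        rfl
      exact (congr(($h4) z)).symm
    rw [this, hyt]
  · rw [Category.assoc, Category.assoc, pullback.condition]
    rw [← Category.assoc aU, ← hhUW, ← Category.assoc, ← Functor.map_comp, hlV, Functor.map_comp,
      Category.assoc, hwA, Category.assoc]
  · intro P p₁ p₂ hP
    let OD : Over S := Over.mk (Spec.map (CommRingCat.ofHom (Ideal.Quotient.mk (I.map φD))) ≫ V.hom)
    let jD : OD ⟶ V := Over.homMk (Spec.map (CommRingCat.ofHom (Ideal.Quotient.mk (I.map φD)))) rfl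
    let toA : OD ⟶ O₀ := Over.homMk
      (Spec.map (CommRingCat.ofHom (Ideal.quotientMap (I.map φD) φD Ideal.le_comap_map))) (by
      simp only [OD, V, O₀, Over.mk_left, Over.mk_hom, ← Spec.map_comp_assoc]
      rfl)
    have sqD : IsPullback ((yon S).map toA) ((yon S).map jD) ((yon S).map jA) ((yon S).map eV) :=
      (IsPullback.of_map (Over.forget S) (f := toA) (g := jD) (h := jA) (i := eV) (Over.OverMorphism.ext (by
        change Spec.map _ ≫ Spec.map _ = Spec.map _ ≫ Spec.map _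
        rw [← Spec.map_comp, ← Spec.map_comp]; rfl))
        (InfRing.isPullback_quotient I φD).flip).map (yon S)
    have hPD : IsPullback ((yon S).map toA ≫ k₀) ((yon S).map jD) i ((yon S).map eV ≫ y) :=
      sqD.paste_horiz sqk
    have key : (yon S).map jD ≫ (yon S).map lV ≫ aU ≫ pullback.fst f c = (yon S).map toA ≫ k₀ ≫ a := by
      let qm := Ideal.quotientMap (J.map ψ) ψ Ideal.le_comap_map
      have hJD : J.map ψ = I.map φD := Ideal.map_map _ _
      let qmD : C₁ ⧸ J →+* D ⧸ I.map φD := (Ideal.quotEquivOfEq hJD).toRingHom.comp qm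
      let kD : Spec (CommRingCat.of (D ⧸ I.map φD)) ⟶ Spec (CommRingCat.of (C ⧸ I.map φ)) :=
        Spec.map (CommRingCat.ofHom (qmD.comp qr))
      have hkD : kD ≫ k ≫ π.left = toA.left := by
        rw [hk]
        simp only [kD, toA, Over.homMk_left, ← Spec.map_comp]
        congr 1
        ext x
        rfl
      let kO : OD ⟶ haU.1.pullback σ := Over.homMk (kD ≫ k) (by
        rw [← Over.w π, Category.assoc, reassoc_of% hkD]
        exact Over.w toA)
      have hkO : kO ≫ π = toA := Over.OverMorphism.ext ((Category.assoc _ _ _).trans hkD)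
      have hvkO : jD ≫ lV = kO ≫ v := by
        apply Over.OverMorphism.ext
        change Spec.map _ ≫ lD = (kD ≫ k) ≫ v.left
        simp only [lD, Category.assoc]
        rw [← Spec.map_comp_assoc]
        have : CommRingCat.ofHom ρ ≫ CommRingCat.ofHom (Ideal.Quotient.mk (I.map φD)) =
            φR ≫ CommRingCat.ofHom qmD := by
          ext x
          have h := congr(Ideal.quotEquivOfEq hJD ($hρmk x))
          exact h
        rw [this, Spec.map_comp_assoc, hφR']
        simp only [oQ, kD, lU, ← Spec.map_comp_assoc]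
        rfl
      rw [← Category.assoc, ← Functor.map_comp, hvkO, Functor.map_comp, hv, Category.assoc,
        ← Category.assoc (haU.1.fst σ), (haU.1.isPullback σ).w, ← hkO, Functor.map_comp]
      simp only [σ, π, Category.assoc, pullback.lift_fst]
    obtain ⟨E, hE₁, hE₂⟩ : ∃ E : P ⟶ (yon S).obj OD, E ≫ (yon S).map toA ≫ k₀ = p₁ ∧ E ≫ (yon S).map jD = p₂ :=
      ⟨hPD.lift p₁ p₂ hP.w, hPD.lift_fst .., hPD.lift_snd ..⟩
    rw [← hE₂, Category.assoc, key, ← hE₁]
    simp only [Category.assoc]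

end Groth.Agent.AlgSpCov
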