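import Groth.Agent.AlgSpCov.LargestOpen

/-!
# Properties smooth local on source-and-target
-/

universe u

open CategoryTheory CategoryTheory.Limits AlgebraicGeometry Opposite

set_option backward.isDefEq.respectTransparency false

namespace Groth.Agent.AlgSpCov

open _root_.AlgSp
open Groth.Agent.AlgSp (isAlgSpace_pullback)

variable {S : Scheme.{u}}

theorem smooth_id {X : Sp S} (hX : IsAlgSpace X) : LocP @Smooth (𝟙 X) :=
  openClass_smooth.of_openImm hX hX _ ((RepWith @IsOpenImmersion).id_mem _)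

theorem etale_id {X : Sp S} (hX : IsAlgSpace X) : IsEtaleMor (𝟙 X) :=
  openClass_etale.of_openImm hX hX _ ((RepWith @IsOpenImmersion).id_mem _)

theorem smooth_of_etale {X Y : Sp S} {f : X ⟶ Y} (hf : IsEtaleMor f) : LocP @Smooth f :=
  fun _ _ a b h ha hb w => have : Etale h.left := locP_etale_of_isEtaleMor hf a b h ha hb w; inferInstance

variable {P : MorphismProperty (Sp S)}

theorem smST_source (hP : IsSmoothLocalST P) : IsLocalOnSource (IsSmCover (S := S)) P := by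
  intro ι X Xi g hX hXi hg Y f hY
  refine ⟨fun hf i => hP.precomp (hXi i) hX hY (g i) f (hg.1 i) hf,
    fun h => (hP.locality hX hY f).2 fun x => ?_⟩
  obtain ⟨i, z, hz⟩ := hg.2 x
  exact ⟨Xi i, Y, g i, 𝟙 Y, g i ≫ f, z, hXi i, hY, hg.1 i, smooth_id hY, (Category.comp_id _).symm, hz, h i⟩

theorem smST_base (hP : IsSmoothLocalST P) : IsLocalOnBase (IsSmCover (S := S)) P := by
  intro ι Y Yi g hY hYi hg X f hX Xi p q hXi sq
  refine ⟨fun hf i => hP.baseChange hX hY (hXi i) (hYi i) f (g i) (p i) (q i) (sq i) (hg.1 i) hf,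
    fun h => (hP.locality hX hY f).2 fun x => ?_⟩
  obtain ⟨i, z, hz⟩ := hg.2 (Points.map f x)
  obtain ⟨v, hv, -⟩ := AlgSpB.exists_of_isPullback (sq i) x z hz.symm
  exact ⟨Xi i, Yi i, q i, g i, p i, v, hXi i, hYi i,
    openClass_smooth.baseChange hX hY (hXi i) (hYi i) f (g i) (p i) (q i) (sq i) (hg.1 i), hg.1 i, (sq i).w, hv, h i⟩

theorem smST_postcomp (hP : IsSmoothLocalST P) {X Y Z : Sp S} (hX : IsAlgSpace X) (hY : IsAlgSpace Y)
    (hZ : IsAlgSpace Z) (f : X ⟶ Y) (g : Y ⟶ Z) (hf : P f) (hg : LocP @Smooth g) : P (f ≫ g) :=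
  (hP.locality hX hZ _).2 fun x => ⟨X, Y, 𝟙 X, g, f, x, hX, hY, smooth_id hX, hg, Category.id_comp _, Points.map_id x, hf⟩

theorem etST_source (hP : IsEtaleSmoothLocalST P) : IsLocalOnSource (IsEtCover (S := S)) P := by
  intro ι X Xi g hX hXi hg Y f hY
  refine ⟨fun hf i => hP.precomp (hXi i) hX hY (g i) f (hg.1 i) hf,
    fun h => (hP.locality hX hY f).2 fun x => ?_⟩
  obtain ⟨i, z, hz⟩ := hg.2 x
  exact ⟨Y, X, Xi i, 𝟙 Y, 𝟙 X, f, g i, z, hY, hX, hXi i, smooth_id hY, IsPullback.of_id_fst .., hg.1 i,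
    by rw [Category.comp_id]; exact hz, h i⟩

theorem etST_base (hP : IsEtaleSmoothLocalST P) : IsLocalOnBase (IsSmCover (S := S)) P := by
  intro ι Y Yi g hY hYi hg X f hX Xi p q hXi sq
  refine ⟨fun hf i => hP.baseChange hX hY (hXi i) (hYi i) f (g i) (p i) (q i) (sq i) (hg.1 i) hf,
    fun h => (hP.locality hX hY f).2 fun x => ?_⟩
  obtain ⟨i, z, hz⟩ := hg.2 (Points.map f x)
  obtain ⟨v, hv, -⟩ := AlgSpB.exists_of_isPullback (sq i) x z hz.symm
  exact ⟨Yi i, Xi i, Xi i, g i, q i, p i, 𝟙 _, v, hYi i, hXi i, hXi i, hg.1 i, sq i, etale_id (hXi i),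
    by rw [Category.id_comp]; exact hv, by rw [Category.id_comp]; exact h i⟩

theorem etST_postcomp (hP : IsEtaleSmoothLocalST P) {X Y Z : Sp S} (hX : IsAlgSpace X) (hY : IsAlgSpace Y)
    (hZ : IsAlgSpace Z) (f : X ⟶ Y) (g : Y ⟶ Z) (hf : P f) (hg : IsEtaleMor g) : P (f ≫ g) := by
  have sq := IsPullback.of_hasPullback (f ≫ g) g
  have hW := isAlgSpace_pullback hZ hX hY (f ≫ g) g
  let e : X ⟶ pullback (f ≫ g) g := pullback.lift (𝟙 X) f (Category.id_comp _)
  have he : e ≫ pullback.fst (f ≫ g) g = 𝟙 X := pullback.lift_fst _ _ _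
  have hee : IsEtaleMor e := (isEtaleMor_iff_locP_etale hX hW).2
    (Groth.Agent.AlgSp.locP_of_comp etaleLocal_etale (P := @Etale) (Q := @Etale) (R := @Etale)
      (fun _ _ _ e h h₁ h₂ => MorphismProperty.of_postcomp @Etale e h h₂ h₁) hX e (pullback.fst (f ≫ g) g)
      (by rw [he]; exact locP_etale_of_isEtaleMor (etale_id hX))
      (locP_etale_of_isEtaleMor (openClass_etale.baseChange hX hZ hW hY _ g _ _ sq hg)))
  refine (hP.locality hX hZ _).2 fun x => ⟨Y, _, X, g, _, _, e, x, hY, hW, hX, smooth_of_etale hg, sq, hee,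
    by rw [he]; exact Points.map_id x, ?_⟩
  rw [show e ≫ pullback.snd (f ≫ g) g = f from pullback.lift_snd _ _ _]
  exact hf

theorem etST_cancel (hP : IsEtaleSmoothLocalST P) {X Y Z : Sp S} (hX : IsAlgSpace X) (hY : IsAlgSpace Y)
    (hZ : IsAlgSpace Z) (f : X ⟶ Y) (g : Y ⟶ Z) (hg : IsEtaleMor g) (hfg : P (f ≫ g)) : P f := by
  have sq := IsPullback.of_hasPullback (f ≫ g) g
  have hW := isAlgSpace_pullback hZ hX hY (f ≫ g) g
  let e : X ⟶ pullback (f ≫ g) g := pullback.lift (𝟙 X) f (Category.id_comp _)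
  have he : e ≫ pullback.fst (f ≫ g) g = 𝟙 X := pullback.lift_fst _ _ _
  have hee : IsEtaleMor e := (isEtaleMor_iff_locP_etale hX hW).2
    (Groth.Agent.AlgSp.locP_of_comp etaleLocal_etale (P := @Etale) (Q := @Etale) (R := @Etale)
      (fun _ _ _ e h h₁ h₂ => MorphismProperty.of_postcomp @Etale e h h₂ h₁) hX e (pullback.fst (f ≫ g) g)
      (by rw [he]; exact locP_etale_of_isEtaleMor (etale_id hX))
      (locP_etale_of_isEtaleMor (openClass_etale.baseChange hX hZ hW hY _ g _ _ sq hg)))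
  rw [← show e ≫ pullback.snd (f ≫ g) g = f from pullback.lift_snd _ _ _]
  exact hP.precomp hX hW hY e _ hee (hP.baseChange hX hZ hW hY _ g _ _ sq (smooth_of_etale hg) hfg)

/-- A property local on source and base for smooth coverings and stable under smooth postcomposition is smooth
local on source-and-target. -/
theorem isSmoothLocalST_of_local (h1 : IsLocalOnSource (IsSmCover (S := S)) P)
    (h2 : IsLocalOnBase (IsSmCover (S := S)) P)
    (h3 : ∀ ⦃X Y Z : Space S⦄ (f : X ⟶ Y) (g : Y ⟶ Z), P f.hom → LocP @Smooth g.hom → P (f ≫ g).hom) :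
    IsSmoothLocalST P where
  precomp X Y Z hX hY hZ f g hf hg := by
    let Xi : ULift.{u} Bool → Sp S := fun b => match b.down with | true => X | false => Y
    let gi : ∀ b, Xi b ⟶ Y := fun ⟨b⟩ => match b with | true => f | false => 𝟙 Y
    exact (h1 Xi gi hY (fun ⟨b⟩ => by cases b <;> assumption)
      ⟨fun ⟨b⟩ => by cases b; exacts [smooth_id hY, hf], fun y => ⟨⟨false⟩, y, Points.map_id y⟩⟩ g hZ).1 hg ⟨true⟩
  baseChange X Y X' Y' hX hY hX' hY' f g f' g' sq hg hf :=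
    of_isLocalOnBase_baseChange openClass_smooth h2 hX hY hX' hY' sq hg hf
  locality X Y hX hY f := by
    refine ⟨fun hf x => ⟨X, Y, 𝟙 X, 𝟙 Y, f, x, hX, hY, smooth_id hX, smooth_id hY, by simp, Points.map_id x, hf⟩,
      fun H => ?_⟩
    obtain ⟨U₀, a₀, hae, has⟩ := hX.atlas
    choose U V a b h v hU hV ha hb w hv hh using fun t : U₀.left => H (Points.ofPt a₀ t)
    refine (h1 U a hX hU ⟨ha, fun x => ?_⟩ f hY).2 fun t => ?_
    · obtain ⟨t, rfl⟩ := AlgSpB.surjective_ofPt has x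
      exact ⟨t, v t, hv t⟩
    · rw [w t]
      exact h3 (X := ⟨U t, hU t⟩) (Y := ⟨V t, hV t⟩) (Z := ⟨Y, hY⟩) (ObjectProperty.homMk (h t))
        (ObjectProperty.homMk (b t)) (hh t) (hb t)

end Groth.Agent.AlgSpCov
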