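import Mathlib.RingTheory.RingHom.StandardSmooth
import Mathlib.RingTheory.RingHom.Etale
import Mathlib.RingTheory.Unramified.Basic
import Mathlib.RingTheory.Ideal.IdempotentFG
import Mathlib.RingTheory.Localization.Away.Lemmas

/-!
# Lifting maps out of standard smooth algebras after an etale extension
-/

universe u

open scoped TensorProduct

namespace Groth.Agent.AlgSpCov

/-- The kernel of a section of a finite type, formally unramified algebra is generated by an idempotent. -/
theorem exists_idempotent_ker {C q B : Type u} [CommRing C] [CommRing q] [CommRing B] [Algebra C q] [Algebra C B]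
    [Algebra.FormallyUnramified C q] [Algebra.FiniteType C q] (σ : q →ₐ[C] B) (s : B →ₐ[C] q)
    (hs : σ.comp s = AlgHom.id C B) :
    ∃ e : q, IsIdempotentElem e ∧ RingHom.ker σ = Ideal.span {e} := by
  have hσs : ∀ b, σ (s b) = b := fun b => congr($hs b)
  let K : Ideal q := RingHom.ker σ
  have hidem : K * K = K := by
    refine le_antisymm Ideal.mul_le_left fun x hx => ?_
    have hsq : (K.map (Ideal.Quotient.mk (K * K))) ^ 2 = ⊥ := by
      rw [pow_two, ← Ideal.map_mul, Ideal.map_quotient_self]
    have heq : Ideal.Quotient.mkₐ C (K * K) = (Ideal.Quotient.mkₐ C (K * K)).comp (s.comp σ) := by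
      refine Algebra.FormallyUnramified.comp_injective _ hsq (AlgHom.ext fun y => ?_)
      change Ideal.Quotient.mk _ (Ideal.Quotient.mk _ y) = Ideal.Quotient.mk _ (Ideal.Quotient.mk _ (s (σ y)))
      rw [Ideal.Quotient.eq, ← map_sub]
      exact Ideal.mem_map_of_mem _ (by simp [K, RingHom.mem_ker, hσs])
    have := congr($heq x)
    simp only [Ideal.Quotient.mkₐ_eq_mk, AlgHom.comp_apply, show σ x = 0 from hx, map_zero,
      Ideal.Quotient.eq_zero_iff_mem] at this
    exact this
  have hfg : K.FG := by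
    classical
    obtain ⟨t, ht⟩ := Algebra.FiniteType.out (R := C) (A := q)
    refine ⟨t.image fun x => x - s (σ x), le_antisymm (Ideal.span_le.2 fun y hy => ?_) fun x hx => ?_⟩
    · obtain ⟨z, -, rfl⟩ := Finset.mem_image.1 hy
      simp [K, RingHom.mem_ker, hσs]
    · let L : Ideal q := Ideal.span ↑(t.image fun x => x - s (σ x))
      have key : ∀ y : q, y - s (σ y) ∈ L := by
        intro y
        have hy : y ∈ Algebra.adjoin C (t : Set q) := ht ▸ Algebra.mem_top
        induction hy using Algebra.adjoin_induction with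
        | mem z hz => exact Ideal.subset_span (Finset.mem_image_of_mem (f := fun x => x - s (σ x)) hz)
        | algebraMap r => simp
        | add a b _ _ ha hb => simpa [map_add, add_sub_add_comm] using add_mem ha hb
        | mul a b _ _ ha hb =>
          have : a * b - s (σ (a * b)) = (a - s (σ a)) * b + s (σ a) * (b - s (σ b)) := by
            rw [map_mul, map_mul]; ring
          rw [this]
          exact add_mem (Ideal.mul_mem_right _ _ ha) (Ideal.mul_mem_left _ _ hb)
      have hkx : x ∈ L := by simpa [show σ x = 0 from hx] using key x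
      simpa [L, Finset.coe_image] using hkx
  obtain ⟨e, he, hK⟩ := (Ideal.isIdempotentElem_iff_of_fg _ hfg).1 hidem
  exact ⟨e, he, hK⟩

set_option maxHeartbeats 1000000 in
/-- A map from a standard smooth algebra to a quotient of `C` lifts to an etale extension of `C` which has the
same reduction. -/
theorem exists_etale_lift_of_standardSmooth {K R C : Type u} [CommRing K] [CommRing R] [CommRing C]
    (η : K →+* R) (hη : η.IsStandardSmooth) (χ : K →+* C) (J : Ideal C) (φ : R →+* C ⧸ J)
    (hφ : φ.comp η = (Ideal.Quotient.mk J).comp χ) :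
    ∃ (D : Type u) (_ : CommRing D) (ψ : C →+* D) (ρ : R →+* D), ψ.Etale ∧ ρ.comp η = ψ.comp χ ∧
      Function.Bijective (Ideal.quotientMap (J.map ψ) ψ Ideal.le_comap_map) ∧
      (Ideal.Quotient.mk (J.map ψ)).comp ρ = (Ideal.quotientMap (J.map ψ) ψ Ideal.le_comap_map).comp φ := by
  obtain ⟨n, g, hgC, hg⟩ := hη.exists_etale_mvPolynomial
  choose c hc using fun i => Ideal.Quotient.mk_surjective (φ (g (MvPolynomial.X i)))
  let ev : MvPolynomial (Fin n) K →+* C := MvPolynomial.eval₂Hom χ c
  algebraize [g, ev]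
  have hev : φ.comp g = (Ideal.Quotient.mk J).comp ev := by
    refine MvPolynomial.ringHom_ext (fun k => ?_) fun i => ?_
    · have := congr($hφ k)
      rw [← hgC] at this
      simpa [ev] using this
    · simp [ev, hc]
  let C' := C ⊗[MvPolynomial (Fin n) K] R
  let φA : R →ₐ[MvPolynomial (Fin n) K] C ⧸ J :=
    { φ with commutes' := fun p => congr($hev p) }
  let σ : C' →ₐ[C] C ⧸ J := Algebra.TensorProduct.lift (Ideal.Quotient.mkₐ C J) φA (fun _ _ => Commute.all _ _)
  let J' : Ideal C' := J.map (algebraMap C C')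
  have hJ' : J' ≤ RingHom.ker σ := Ideal.map_le_iff_le_comap.2 fun x hx => by
    rw [Ideal.mem_comap, RingHom.mem_ker, AlgHom.commutes]
    exact Ideal.Quotient.eq_zero_iff_mem.2 hx
  let σ' : C' ⧸ J' →ₐ[C] C ⧸ J := Ideal.Quotient.liftₐ J' σ fun x hx => RingHom.mem_ker.1 (hJ' hx)
  let s : C ⧸ J →ₐ[C] C' ⧸ J' := Ideal.Quotient.liftₐ J (Algebra.ofId C (C' ⧸ J')) fun x hx => by
    change Ideal.Quotient.mk J' (algebraMap C C' x) = 0
    exact Ideal.Quotient.eq_zero_iff_mem.2 (Ideal.mem_map_of_mem _ hx)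
  have hσ's : σ'.comp s = AlgHom.id C (C ⧸ J) := Ideal.Quotient.algHom_ext C (AlgHom.ext fun x => by
    change σ' (algebraMap C (C' ⧸ J') x) = algebraMap C (C ⧸ J) x
    exact σ'.commutes x)
  obtain ⟨e, he, hker⟩ := exists_idempotent_ker σ' s hσ's
  obtain ⟨g', hg'⟩ := Ideal.Quotient.mk_surjective (1 - e)
  let D := Localization.Away g'
  let ψ : C →+* D := algebraMap C D
  have hσ'e : σ' e = 0 := RingHom.mem_ker.1 (hker ▸ Ideal.subset_span rfl)
  have hσg : σ g' = 1 := by
    have : σ' (Ideal.Quotient.mk J' g') = 1 := by rw [hg', map_sub, hσ'e, map_one, sub_zero]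
    exact this
  have hψJ : ∀ x ∈ J', algebraMap C' D x ∈ J.map ψ := by
    intro x hx
    have : J'.map (algebraMap C' D) = J.map ψ := by
      rw [Ideal.map_map, ← IsScalarTower.algebraMap_eq]
    exact this ▸ Ideal.mem_map_of_mem _ hx
  let τ : C' ⧸ J' →+* D ⧸ J.map ψ :=
    Ideal.Quotient.lift J' ((Ideal.Quotient.mk _).comp (algebraMap C' D)) fun x hx =>
      Ideal.Quotient.eq_zero_iff_mem.2 (hψJ x hx)
  have hτe : τ e = 0 := by
    have h1 : IsUnit (τ (1 - e)) := by
      rw [← hg']
      exact (IsLocalization.Away.algebraMap_isUnit g').map (Ideal.Quotient.mk _)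
    have h2 : τ (1 - e) * τ e = 0 := by
      rw [← map_mul, sub_mul, one_mul, he.eq, sub_self, map_zero]
    exact h1.mul_right_eq_zero.1 h2
  let qm := Ideal.quotientMap (J.map ψ) ψ Ideal.le_comap_map
  have key : ∀ x : C', Ideal.Quotient.mk (J.map ψ) (algebraMap C' D x) = qm (σ x) := by
    intro x
    have hmem : Ideal.Quotient.mk J' x - s (σ x) ∈ RingHom.ker σ' := by
      rw [RingHom.mem_ker, map_sub]
      change σ x - σ' (s (σ x)) = 0
      rw [show σ' (s (σ x)) = σ x from congr($hσ's (σ x)), sub_self]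
    rw [hker, Ideal.mem_span_singleton] at hmem
    obtain ⟨y, hy⟩ := hmem
    have h3 : τ (Ideal.Quotient.mk J' x) = τ (s (σ x)) := by
      rw [← sub_eq_zero, ← map_sub, hy, map_mul, hτe, zero_mul]
    refine h3.trans ?_
    obtain ⟨z, hz⟩ := Ideal.Quotient.mk_surjective (σ x)
    rw [← hz]
    change Ideal.Quotient.mk _ (algebraMap C' D (algebraMap C C' z)) = Ideal.Quotient.mk _ (ψ z)
    rw [← IsScalarTower.algebraMap_apply]
  let σD : D →+* C ⧸ J := IsLocalization.Away.lift (S := D) g' (g := σ.toRingHom)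
    (by change IsUnit (σ g'); rw [hσg]; exact isUnit_one)
  have hσD : ∀ x, σD (algebraMap C' D x) = σ x := fun x => IsLocalization.Away.lift_eq g' _ x
  have hσDψ : ∀ z, σD (ψ z) = Ideal.Quotient.mk J z := fun z => by
    change σD (algebraMap C D z) = _
    rw [IsScalarTower.algebraMap_apply C C' D, hσD, AlgHom.commutes]
    rfl
  refine ⟨D, inferInstance, ψ, (algebraMap C' D).comp (Algebra.TensorProduct.includeRight (A := C) (B := R)
    (R := MvPolynomial (Fin n) K)).toRingHom, RingHom.etale_algebraMap.2 ?_, ?_, ⟨?_, ?_⟩, ?_⟩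
  · exact Algebra.Etale.comp C C' D
  · ext k
    rw [← hgC]
    change algebraMap C' D ((1 : C) ⊗ₜ[MvPolynomial (Fin n) K] g (MvPolynomial.C k)) = algebraMap C D (χ k)
    have h4 : (1 : C) ⊗ₜ[MvPolynomial (Fin n) K] g (MvPolynomial.C k) =
        algebraMap (MvPolynomial (Fin n) K) C' (MvPolynomial.C k) :=
      (Algebra.TensorProduct.includeRight (A := C) (B := R) (R := MvPolynomial (Fin n) K)).commutes _
    rw [h4, IsScalarTower.algebraMap_apply (MvPolynomial (Fin n) K) C C', ← IsScalarTower.algebraMap_apply C C' D]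
    congr 1
    simp [RingHom.algebraMap_toAlgebra, ev]
  · have hle : J.map ψ ≤ RingHom.ker σD := Ideal.map_le_iff_le_comap.2 fun z hz => by
      rw [Ideal.mem_comap, RingHom.mem_ker, hσDψ]
      exact Ideal.Quotient.eq_zero_iff_mem.2 hz
    refine Function.LeftInverse.injective (g := Ideal.Quotient.lift (J.map ψ) σD fun x hx => hle hx) fun z => ?_
    obtain ⟨z, rfl⟩ := Ideal.Quotient.mk_surjective z
    exact hσDψ z
  · intro y
    obtain ⟨y, rfl⟩ := Ideal.Quotient.mk_surjective y
    obtain ⟨⟨x, ⟨_, m, rfl⟩⟩, hxy⟩ := IsLocalization.surj (Submonoid.powers g') y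
    refine ⟨σ x, ?_⟩
    rw [← key, ← hxy, map_mul]
    simp only [map_pow, key, hσg, map_one, one_pow, mul_one]
  · ext r
    change Ideal.Quotient.mk _ (algebraMap C' D ((1 : C) ⊗ₜ r)) = qm (φ r)
    rw [key]
    congr 1
    change (Ideal.Quotient.mk J 1) * φ r = φ r
    rw [map_one, one_mul]

end Groth.Agent.AlgSpCov
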