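import Groth.Agent.AlgSpCov.FpqcDiag
import Groth.Agent.AlgSpB.Diag
import Mathlib.CategoryTheory.MorphismProperty.Local
import Mathlib.AlgebraicGeometry.Sites.Fpqc

/-!
# Properties which are local on the source
-/

universe u

open CategoryTheory CategoryTheory.Limits AlgebraicGeometry Opposite Topology

set_option backward.isDefEq.respectTransparency false

namespace Groth.Agent.AlgSpCov

open _root_.AlgSp

variable {P T : MorphismProperty Scheme.{u}}

section Scheme

/-- A property local at the source for `T`-coverings is kept by precomposing with morphisms in `T`. -/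
theorem comp_of_isLocalAtSource [P.IsLocalAtSource (Scheme.precoverage T)] [T.ContainsIdentities]
    {R W Y : Scheme.{u}} (r : R ⟶ W) (k : W ⟶ Y) (hr : T r) (hk : P k) : P (r ≫ k) := by
  let E : PreZeroHypercover.{u} W :=
    (PreZeroHypercover.singleton.{u} r).sum (PreZeroHypercover.singleton.{u} (𝟙 W))
  have hE : E.presieve₀ ∈ Scheme.precoverage T W := by
    rw [Scheme.presieve₀_mem_precoverage_iff]
    refine ⟨fun x => ⟨.inr ⟨⟩, x, rfl⟩, ?_⟩
    rintro (_ | _)
    · exact hr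
    · exact T.id_mem W
  exact MorphismProperty.IsLocalAtSource.comp (K := Scheme.precoverage T) hE r ⟨Sum.inl ⟨⟩⟩ hk

/-- ... and descends along `T`-coverings of the source. -/
theorem of_family_of_isLocalAtSource [P.IsLocalAtSource (Scheme.precoverage T)] {ι : Type u}
    {U Y : Scheme.{u}} (W : ι → Scheme.{u}) (c : ∀ i, W i ⟶ U) (hc : ∀ i, T (c i))
    (hs : ∀ x : U, ∃ i, x ∈ Set.range (c i)) (h : U ⟶ Y) (H : ∀ i, P (c i ≫ h)) : P h := by
  refine MorphismProperty.IsLocalAtSource.of_forall_comp (K := Scheme.precoverage T)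
    (R := Presieve.ofArrows W c) ?_ ?_
  · rw [Scheme.ofArrows_mem_precoverage_iff]
    exact ⟨hs, hc⟩
  · rintro _ _ ⟨i⟩
    exact H i

/-- The same for fpqc: precomposing with a flat morphism. -/
theorem comp_of_isLocalAtSource_fpqc [P.IsLocalAtSource Scheme.fpqcPrecoverage]
    {R W Y : Scheme.{u}} (r : R ⟶ W) (k : W ⟶ Y) (hr : Flat r) (hk : P k) : P (r ≫ k) := by
  let E : PreZeroHypercover.{u} W :=
    (PreZeroHypercover.singleton.{u} r).sum (PreZeroHypercover.singleton.{u} (𝟙 W))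
  have hE : E.presieve₀ ∈ Scheme.fpqcPrecoverage W := by
    refine ⟨Scheme.presieve₀_mem_qcPrecoverage_iff.2 ?_, ?_⟩
    · have : QuasiCompactCover (PreZeroHypercover.singleton.{u} (𝟙 W)) := by
        have h := Scheme.Hom.singleton_mem_qcPrecoverage (𝟙 W)
        rw [← PreZeroHypercover.presieve₀_singleton.{u}] at h
        exact Scheme.presieve₀_mem_qcPrecoverage_iff.1 h
      exact .of_hom (PreZeroHypercover.sumInr (PreZeroHypercover.singleton.{u} r) (PreZeroHypercover.singleton.{u} (𝟙 W)))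
    · rw [Scheme.presieve₀_mem_precoverage_iff]
      refine ⟨fun x => ⟨.inr ⟨⟩, x, rfl⟩, ?_⟩
      rintro (_ | _)
      · exact hr
      · exact inferInstanceAs (Flat (𝟙 W))
  exact MorphismProperty.IsLocalAtSource.comp (K := Scheme.fpqcPrecoverage) hE r ⟨Sum.inl ⟨⟩⟩ hk

theorem of_singleton_fpqc [P.IsLocalAtSource Scheme.fpqcPrecoverage] {R U Y : Scheme.{u}} (r : R ⟶ U)
    (h : U ⟶ Y) (hr : Presieve.singleton r ∈ Scheme.fpqcPrecoverage U) (H : P (r ≫ h)) : P h := by
  refine MorphismProperty.IsLocalAtSource.of_forall_comp (K := Scheme.fpqcPrecoverage) hr ?_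
  rintro _ _ ⟨⟩
  exact H

theorem of_openCover_fpqc [P.IsLocalAtSource Scheme.fpqcPrecoverage] {U Y : Scheme.{u}} (h : U ⟶ Y)
    (𝒰 : U.OpenCover) (H : ∀ i, P (𝒰.f i ≫ h)) : P h := by
  refine MorphismProperty.IsLocalAtSource.of_forall_comp (K := Scheme.fpqcPrecoverage)
    (Scheme.zariskiPrecoverage_le_fpqcPrecoverage U 𝒰.mem₀) ?_
  rintro _ _ ⟨i⟩
  exact H i

end Scheme

variable {S : Scheme.{u}}

/-- Precomposition half. -/
theorem locP_comp_of_source
    (hA : ∀ ⦃R W Y : Scheme.{u}⦄ (r : R ⟶ W) (k : W ⟶ Y), T r → P k → P (r ≫ k))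
    (hB : ∀ ⦃R U Y : Scheme.{u}⦄ (r : R ⟶ U) (h : U ⟶ Y), Etale r → Surjective r → P (r ≫ h) → P h)
    {X' X Y : Sp S} {g : X' ⟶ X} {f : X ⟶ Y} (hX : IsAlgSpace X) (hY : IsAlgSpace Y) (hg : LocP T g)
    (hf : LocP P f) : LocP P (g ≫ f) := by
  intro U V a b h ha hb w
  have sq := IsPullback.of_hasPullback f b
  obtain ⟨W, e, he, hes⟩ := (AlgSp.isAlgSpace_pullback hY hX (IsAlgSpace.yon_obj V) f b).atlas
  obtain ⟨k, hk⟩ := (yon S).map_surjective (e ≫ pullback.snd f b)
  have hWX : RepWith @Etale (e ≫ pullback.fst f b) := repWith_comp he (repWith_bc sq.flip hb)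
  have hkP : P k.left := hf _ b k hWX hb (by rw [hk, Category.assoc, sq.w, Category.assoc])
  let l := sq.lift (a ≫ g) ((yon S).map h) (by rw [Category.assoc, w])
  obtain ⟨R, r₂, r₁, hR⟩ := exists_pullback he.1 l
  have hr₁ : Etale r₁.left := he.2 l _ r₁ hR
  have hr₁s : Surjective r₁.left := hes.2 l _ r₁ hR
  have hr₂ : T r₂.left := hg ((yon S).map r₁ ≫ a) (e ≫ pullback.fst f b) r₂
    (repWith_comp ((repWith_yon_map_iff _ _).2 hr₁) ha) hWX (by
      have h' := congrArg (· ≫ pullback.fst f b) hR.w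
      simp only [l, Category.assoc, sq.lift_fst] at h'
      simp only [Category.assoc]
      exact h'.symm)
  have hc : r₂ ≫ k = r₁ ≫ h := (yon S).map_injective (by
    rw [Functor.map_comp, Functor.map_comp, hk, ← Category.assoc, hR.w]
    simp [l, Category.assoc])
  refine hB r₁.left h.left hr₁ hr₁s ?_
  rw [← Over.comp_left, ← hc, Over.comp_left]
  exact hA _ _ hr₂ hkP

/-- A chart of the source of `f` is covered by charts of the members of a covering. -/
theorem exists_refinement {ι : Type u} {X : Sp S} (hX : IsAlgSpace X) {Xi : ι → Sp S} {g : ∀ i, Xi i ⟶ X}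
    (hXi : ∀ i, IsAlgSpace (Xi i)) {U : Over S} {a : (yon S).obj U ⟶ X} (ha : RepWith @Etale a) :
    ∃ (W : ι → Over S) (c : ∀ i, W i ⟶ U) (e : ∀ i, (yon S).obj (W i) ⟶ pullback (g i) a),
      (∀ i, RepWith @Etale (e i)) ∧ (∀ i, RepWith @Surjective (e i)) ∧
      (∀ i, e i ≫ pullback.snd (g i) a = (yon S).map (c i)) ∧
      ∀ i, RepWith @Etale (e i ≫ pullback.fst (g i) a) := by
  choose W e he hes using fun i =>
    (AlgSp.isAlgSpace_pullback hX (hXi i) (IsAlgSpace.yon_obj U) (g i) a).atlas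
  choose c hc using fun i => (yon S).map_surjective (e i ≫ pullback.snd (g i) a)
  exact ⟨W, c, e, he, hes, fun i => (hc i).symm,
    fun i => repWith_comp (he i) (repWith_bc (IsPullback.of_hasPullback (g i) a).flip ha)⟩

/-- Descent half, for coverings which are jointly surjective. -/
theorem locP_of_source {ι : Type u} {X : Sp S} (hX : IsAlgSpace X) {Xi : ι → Sp S} {g : ∀ i, Xi i ⟶ X}
    (hXi : ∀ i, IsAlgSpace (Xi i))
    (hF : ∀ ⦃κ : Type u⦄ ⦃U Y : Scheme.{u}⦄ (W : κ → Scheme.{u}) (c : ∀ i, W i ⟶ U), (∀ i, T (c i)) →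
      (∀ x : U, ∃ i, x ∈ Set.range (c i)) → ∀ h : U ⟶ Y, (∀ i, P (c i ≫ h)) → P h)
    (hg : ∀ i, LocP T (g i)) (hs : ∀ x : Points X, ∃ i, x ∈ Set.range (Points.map (g i))) {Y : Sp S}
    {f : X ⟶ Y} (hgf : ∀ i, LocP P (g i ≫ f)) : LocP P f := by
  intro U V a b h ha hb w
  obtain ⟨W, c, e, he, hes, hc, hWX⟩ := exists_refinement hX (g := g) hXi ha
  refine hF (fun i => (W i).left) (fun i => (c i).left)
    (fun i => hg i _ a (c i) (hWX i) ha (by rw [Category.assoc, pullback.condition, ← hc i, Category.assoc]))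
    (fun x => ?_) h.left fun i => ?_
  · obtain ⟨i, z, hz⟩ := hs (Points.ofPt a x)
    obtain ⟨p, -, hp⟩ := AlgSpB.exists_of_isPullback (IsPullback.of_hasPullback (g i) a) z
      (Points.ofScheme U x) (hz.trans (Points.ofPt_eq_map_ofScheme a x))
    obtain ⟨y, hy⟩ := AlgSpB.surjective_ofPt (hes i) p
    refine ⟨i, y, (Points.schemeHomeo U).injective ?_⟩
    change _ = Points.ofScheme U x
    rw [← hp, ← hy, Points.map_ofPt, hc i]
    exact ((Points.ofPt_eq_map_ofScheme ((yon S).map (c i)) y).trans (Points.map_yon_map_apply (c i) y)).symm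
  · exact hgf i _ b (c i ≫ h) (hWX i) hb (by
      rw [Category.assoc, ← Category.assoc (pullback.fst _ _), pullback.condition, Category.assoc, w,
        ← Category.assoc, hc i, Functor.map_comp, Category.assoc])

/-- Descent half for fpqc coverings. -/
theorem locP_of_source_fpqc [P.IsLocalAtSource Scheme.fpqcPrecoverage] {ι : Type u} {X : Sp S}
    (hX : IsAlgSpace X) {Xi : ι → Sp S} {g : ∀ i, Xi i ⟶ X} (hXi : ∀ i, IsAlgSpace (Xi i))
    (hg : IsFpqcCover Xi g) {Y : Sp S} {f : X ⟶ Y} (hgf : ∀ i, LocP P (g i ≫ f)) : LocP P f := by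
  intro U V a b h ha hb w
  obtain ⟨W, c, e, he, hes, hc, hWX⟩ := exists_refinement hX (g := g) hXi ha
  have hcP : ∀ i, P (c i ≫ h).left := fun i => hgf i _ b (c i ≫ h) (hWX i) hb (by
      rw [Category.assoc, ← Category.assoc (pullback.fst _ _), pullback.condition, Category.assoc, w,
        ← Category.assoc, hc i, Functor.map_comp, Category.assoc])
  let E : PreZeroHypercover.{u} U.left :=
    { I₀ := ι, X := fun i => (W i).left, f := fun i => (c i).left }
  have hflat : ∀ i, Flat (c i).left := fun i => hg.1 i _ a (c i) (hWX i) ha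
    (by rw [Category.assoc, pullback.condition, ← hc i, Category.assoc])
  have hpts : ∀ (O : U.left.Opens), IsAffineOpen O → ∃ (κ : Type) (_ : Finite κ) (i : κ → ι)
      (V : ∀ k, (W (i k)).left.Opens), (∀ k, IsCompact (V k : Set (W (i k)).left)) ∧
        ⋃ k, (c (i k)).left '' (V k) = O := by
    intro O hO
    let Z : Over S := Over.mk (O.ι ≫ U.hom)
    have : IsAffine Z.left := hO
    let ι' : Z ⟶ U := Over.homMk O.ι rfl
    obtain ⟨n, V', d, hV', hd, hsd, hl⟩ := hg.2 Z ‹_› ((yon S).map ι' ≫ a)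
    choose i l hli using hl
    let lQ := fun j => (IsPullback.of_hasPullback (g (i j)) a).lift (l j) ((yon S).map (d j ≫ ι'))
      (by rw [hli, Functor.map_comp, Category.assoc])
    choose R r₁ r₂ hR using fun j => exists_pullback (he (i j)).1 (lQ j)
    have hr₂ : ∀ j, Etale (r₂ j).left := fun j => (he (i j)).2 (lQ j) _ (r₂ j) (hR j)
    have hr₂s : ∀ j, Surjective (r₂ j).left := fun j => (hes (i j)).2 (lQ j) _ (r₂ j) (hR j)
    have hrc : ∀ j, r₁ j ≫ c (i j) = r₂ j ≫ d j ≫ ι' := fun j => (yon S).map_injective (by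
      rw [Functor.map_comp, ← hc (i j), ← Category.assoc, (hR j).w]
      simp [lQ, Category.assoc])
    have hK : ∀ j, ∃ K : Set (R j).left, IsCompact K ∧ (r₂ j).left '' K = Set.univ := fun j => by
      have := hr₂ j
      have := hV' j
      obtain ⟨K, -, hKc, hKi⟩ := AlgSpB.exists_isCompact_lift (r₂ j).left (r₂ j).left.isOpenMap Set.univ
        isOpen_univ isCompact_univ (by rw [(hr₂s j).surj.range_eq])
      exact ⟨K, hKc, hKi⟩
    choose K hKc hKi using hK
    have hV : ∀ j, ∃ V : (W (i j)).left.Opens, IsCompact (V : Set (W (i j)).left) ∧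
        (r₁ j).left '' K j ⊆ V ∧ (c (i j)).left '' V ⊆ O := by
      intro j
      let I := {A : (W (i j)).left.affineOpens // (c (i j)).left '' (A.1 : Set (W (i j)).left) ⊆ O}
      have hcov : (r₁ j).left '' K j ⊆ ⋃ A : I, (A.1.1 : Set (W (i j)).left) := by
        rintro _ ⟨x, -, rfl⟩
        have hx : (c (i j)).left ((r₁ j).left x) ∈ O := by
          rw [← Scheme.Hom.comp_apply, ← Over.comp_left, hrc j]
          exact (((d j).left ((r₂ j).left x) : Z.left) : ↥O).2
        obtain ⟨A, hA, hxA, hAO⟩ := exists_isAffineOpen_mem_and_subset (x := (r₁ j).left x)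
          (U := ⟨_, O.2.preimage (c (i j)).left.continuous⟩) hx
        exact Set.mem_iUnion.2 ⟨⟨⟨A, hA⟩, Set.image_subset_iff.2 hAO⟩, hxA⟩
      obtain ⟨t, ht⟩ := ((hKc j).image (r₁ j).left.continuous).elim_finite_subcover
        (fun A : I => (A.1.1 : Set (W (i j)).left)) (fun A => A.1.1.isOpen) hcov
      refine ⟨⟨⋃ A ∈ t, (A.1.1 : Set (W (i j)).left), isOpen_biUnion fun A _ => A.1.1.isOpen⟩,
        t.finite_toSet.isCompact_biUnion fun A _ => A.1.2.isCompact, ht, ?_⟩
      change (c (i j)).left '' (⋃ A ∈ t, _) ⊆ _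
      rw [Set.image_iUnion₂]
      exact Set.iUnion₂_subset fun A _ => A.2
    choose V hVc hVK hVO using hV
    refine ⟨Fin n, inferInstance, i, V, hVc, Set.Subset.antisymm (Set.iUnion_subset hVO) fun x hx => ?_⟩
    obtain ⟨j, y, hy⟩ := hsd (⟨x, hx⟩ : ↥O)
    obtain ⟨z, hz, rfl⟩ : ∃ z ∈ K j, (r₂ j).left z = y := (hKi j).ge (Set.mem_univ y)
    refine Set.mem_iUnion.2 ⟨j, (r₁ j).left z, hVK j ⟨z, hz, rfl⟩, ?_⟩
    rw [← Scheme.Hom.comp_apply, ← Over.comp_left, hrc j]
    change O.ι ((d j).left ((r₂ j).left z)) = x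
    rw [hy]
    rfl
  have hqc : QuasiCompactCover E := ⟨fun {O} hO => by
    obtain ⟨κ, _, i, V, hVc, hVO⟩ := hpts O hO
    exact IsCompactOpenCovered.of_finite i V hVc hVO⟩
  have hmem : E.presieve₀ ∈ Scheme.fpqcPrecoverage U.left := by
    refine ⟨Scheme.presieve₀_mem_qcPrecoverage_iff.2 hqc, ?_⟩
    rw [Scheme.presieve₀_mem_precoverage_iff]
    refine ⟨fun x => ?_, hflat⟩
    obtain ⟨O, hO, hxO, -⟩ := exists_isAffineOpen_mem_and_subset (x := x) (U := (⊤ : U.left.Opens)) trivial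
    obtain ⟨κ, _, i, V, -, hVO⟩ := hpts O hO
    obtain ⟨k, y, -, hy⟩ := Set.mem_iUnion.1 (hVO.ge hxO)
    exact ⟨i k, y, hy⟩
  refine MorphismProperty.IsLocalAtSource.of_forall_comp (K := Scheme.fpqcPrecoverage) hmem ?_
  rintro _ _ ⟨i⟩
  exact hcP i

theorem singleton_etale_mem {T : MorphismProperty Scheme.{u}}
    (hT : ∀ ⦃A B : Scheme.{u}⦄ (e : A ⟶ B), Etale e → T e) {R U : Scheme.{u}} (r : R ⟶ U) (he : Etale r)
    (hs : Surjective r) : Presieve.singleton r ∈ Scheme.precoverage T U := by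
  rw [← PreZeroHypercover.presieve₀_singleton.{u}, Scheme.presieve₀_mem_precoverage_iff]
  exact ⟨fun x => ⟨PUnit.unit.{u + 1}, hs.surj x⟩, fun _ => hT _ he⟩

/-- Locality at the source for schemes gives locality at the source for spaces. -/
theorem isLocalOnSource_locP [P.IsLocalAtSource (Scheme.precoverage T)] [T.ContainsIdentities]
    (hT : ∀ ⦃A B : Scheme.{u}⦄ (e : A ⟶ B), Etale e → T e) (τ : CovNotion S)
    (hτ : ∀ ⦃ι : Type u⦄ ⦃X : Sp S⦄ (Xi : ι → Sp S) (g : ∀ i, Xi i ⟶ X), IsAlgSpace X →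
      (∀ i, IsAlgSpace (Xi i)) → τ Xi g →
      (∀ i, LocP T (g i)) ∧ ∀ x : Points X, ∃ i, x ∈ Set.range (Points.map (g i))) :
    IsLocalOnSource τ (LocP P) := by
  intro ι X Xi g hX hXi hg Y f hY
  obtain ⟨h1, h2⟩ := hτ Xi g hX hXi hg
  refine ⟨fun hf i => locP_comp_of_source (fun _ _ _ r k => comp_of_isLocalAtSource r k)
    (fun R U Y r h he hs H => ?_) hX hY (h1 i) hf,
    locP_of_source hX hXi (fun _ _ _ W c hc hs h => of_family_of_isLocalAtSource W c hc hs h) h1 h2⟩
  refine MorphismProperty.IsLocalAtSource.of_forall_comp (K := Scheme.precoverage T)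
    (singleton_etale_mem hT r he hs) ?_
  rintro _ _ ⟨⟩
  exact H

theorem isLocalOnSource_locP_fpqc [P.IsLocalAtSource Scheme.fpqcPrecoverage] :
    IsLocalOnSource (IsFpqcCover (S := S)) (LocP P) := by
  intro ι X Xi g hX hXi hg Y f hY
  refine ⟨fun hf i => locP_comp_of_source (T := @Flat) (fun _ _ _ r k => comp_of_isLocalAtSource_fpqc r k)
    (fun R U Y r h he hs H => of_singleton_fpqc r h ?_ H) hX hY (hg.1 i) hf,
    locP_of_source_fpqc hX hXi hg⟩
  exact Scheme.fppfPrecoverage_le_fpqcPrecoverage U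
    (singleton_etale_mem (T := @Flat ⊓ @LocallyOfFinitePresentation)
      (fun _ _ e _ => ⟨inferInstance, inferInstance⟩) r he hs)

end Groth.Agent.AlgSpCov
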