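import Groth.Agent.AlgSpCov.ThickTopo
import Groth.Agent.AlgSpCov.Instances
import Groth.Agent.AlgSpCov.LocPBasic
import Groth.Agent.FlatMor.Thickening

/-!
# Charts of cartesian thickenings of algebraic spaces
-/

universe u

open CategoryTheory CategoryTheory.Limits AlgebraicGeometry Opposite

set_option backward.isDefEq.respectTransparency.types false

namespace Groth.Agent.AlgSpCov.ThickCharts

open _root_.AlgSp Groth.Agent.AlgSp

section Ring

open CommRingCat in
/-- Finite type passes through a surjective base change whose upper kernel is nilpotent. -/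
theorem finiteType_of_nilpotent_top {A' B' A B : CommRingCat.{u}} {φ' : A' ⟶ B'} {π : A' ⟶ A} {ψ : B' ⟶ B}
    {φ : A ⟶ B} (h : IsPushout φ' π ψ φ) (hπ : Function.Surjective π.hom)
    (hI : IsNilpotent (RingHom.ker ψ.hom)) (hφ : φ.hom.FiniteType) : φ'.hom.FiniteType := by
  classical
  let _ := φ'.hom.toAlgebra
  let _ : Algebra A' B := (φ' ≫ ψ).hom.toAlgebra
  obtain ⟨hs, hk⟩ := Groth.Agent.Thick.Ring.pushout_surjection h hπ
  let g : B' →ₐ[A'] B := ⟨ψ.hom, fun _ => rfl⟩
  have : Algebra.FiniteType A' B := by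
    change (φ' ≫ ψ).hom.FiniteType
    rw [h.w]
    exact hφ.comp (RingHom.FiniteType.of_surjective _ hπ)
  obtain ⟨t, ht⟩ := this.out
  choose l hl using hs
  let S := Algebra.adjoin A' ((t.image l : Finset B') : Set B')
  have hS : S.map g = ⊤ := by
    rw [← Algebra.adjoin_image, ← ht]
    congr 1
    ext x
    simp [g, hl]
  let M := Subalgebra.toSubmodule S
  have h2 : (⊤ : Submodule A' B') ≤ M ⊔ RingHom.ker π.hom • ⊤ := fun b _ => by
    obtain ⟨s, hs', e⟩ : g b ∈ S.map g := hS ▸ Algebra.mem_top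
    rw [Submodule.mem_sup]
    refine ⟨s, hs', b - s, ?_, by abel⟩
    rw [Ideal.smul_top_eq_map]
    change b - s ∈ (RingHom.ker π.hom).map φ'.hom
    rw [← hk, RingHom.mem_ker, map_sub, sub_eq_zero]
    exact e.symm
  have h3 : ∀ k : ℕ, (⊤ : Submodule A' B') ≤ M ⊔ RingHom.ker π.hom ^ k • ⊤ := fun k => by
    induction k with
    | zero => simp [Ideal.one_eq_top, Ideal.map_top]
    | succ k ih =>
      refine ih.trans (sup_le le_sup_left ?_)
      refine (smul_mono_right _ h2).trans ?_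
      rw [Submodule.smul_sup, ← Submodule.mul_smul, ← pow_succ]
      exact sup_le_sup_right Submodule.smul_le_right _
  obtain ⟨n, hn⟩ := hI
  rw [hk, ← Ideal.map_pow] at hn
  refine ⟨⟨t.image l, eq_top_iff.mpr fun b _ => ?_⟩⟩
  have h4 := h3 n (Submodule.mem_top (x := b))
  obtain ⟨m, hm, z, hz, rfl⟩ := Submodule.mem_sup.1 h4
  rw [Ideal.smul_top_eq_map] at hz
  have hz' : z ∈ (RingHom.ker π.hom ^ n).map φ'.hom := hz
  rw [hn] at hz'
  have : z = 0 := hz'
  rw [this, add_zero]
  exact hm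

/-- Formal unramifiedness passes through a surjective base change whose upper kernel is nilpotent. -/
theorem formallyUnramified_of_nilpotent_top {A' B' A B : CommRingCat.{u}} {φ' : A' ⟶ B'} {π : A' ⟶ A}
    {ψ : B' ⟶ B} {φ : A ⟶ B} (h : IsPushout φ' π ψ φ) (hπ : Function.Surjective π.hom)
    (hI : IsNilpotent (RingHom.ker ψ.hom)) (hφ : φ.hom.FormallyUnramified) :
    φ'.hom.FormallyUnramified := by
  let _ := φ'.hom.toAlgebra
  obtain ⟨n, hK⟩ := hI
  have hM := Groth.Agent.Thick.Ring.subsingleton_kaehler h hπ hφ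
  have : ∀ k, RingHom.ker ψ.hom ^ k • (⊤ : Submodule B' Ω[B'⁄A']) = ⊤ := fun k => by
    induction k with
    | zero => simp [Ideal.one_eq_top, Submodule.top_smul]
    | succ k ih => rw [pow_succ', Submodule.mul_smul, ih, hM]
  have h0 := this n
  rw [hK, Ideal.zero_eq_bot, Submodule.bot_smul] at h0
  exact ⟨(Submodule.subsingleton_iff B').mp (subsingleton_of_bot_eq_top h0)⟩

end Ring

section Scheme

variable {X X' Y Y' : Scheme.{u}} {iX : X ⟶ X'} {iY : Y ⟶ Y'} {f : X ⟶ Y} {f' : X' ⟶ Y'}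

theorem locallyOfFiniteType_of_nilpotent_top [IsClosedImmersion iY]
    (hn : ∀ U : X'.Opens, IsAffineOpen U → IsNilpotent (RingHom.ker (iX.app U).hom))
    (hc : IsPullback iX f f' iY) [LocallyOfFiniteType f] : LocallyOfFiniteType f' := by
  have : IsAffineHom iX := MorphismProperty.of_isPullback hc.flip (inferInstanceAs (IsAffineHom iY))
  rw [HasRingHomProperty.iff_appLE (P := @LocallyOfFiniteType)]
  intro V U e
  obtain ⟨h', h⟩ := Groth.Agent.Thick.Unram.isPushout_appLE hc V.2 U.2 e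
  exact finiteType_of_nilpotent_top h (Groth.Agent.Thick.Unram.app_surjective iY V.2) (hn _ U.2)
    (HasRingHomProperty.appLE @LocallyOfFiniteType f ‹_› ⟨_, V.2.preimage iY⟩ ⟨_, U.2.preimage iX⟩ h')

theorem formallyUnramified_of_nilpotent_top' [IsClosedImmersion iY]
    (hn : ∀ U : X'.Opens, IsAffineOpen U → IsNilpotent (RingHom.ker (iX.app U).hom))
    (hc : IsPullback iX f f' iY) [FormallyUnramified f] : FormallyUnramified f' := by
  rw [HasRingHomProperty.iff_appLE (P := @FormallyUnramified)]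
  intro V U e
  obtain ⟨h', h⟩ := Groth.Agent.Thick.Unram.isPushout_appLE hc V.2 U.2 e
  exact formallyUnramified_of_nilpotent_top h (Groth.Agent.Thick.Unram.app_surjective iY V.2) (hn _ U.2)
    (Groth.Agent.Thick.Unram.appLE_formallyUnramified V.2 U.2 hc h')

end Scheme

variable {S : Scheme.{u}}

/-- A pullback of `i` along an etale chart has bounded nilpotent kernels on affine opens. -/
theorem ker_app_pow_eq_bot {X X' : Sp S} {i : X ⟶ X'} {n : ℕ} (hn : AffLocT (powZero n) i) {U U' : Over S}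
    {a' : (yon S).obj U' ⟶ X'} (ha' : RepWith @Etale a') {a : (yon S).obj U ⟶ X} {iU : U ⟶ U'}
    (sq : IsPullback a ((yon S).map iU) i a') [QuasiCompact iU.left] (W : U'.left.Opens) (hW : IsAffineOpen W) :
    RingHom.ker (iU.left.app W).hom ^ (n + 1) = ⊥ := by
  let WO : Over S := Over.mk (W.ι ≫ U'.hom)
  let W₀ : Over S := Over.mk ((iU.left ⁻¹ᵁ W).ι ≫ U.hom)
  let w : WO ⟶ U' := Over.homMk W.ι rfl
  let w₀ : W₀ ⟶ U := Over.homMk (iU.left ⁻¹ᵁ W).ι rfl
  let s : W₀ ⟶ WO := Over.homMk (iU.left ∣_ W) (by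
    change (iU.left ∣_ W) ≫ W.ι ≫ U'.hom = (iU.left ⁻¹ᵁ W).ι ≫ U.hom
    rw [morphismRestrict_ι_assoc, Over.w iU])
  have sqW : IsPullback w₀ s iU w :=
    IsPullback.of_map (Over.forget S) (Over.OverMorphism.ext (morphismRestrict_ι iU.left W).symm)
      (isPullback_morphismRestrict iU.left W).flip
  have hb : RepWith @Etale ((yon S).map w ≫ a') :=
    (repWith_isMultiplicative _).comp_mem _ _ ((repWith_yon_map_iff _ _).2 (inferInstanceAs (Etale W.ι))) ha'
  have h := hn ((yon S).map w ≫ a') ((yon S).map w₀ ≫ a) s hW hb ((sqW.map (yon S)).paste_horiz sq)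
  change (iU.left ∣_ W).ker ^ (n + 1) = ⊥ at h
  have : IsAffine (W : Scheme.{u}) := hW
  have h1 : ((iU.left ∣_ W).ker ^ (n + 1)).ideal ⟨⊤, isAffineOpen_top _⟩ = ⊥ := by rw [h]; rfl
  rw [Scheme.IdealSheafData.ideal_pow, Pi.pow_apply, Scheme.Hom.ker_apply, morphismRestrict_app] at h1
  have e : W.ι ''ᵁ ⊤ = W := W.ι_image_top
  have key : ∀ (W₂ : U'.left.Opens), W₂ = W → RingHom.ker (iU.left.app W₂).hom ^ (n + 1) = ⊥ →
      RingHom.ker (iU.left.app W).hom ^ (n + 1) = ⊥ := by rintro _ rfl h; exact h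
  refine key _ e (le_bot_iff.1 (le_trans (Ideal.pow_right_mono (fun x hx => ?_) _) h1.le))
  rw [RingHom.mem_ker] at hx
  refine RingHom.mem_ker.2 ?_
  exact (CommRingCat.comp_apply _ _ x).trans ((congrArg _ hx).trans (map_zero _))

/-- A chart of a cartesian square, over a chart of the lower thickening. -/
theorem exists_cart_chart {X X' Y Y' : Sp S} {i : X ⟶ X'} {j : Y ⟶ Y'} {f : X ⟶ Y} {f' : X' ⟶ Y'}
    (hcart : IsPullback i f f' j) {U' V' V : Over S} {a' : (yon S).obj U' ⟶ X'} {b' : (yon S).obj V' ⟶ Y'}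
    {g' : U' ⟶ V'} {b : (yon S).obj V ⟶ Y} {iV : V ⟶ V'} (sqV : IsPullback b ((yon S).map iV) j b')
    (w' : a' ≫ f' = (yon S).map g' ≫ b') :
    ∃ (U : Over S) (a : (yon S).obj U ⟶ X) (g : U ⟶ V) (iU : U ⟶ U'),
      IsPullback a ((yon S).map iU) i a' ∧ a ≫ f = (yon S).map g ≫ b ∧
      IsPullback iU.left g.left g'.left iV.left := by
  obtain ⟨U, iU, g, sqU⟩ := exists_pullback
    (show Representable ((yon S).map g') from ((repWith_yon_map_iff ⊤ g').2 trivial).1) ((yon S).map iV)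
  have hw : ((yon S).map iU ≫ a') ≫ f' = ((yon S).map g ≫ b) ≫ j := by
    rw [Category.assoc, w', Category.assoc, sqV.w, ← Category.assoc, sqU.w, Category.assoc]
  let a := hcart.lift ((yon S).map iU ≫ a') ((yon S).map g ≫ b) hw
  have h1 : a ≫ f = (yon S).map g ≫ b := hcart.lift_snd ..
  have h2 : a ≫ i = (yon S).map iU ≫ a' := hcart.lift_fst ..
  refine ⟨U, a, g, iU, ?_, h1, ?_⟩
  · refine IsPullback.of_right ?_ h2 hcart.flip
    rw [h1, w']
    exact sqU.flip.paste_horiz sqV
  · have := (IsPullback.of_map (yon S) ((yon S).map_injective (by simpa using sqU.w)) sqU).map (Over.forget S)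
    exact this

/-- A property of all charts of `f` gives it for `f'`, given the statement for cartesian thickenings of schemes. -/
theorem locP_of_cart {P : MorphismProperty Scheme.{u}} {X X' Y Y' : Sp S} {i : X ⟶ X'} {j : Y ⟶ Y'}
    {f : X ⟶ Y} {f' : X' ⟶ Y'} (hj : IsThickMor j) (hcart : IsPullback i f f' j)
    (hsch : ∀ ⦃U U' V V' : Over S⦄ (a : (yon S).obj U ⟶ X) (a' : (yon S).obj U' ⟶ X') (iU : U ⟶ U')
      (b : (yon S).obj V ⟶ Y) (b' : (yon S).obj V' ⟶ Y') (iV : V ⟶ V') (g : U ⟶ V) (g' : U' ⟶ V'),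
      RepWith @Etale a → RepWith @Etale a' → RepWith @Etale b → RepWith @Etale b' →
      a ≫ f = (yon S).map g ≫ b → a' ≫ f' = (yon S).map g' ≫ b' →
      IsPullback a ((yon S).map iU) i a' → IsClosedImmersion iV.left → Surjective iV.left →
      IsPullback iU.left g.left g'.left iV.left → P g.left → P g'.left)
    (hf : LocP P f) : LocP P f' := by
  intro U' V' a' b' g' ha' hb' w'
  obtain ⟨V, iV, b, sqV⟩ := hj.1 b'
  obtain ⟨U, a, g, iU, sqU, w, sq⟩ := exists_cart_chart hcart sqV w'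
  have hb : RepWith @Etale b := repWith_bc sqV.flip hb'
  have ha : RepWith @Etale a := repWith_bc sqU.flip ha'
  have hiV : thick iV.left := hj.2 b' b iV sqV
  exact hsch a a' iU b b' iV g g' ha ha' hb hb' w w' sqU hiV.1 hiV.2 sq (hf a b g ha hb w)

/-- The kernel condition of a finite order thickening on every chart. -/
theorem nilpotent_of_finThick {X X' : Sp S} {i : X ⟶ X'} (hi : IsFinThickMor i) {U U' : Over S}
    {a' : (yon S).obj U' ⟶ X'} (ha' : RepWith @Etale a') {a : (yon S).obj U ⟶ X} {iU : U ⟶ U'}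
    (sq : IsPullback a ((yon S).map iU) i a') (W : U'.left.Opens) (hW : IsAffineOpen W) :
    IsNilpotent (RingHom.ker (iU.left.app W).hom) := by
  obtain ⟨n, hth, hn⟩ := hi
  have : IsClosedImmersion iU.left := (hth.2 a' a iU sq).1
  exact ⟨n + 1, ker_app_pow_eq_bot hn ha' sq W hW⟩

end Groth.Agent.AlgSpCov.ThickCharts
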