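import Groth.Agent.AlgSpCov.ThickCharts
import Groth.Agent.AlgSp.Space
import Groth.Agent.Wt.FinOrdThick
import Groth.Agent.Thick.FlatCancel
import Groth.Agent.AlgSpB.Points

/-!
# Deformations of morphisms of algebraic spaces over finite order thickenings, on charts
-/

universe u

open CategoryTheory CategoryTheory.Limits AlgebraicGeometry Opposite

set_option backward.isDefEq.respectTransparency.types false

namespace Groth.Agent.AlgSpCov.ThickDeform

open _root_.AlgSp Groth.Agent.AlgSp Groth.Agent.AlgSpCov.ThickCharts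

variable {S : Scheme.{u}}

/-- A pullback of a finite order thickening along an etale chart is a finite order thickening. -/
theorem isFiniteOrderThickening_chart {X X' : Sp S} {i : X ⟶ X'} (hi : IsFinThickMor i) {U U' : Over S}
    {a' : (yon S).obj U' ⟶ X'} (ha' : RepWith @Etale a') {a : (yon S).obj U ⟶ X} {iU : U ⟶ U'}
    (sq : IsPullback a ((yon S).map iU) i a') : MoreMor.IsFiniteOrderThickening iU.left := by
  obtain ⟨n, hth, hn⟩ := hi
  have hc : IsClosedImmersion iU.left := (hth.2 a' a iU sq).1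
  refine ⟨⟨hc, (hth.2 a' a iU sq).2⟩, n + 1, Scheme.IdealSheafData.ext (funext fun W => ?_)⟩
  rw [Scheme.IdealSheafData.ideal_pow, Pi.pow_apply, Scheme.Hom.ker_apply,
    ker_app_pow_eq_bot hn ha' sq W.1 W.2]
  rfl

/-- The base change of a thickening of the base is a thickening. -/
theorem isThickMor_of_baseChange {X X' B B' : Sp S} {iX : X ⟶ X'} {iB : B ⟶ B'} {h : X ⟶ B} {h' : X' ⟶ B'}
    (hcX : IsPullback iX h h' iB) (hB : IsThickMor iB) : IsThickMor iX :=
  repWith_bc hcX.flip hB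

/-- Properties of the deformed morphism on charts. -/
theorem locP_deform {P : MorphismProperty Scheme.{u}} [P.IsStableUnderBaseChange] [P.IsStableUnderComposition]
    (hP : EtaleLocal P) (hE : ∀ ⦃A B : Scheme.{u}⦄ (e : A ⟶ B), Etale e → P e)
    {X X' Y Y' B B' : Space S} {iX : X ⟶ X'} {iY : Y ⟶ Y'} {iB : B ⟶ B'} {f : X ⟶ Y} {f' : X' ⟶ Y'}
    {g : Y ⟶ B} {g' : Y' ⟶ B'}
    (hcX : IsPullback iX.hom (f ≫ g).hom (f' ≫ g').hom iB.hom) (hcY : IsPullback iY.hom g.hom g'.hom iB.hom)
    (w : iX ≫ f' = f ≫ iY) (hB : IsFinThickMor iB.hom) (hflat : LocP @Flat (f' ≫ g').hom)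
    (hsch : ∀ ⦃A A' B B' C C' : Scheme.{u}⦄ (iA : A ⟶ A') (iB : B ⟶ B') (iC : C ⟶ C') (h : A ⟶ B)
      (h' : A' ⟶ B') (k : B ⟶ C) (k' : B' ⟶ C'), MoreMor.IsFiniteOrderThickening iC →
      IsPullback iA (h ≫ k) (h' ≫ k') iC → IsPullback iB k k' iC → iA ≫ h' = h ≫ iB →
      Flat (h' ≫ k') → P h → P h')
    (hf : LocP P f.hom) : LocP P f'.hom := by
  have hc : IsPullback iX.hom f.hom f'.hom iY.hom :=
    IsPullback.of_bot hcX (congrArg InducedCategory.Hom.hom w) hcY
  obtain ⟨W', c', hc', hc's⟩ := B'.property.atlas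
  obtain ⟨V', b', k', hb', hb's, wk⟩ := exists_chart_lift Y'.property B'.property g'.hom c' hc' hc's
  obtain ⟨U', a', h', ha', ha's, wh⟩ := exists_chart_lift X'.property Y'.property f'.hom b' hb' hb's
  obtain ⟨W, iW, c, sqW⟩ := hB.choose_spec.1.1 c'
  obtain ⟨V, b, k, iV, sqV, wk₀, sk⟩ := exists_cart_chart hcY sqW wk
  obtain ⟨U, a, h, iU, sqU, wh₀, sh⟩ := exists_cart_chart hc sqV wh
  have : Flat (h'.left ≫ k'.left) := hflat a' c' (h' ≫ k') ha' hc' (by
    change a' ≫ f'.hom ≫ g'.hom = _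
    rw [← Category.assoc, wh, Category.assoc, wk, Functor.map_comp, Category.assoc])
  exact locP_of_one_chart hP hE Y'.property ha' ha's hb' wh
    (hsch iU.left iV.left iW.left h.left h'.left k.left k'.left (isFiniteOrderThickening_chart hB hc' sqW)
      (sh.paste_vert sk) sk sh.w this (hf a b h (repWith_bc sqU.flip ha') (repWith_bc sqV.flip hb') wh₀))

/-- Local finite type ascends to the deformation. -/
theorem lft_deform_scheme {A A' B B' C C' : Scheme.{u}} {iA : A ⟶ A'} {iB : B ⟶ B'} {iC : C ⟶ C'}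
    {h : A ⟶ B} {h' : A' ⟶ B'} {k : B ⟶ C} {k' : B' ⟶ C'} (hC : MoreMor.IsFiniteOrderThickening iC)
    (hA : IsPullback iA (h ≫ k) (h' ≫ k') iC) (hB : IsPullback iB k k' iC) (w : iA ≫ h' = h ≫ iB)
    [LocallyOfFiniteType h] : LocallyOfFiniteType h' := by
  have := hC.1.1
  have : IsClosedImmersion iB := MorphismProperty.of_isPullback hB.flip ‹IsClosedImmersion iC›
  exact Groth.Agent.Thick.Unram.locallyOfFiniteType_of_nilpotent
    (Groth.Agent.Wt.FinOrdThick.isNilpotent_ker hC.2 hB) (Groth.Agent.Wt.FinOrdThick.isPullback_top hA hB w)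

/-- Formal unramifiedness ascends to the deformation. -/
theorem fu_deform_scheme {A A' B B' C C' : Scheme.{u}} {iA : A ⟶ A'} {iB : B ⟶ B'} {iC : C ⟶ C'}
    {h : A ⟶ B} {h' : A' ⟶ B'} {k : B ⟶ C} {k' : B' ⟶ C'} (hC : MoreMor.IsFiniteOrderThickening iC)
    (hA : IsPullback iA (h ≫ k) (h' ≫ k') iC) (hB : IsPullback iB k k' iC) (w : iA ≫ h' = h ≫ iB)
    [FormallyUnramified h] : FormallyUnramified h' := by
  have := hC.1.1
  have : IsClosedImmersion iB := MorphismProperty.of_isPullback hB.flip ‹IsClosedImmersion iC›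
  exact Groth.Agent.Thick.Unram.formallyUnramified_of_nilpotent
    (Groth.Agent.Wt.FinOrdThick.isNilpotent_ker hC.2 hB) (Groth.Agent.Wt.FinOrdThick.isPullback_top hA hB w)

/-- Local quasi-finiteness ascends to the deformation. -/
theorem lqf_deform_scheme {A A' B B' C C' : Scheme.{u}} {iA : A ⟶ A'} {iB : B ⟶ B'} {iC : C ⟶ C'}
    {h : A ⟶ B} {h' : A' ⟶ B'} {k : B ⟶ C} {k' : B' ⟶ C'} (hC : MoreMor.IsFiniteOrderThickening iC)
    (hA : IsPullback iA (h ≫ k) (h' ≫ k') iC) (hB : IsPullback iB k k' iC) (w : iA ≫ h' = h ≫ iB)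
    [LocallyQuasiFinite h] [LocallyOfFiniteType h'] : LocallyQuasiFinite h' := by
  have := hC.1.1
  have := hC.1.2
  have : IsClosedImmersion iA := MorphismProperty.of_isPullback hA.flip ‹IsClosedImmersion iC›
  have : Surjective iA := MorphismProperty.of_isPullback hA.flip ‹Surjective iC›
  have : IsClosedImmersion iB := MorphismProperty.of_isPullback hB.flip ‹IsClosedImmersion iC›
  exact (Groth.Agent.Thick.Topo.locallyQuasiFinite_iff iA iB h h' w).1 ‹_›

/-- The middle space of a deformation is flat over the base at the image of the top one. -/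
theorem isFlatAtMor_image {X Y B : Space S} {f : X ⟶ Y} {g : Y ⟶ B} (hf : LocP @Flat f.hom)
    (hflat : LocP @Flat (f ≫ g).hom) (x : Points X.obj) : IsFlatAtMor g.hom (Points.map f.hom x) := by
  intro V W b c k v hb hc wk hv
  have hQ := IsPullback.of_hasPullback f.hom b
  obtain ⟨U, m, hm, hms⟩ := (isAlgSpace_pullback Y.property X.property (IsAlgSpace.yon_obj V) f.hom b).atlas
  obtain ⟨h, hh⟩ := (yon S).map_surjective (m ≫ pullback.snd f.hom b)
  have ha : RepWith @Etale (m ≫ pullback.fst f.hom b) :=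
    (repWith_isMultiplicative _).comp_mem _ _ hm (repWith_bc hQ.flip hb)
  have wh : (m ≫ pullback.fst f.hom b) ≫ f.hom = (yon S).map h ≫ b := by
    rw [Category.assoc, hQ.w, ← Category.assoc, hh]
  rw [Points.ofPt_eq_map_ofScheme] at hv
  obtain ⟨p, -, hp₂⟩ := Groth.Agent.AlgSpB.exists_of_isPullback hQ x (Points.ofScheme V v) hv.symm
  obtain ⟨u, rfl⟩ := Groth.Agent.AlgSpB.surjective_ofPt hms p
  obtain rfl : h.left u = v := by
    refine (Points.schemeHomeo V).injective ?_
    change Points.ofScheme V _ = Points.ofScheme V _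
    rw [← hp₂, Points.map_ofPt, ← hh]
    exact ((Groth.Agent.AlgSpB.ofPt_map_comp h (𝟙 _) u).symm.trans (by rw [Category.comp_id]))
  have : Flat h.left := hf _ b h ha hb wh
  have : Flat (h.left ≫ k.left) := hflat _ c (h ≫ k) ha hc (by
    change _ ≫ f.hom ≫ g.hom = _
    rw [← Category.assoc, wh, Category.assoc, wk, Functor.map_comp, Category.assoc])
  exact Groth.Agent.Thick.FlatCancel.flat_stalkMap_of_comp h.left k.left u (Flat.stalkMap _ u)
    (Flat.stalkMap _ u)

end Groth.Agent.AlgSpCov.ThickDeform
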