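import Groth.Agent.AlgSpCov.ThickCharts
import Groth.Agent.AlgSpD.RelDim
import Groth.Agent.AlgSpD.FibreDimBC
import Groth.Agent.AlgSpB.Points

/-!
# Local properties along cartesian thickenings of algebraic spaces
-/

universe u

open CategoryTheory CategoryTheory.Limits AlgebraicGeometry Opposite

set_option backward.isDefEq.respectTransparency.types false

namespace Groth.Agent.AlgSpCov.ThickCharts

open _root_.AlgSp Groth.Agent.AlgSp

variable {S : Scheme.{u}}

/-- The relative dimension is unchanged along a cartesian thickening. -/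
theorem forall_fibreDimAt_iff {X X' Y Y' : Space S} {i : X ⟶ X'} {j : Y ⟶ Y'} {f : X ⟶ Y} {f' : X' ⟶ Y'}
    (hi : IsThickMor i.hom) (hj : IsThickMor j.hom) (hcart : IsPullback i.hom f.hom f'.hom j.hom)
    (hft' : LocP @LocallyOfFiniteType f'.hom) (d : WithBot ℕ∞) :
    (∀ x, HasAtMor (fun _ _ h u => FlatMor.fibreDimAt h u = d) f.hom x) ↔
      ∀ x', HasAtMor (fun _ _ h u => FlatMor.fibreDimAt h u = d) f'.hom x' := by
  have hh := Groth.Agent.AlgSpCov.ThickTopo.isHomeomorph_map X.property X'.property hi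
  have key : ∀ x', ∃ x, Points.map i.hom x = x' ∧
      (HasAtMor (fun _ _ h u => FlatMor.fibreDimAt h u = d) f.hom x ↔
        HasAtMor (fun _ _ h u => FlatMor.fibreDimAt h u = d) f'.hom x') := by
    intro x'
    obtain ⟨U', V', a', b', g', u', ha', hb', w', rfl⟩ := Groth.Agent.AlgSpD.exists_diagram f' x'
    obtain ⟨V, iV, b, sqV⟩ := hj.1 b'
    obtain ⟨U, a, g, iU, sqU, w, sq⟩ := exists_cart_chart hcart sqV w'
    have hb : RepWith @Etale b := repWith_bc sqV.flip hb'
    have ha : RepWith @Etale a := repWith_bc sqU.flip ha'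
    have : Surjective iU.left := (hi.2 a' a iU sqU).2
    have : LocallyOfFiniteType g'.left := hft' a' b' g' ha' hb' w'
    obtain ⟨u, rfl⟩ := iU.left.surjective u'
    refine ⟨Points.ofPt a u, by rw [Points.map_ofPt, sqU.w, Groth.Agent.AlgSpB.ofPt_map_comp], ?_⟩
    rw [Groth.Agent.AlgSpD.hasAtMor_iff_chart (Groth.Agent.AlgSpD.morEtaleInv_fibreDimAt d) f ha hb w u,
      Groth.Agent.AlgSpD.hasAtMor_iff_chart (Groth.Agent.AlgSpD.morEtaleInv_fibreDimAt d) f' ha' hb' w',
      Groth.Agent.AlgSpD.fibreDimAt_of_isPullback g'.left sq u]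
  refine ⟨fun h x' => ?_, fun h x => ?_⟩
  · obtain ⟨x, -, e⟩ := key x'
    exact e.1 (h x)
  · obtain ⟨y, hy, e⟩ := key (Points.map i.hom x)
    rw [← hh.bijective.1 hy]
    exact e.2 (h _)

end Groth.Agent.AlgSpCov.ThickCharts
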