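import Groth.Agent.AlgSpCov.ThickDeform
import Groth.Agent.AlgSpCov.FlatLocus
import Groth.Agent.FlatOpen.FibreMapAt

/-!
# Deformations of morphisms flat and of finite presentation over a thickened base
-/

universe u

open CategoryTheory CategoryTheory.Limits AlgebraicGeometry Opposite

set_option backward.isDefEq.respectTransparency.types false

namespace Groth.Agent.AlgSpCov.ThickFp

open _root_.AlgSp Groth.Agent.AlgSp Groth.Agent.AlgSpCov.ThickCharts Groth.Agent.AlgSpCov.ThickDeform

section Scheme

variable {A A' B B' C C' : Scheme.{u}} {iA : A ⟶ A'} {iB : B ⟶ B'} {iC : C ⟶ C'}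
  {h : A ⟶ B} {h' : A' ⟶ B'} {k : B ⟶ C} {k' : B' ⟶ C'}

/-- Flatness ascends along a thickening of the base, the source being flat and finitely presented. -/
theorem flat_deform_scheme (hC : MoreMor.IsThickening iC) (hA : IsPullback iA (h ≫ k) (h' ≫ k') iC)
    (hB : IsPullback iB k k' iC) (w : iA ≫ h' = h ≫ iB) [Flat (h' ≫ k')]
    [LocallyOfFinitePresentation (h' ≫ k')] [LocallyOfFiniteType k'] [Flat h] : Flat h' := by
  have : Surjective iA := MorphismProperty.of_isPullback hA.flip hC.2
  refine Flat.of_stalkMap _ fun x => ?_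
  obtain ⟨y, rfl⟩ := iA.surjective x
  exact (FlatLocus.flat_stalkMap_baseChange hB (IsPullback.of_bot hA w hB) y).1 (Flat.stalkMap h y)

/-- Smoothness ascends along a thickening of the base, the source being flat and finitely presented. -/
theorem smooth_deform_scheme (hC : MoreMor.IsThickening iC) (hA : IsPullback iA (h ≫ k) (h' ≫ k') iC)
    (hB : IsPullback iB k k' iC) (w : iA ≫ h' = h ≫ iB) [Flat (h' ≫ k')]
    [LocallyOfFinitePresentation (h' ≫ k')] [LocallyOfFiniteType k'] [Smooth h] : Smooth h' := by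
  have : Flat h' := flat_deform_scheme hC hA hB w
  have : LocallyOfFinitePresentation h' :=
    Groth.Agent.GrpScheme.FlatFib.locallyOfFinitePresentation_of_comp h' k'
  have : IsClosedImmersion iB := MorphismProperty.of_isPullback hB.flip hC.1
  have : Surjective iB := MorphismProperty.of_isPullback hB.flip hC.2
  have key : ∀ x : A', ∃ W : A'.Opens, x ∈ W ∧ Smooth (W.ι ≫ h') := by
    intro x
    rw [Groth.Agent.EtStruct.smooth_nhd_iff]
    obtain ⟨b, hb⟩ := iB.surjective (h' x)
    have hfs := Groth.Agent.FlatOpen.SmoothAt.formallySmooth_stalkMap_iff_fibre h' (h' x) (h'.asFiber x)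
    rw [h'.fiberι_asFiber] at hfs
    refine hfs.2 ⟨Flat.stalkMap _ _, ?_⟩
    have hs : Smooth (h'.fiberToSpecResidueField (h' x)) := by
      rw [← hb]
      have hres : IsIso (iB.residueFieldMap b) :=
        (ConcreteCategory.isIso_iff_bijective _).2 ⟨RingHom.injective _, fun z => by
          obtain ⟨r, rfl⟩ := B.residue_surjective b z
          obtain ⟨q, rfl⟩ := iB.stalkMap_surjective b r
          exact ⟨B'.residue (iB b) q, by
            rw [← CommRingCat.comp_apply, Scheme.residue_residueFieldMap, CommRingCat.comp_apply]⟩⟩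
      let l : Spec (B'.residueField (iB b)) ⟶ B :=
        Spec.map (inv (iB.residueFieldMap b)) ≫ B.fromSpecResidueField b
      have hl : l ≫ iB = B'.fromSpecResidueField (iB b) := by
        rw [Category.assoc, ← Scheme.Hom.SpecMap_residueFieldMap_fromSpecResidueField, ← Category.assoc,
          ← Spec.map_comp]
        simp
      have sq : IsPullback (h'.fiberι (iB b)) (h'.fiberToSpecResidueField (iB b)) h' (l ≫ iB) :=
        hl.symm ▸ IsPullback.of_hasPullback _ _
      have hc := IsPullback.of_bot hA w hB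
      let m := hc.lift (h'.fiberι (iB b)) (h'.fiberToSpecResidueField (iB b) ≫ l)
        (sq.w.trans (Category.assoc _ _ _).symm)
      have sq₀ : IsPullback m (h'.fiberToSpecResidueField (iB b)) h l :=
        IsPullback.of_right ((show m ≫ iA = h'.fiberι (iB b) from hc.lift_fst ..).symm ▸ sq)
          (hc.lift_snd ..) hc
      exact MorphismProperty.of_isPullback sq₀ ‹Smooth h›
    exact (Groth.Agent.EtStruct.smooth_nhd_iff _ _).1 ⟨⊤, trivial,
      MorphismProperty.comp_mem @Smooth _ _ inferInstance hs⟩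
  choose W hxW hW using key
  exact IsZariskiLocalAtSource.of_iSup_eq_top (P := @Smooth) W
    (eq_top_iff.2 fun x _ => TopologicalSpace.Opens.mem_iSup.2 ⟨x, hxW x⟩) hW

/-- Etaleness ascends along a thickening of the base, the source being flat and finitely presented. -/
theorem etale_deform_scheme (hC : MoreMor.IsThickening iC) (hA : IsPullback iA (h ≫ k) (h' ≫ k') iC)
    (hB : IsPullback iB k k' iC) (w : iA ≫ h' = h ≫ iB) [Flat (h' ≫ k')]
    [LocallyOfFinitePresentation (h' ≫ k')] [LocallyOfFiniteType k'] [Etale h] : Etale h' := by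
  have : Flat h' := flat_deform_scheme hC hA hB w
  have : LocallyOfFinitePresentation h' :=
    Groth.Agent.GrpScheme.FlatFib.locallyOfFinitePresentation_of_comp h' k'
  have : IsClosedImmersion iB := MorphismProperty.of_isPullback hB.flip hC.1
  have : Surjective iB := MorphismProperty.of_isPullback hB.flip hC.2
  have := Groth.Agent.Thick.Unram.formallyUnramified_of_locallyOfFiniteType (IsPullback.of_bot hA w hB)
  exact Etale.of_formallyUnramified_of_flat h'

end Scheme

variable {S : Scheme.{u}}

/-- Properties of the deformed morphism on charts. -/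
theorem locP_deform_fp {P : MorphismProperty Scheme.{u}} [P.IsStableUnderBaseChange] [P.IsStableUnderComposition]
    (hP : EtaleLocal P) (hE : ∀ ⦃A B : Scheme.{u}⦄ (e : A ⟶ B), Etale e → P e)
    {X X' Y Y' B B' : Space S} {iX : X ⟶ X'} {iY : Y ⟶ Y'} {iB : B ⟶ B'} {f : X ⟶ Y} {f' : X' ⟶ Y'}
    {g : Y ⟶ B} {g' : Y' ⟶ B'}
    (hcX : IsPullback iX.hom (f ≫ g).hom (f' ≫ g').hom iB.hom) (hcY : IsPullback iY.hom g.hom g'.hom iB.hom)
    (w : iX ≫ f' = f ≫ iY) (hB : IsThickMor iB.hom) (hg' : LocP @LocallyOfFiniteType g'.hom) (hflat : LocP @Flat (f' ≫ g').hom)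
    (hfp : LocP @LocallyOfFinitePresentation (f' ≫ g').hom)
    (hsch : ∀ ⦃A A' B B' C C' : Scheme.{u}⦄ (iA : A ⟶ A') (iB : B ⟶ B') (iC : C ⟶ C') (h : A ⟶ B)
      (h' : A' ⟶ B') (k : B ⟶ C) (k' : B' ⟶ C'), MoreMor.IsThickening iC →
      IsPullback iA (h ≫ k) (h' ≫ k') iC → IsPullback iB k k' iC → iA ≫ h' = h ≫ iB →
      Flat (h' ≫ k') → LocallyOfFinitePresentation (h' ≫ k') → LocallyOfFiniteType k' → P h → P h')
    (hf : LocP P f.hom) : LocP P f'.hom := by
  have hc : IsPullback iX.hom f.hom f'.hom iY.hom :=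
    IsPullback.of_bot hcX (congrArg InducedCategory.Hom.hom w) hcY
  obtain ⟨W', c', hc', hc's⟩ := B'.property.atlas
  obtain ⟨V', b', k', hb', hb's, wk⟩ := exists_chart_lift Y'.property B'.property g'.hom c' hc' hc's
  obtain ⟨U', a', h', ha', ha's, wh⟩ := exists_chart_lift X'.property Y'.property f'.hom b' hb' hb's
  obtain ⟨W, iW, c, sqW⟩ := hB.1 c'
  obtain ⟨V, b, k, iV, sqV, wk₀, sk⟩ := exists_cart_chart hcY sqW wk
  obtain ⟨U, a, h, iU, sqU, wh₀, sh⟩ := exists_cart_chart hc sqV wh
  have : Flat (h'.left ≫ k'.left) := hflat a' c' (h' ≫ k') ha' hc' (by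
    change a' ≫ f'.hom ≫ g'.hom = _
    rw [← Category.assoc, wh, Category.assoc, wk, Functor.map_comp, Category.assoc])
  have hfp' : LocallyOfFinitePresentation (h'.left ≫ k'.left) := hfp a' c' (h' ≫ k') ha' hc' (by
    change a' ≫ f'.hom ≫ g'.hom = _
    rw [← Category.assoc, wh, Category.assoc, wk, Functor.map_comp, Category.assoc])
  exact locP_of_one_chart hP hE Y'.property ha' ha's hb' wh
    (hsch iU.left iV.left iW.left h.left h'.left k.left k'.left (hB.2 c' c iW sqW)
      (sh.paste_vert sk) sk sh.w this hfp' (hg' b' c' k' hb' hc' wk) (hf a b h (repWith_bc sqU.flip ha') (repWith_bc sqV.flip hb') wh₀))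

/-- The deformed morphism is locally of finite presentation. -/
theorem lfp_of_comp_fp {X Y B : Space S} {f : X ⟶ Y} {g : Y ⟶ B} (hg : LocP @LocallyOfFiniteType g.hom)
    (hfp : LocP @LocallyOfFinitePresentation (f ≫ g).hom) : LocP @LocallyOfFinitePresentation f.hom := by
  obtain ⟨W, c, hc, hcs⟩ := B.property.atlas
  obtain ⟨V, b, k, hb, hbs, wk⟩ := exists_chart_lift Y.property B.property g.hom c hc hcs
  obtain ⟨U, a, h, ha, has, wh⟩ := exists_chart_lift X.property Y.property f.hom b hb hbs
  have : LocallyOfFinitePresentation (h.left ≫ k.left) := hfp a c (h ≫ k) ha hc (by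
    change a ≫ f.hom ≫ g.hom = _
    rw [← Category.assoc, wh, Category.assoc, wk, Functor.map_comp, Category.assoc])
  have : LocallyOfFiniteType k.left := hg b c k hb hc wk
  exact locP_of_one_chart etaleLocal_locallyOfFinitePresentation (fun _ _ e he => inferInstance) Y.property ha has hb
    wh (Groth.Agent.GrpScheme.FlatFib.locallyOfFinitePresentation_of_comp h.left k.left)

theorem lft_of_comp_fp {X Y B : Space S} {f : X ⟶ Y} {g : Y ⟶ B} (hg : LocP @LocallyOfFiniteType g.hom)
    (hfp : LocP @LocallyOfFinitePresentation (f ≫ g).hom) : LocP @LocallyOfFiniteType f.hom :=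
  fun U V a b h ha hb w =>
    have : LocallyOfFinitePresentation h.left := lfp_of_comp_fp hg hfp a b h ha hb w
    inferInstance

end Groth.Agent.AlgSpCov.ThickFp
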