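import Groth.Agent.AlgSpCov.ThickCharts
import Groth.Agent.AlgSpCov.UnramMono
import Groth.Agent.AlgSp.FiniteLqf
import Groth.Agent.AlgSp.ProperSub
import Groth.Agent.AlgSpD.IntegralMor
import Groth.Agent.S10264
import Groth.Agent.S9928
import Groth.Agent.S1316

/-!
# Global properties along cartesian thickenings of algebraic spaces
-/

universe u

open CategoryTheory CategoryTheory.Limits AlgebraicGeometry Opposite

set_option backward.isDefEq.respectTransparency.types false

namespace Groth.Agent.AlgSpCov.ThickCharts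

open _root_.AlgSp Groth.Agent.AlgSp

variable {S : Scheme.{u}}

/-- Representable properties are tested on scheme base changes of cartesian thickenings. -/
theorem repWith_of_cart {P : MorphismProperty Scheme.{u}} {X X' Y Y' : Space S} {i : X ⟶ X'} {j : Y ⟶ Y'}
    {f : X ⟶ Y} {f' : X' ⟶ Y'} (hj : IsThickMor j.hom) (hcart : IsPullback i.hom f.hom f'.hom j.hom)
    (hrep : Representable f'.hom) (hft' : LocP @LocallyOfFiniteType f'.hom)
    (hsch : ∀ ⦃A A' B B' : Scheme.{u}⦄ (iA : A ⟶ A') (iB : B ⟶ B') (g : A ⟶ B) (g' : A' ⟶ B'),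
      IsPullback iA g g' iB → IsClosedImmersion iB → Surjective iB → LocallyOfFiniteType g' → P g → P g')
    (hf : RepWith P f.hom) : RepWith P f'.hom := by
  refine ⟨hrep, fun T W t fst snd sq => ?_⟩
  obtain ⟨V, iV, b, sqV⟩ := hj.1 t
  obtain ⟨U, a, g, iU, sqU, w, sqs⟩ := exists_cart_chart hcart sqV sq.w
  have hiV : thick iV.left := hj.2 t b iV sqV
  have hlft : LocallyOfFiniteType snd.left :=
    (locP_baseChange etaleLocal_locallyOfFiniteType X'.property Y'.property sq hft') (𝟙 _) (𝟙 _) snd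
      (AlgSp.repWith_id _ W) (AlgSp.repWith_id _ T) (by simp)
  have sqO : IsPullback iU g snd iV := IsPullback.of_map (Over.forget S) (Over.OverMorphism.ext sqs.w) sqs
  have outer : IsPullback (a ≫ i.hom) ((yon S).map g) f'.hom (b ≫ j.hom) := by
    rw [sqU.w, sqV.w]
    exact (sqO.map (yon S)).paste_horiz sq
  exact hsch iU.left iV.left g.left snd.left sqs hiV.1 hiV.2 hlft
    (hf.2 b a g (IsPullback.of_right outer w hcart))

/-- Global properties ascend along cartesian thickenings, once local finite type does. -/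
theorem global_iff {X X' Y Y' : Space S} {i : X ⟶ X'} {j : Y ⟶ Y'} {f : X ⟶ Y} {f' : X' ⟶ Y'}
    (hi : IsThickMor i.hom) (hj : IsThickMor j.hom) (w : i.hom ≫ f'.hom = f.hom ≫ j.hom)
    (hcart : IsPullback i.hom f.hom f'.hom j.hom)
    (hlft : LocP @LocallyOfFiniteType f.hom → LocP @LocallyOfFiniteType f'.hom) :
    (RepWith @IsClosedImmersion f.hom ↔ RepWith @IsClosedImmersion f'.hom) ∧
    (IsProperMor f.hom ↔ IsProperMor f'.hom) ∧
    (IsFiniteMor f.hom ↔ IsFiniteMor f'.hom) ∧
    (RepWith @IsImmersion f.hom ↔ RepWith @IsImmersion f'.hom) := by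
  have hX := X.property
  have hX' := X'.property
  have hY := Y.property
  have hY' := Y'.property
  have hmono : RepWith @IsImmersion f.hom → Mono f'.hom ∧ LocP @LocallyOfFiniteType f'.hom := by
    intro h
    have hu := Groth.Agent.S10264.result f h
    have hl : LocP @LocallyOfFiniteType f'.hom := hlft fun U V a b g ha hb e => (hu a b g ha hb e).1
    have : Mono f.hom := Groth.Agent.S9928.result f h
    refine ⟨UnramMono.mono_of_unramified_univInjective f' ?_
      ((ThickTopo.univInjective_iff hX hX' hY hY' hi hj w).1 (UnramMono.isUnivInjectiveMor_of_mono f.hom)), hl⟩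
    refine locP_of_cart hj hcart (fun U U' V V' a a' iU b b' iV g g' ha ha' hb hb' e e' sqU hc hs sq hg => ?_) hu
    have : LocallyOfFiniteType g'.left := hl a' b' g' ha' hb' e'
    have : IsClosedImmersion iU.left := (hi.2 a' a iU sqU).1
    have : Surjective iU.left := (hi.2 a' a iU sqU).2
    obtain ⟨hg₁, hg₂⟩ := hg
    exact ⟨‹_›, Groth.Agent.Thick.Unram.formallyUnramified_of_locallyOfFiniteType sq⟩
  have hproper : IsProperMor f.hom → IsProperMor f'.hom := fun ⟨h₁, ⟨h₂, h₃⟩, h₄⟩ =>
    ⟨(ThickTopo.separated_iff hX hX' hY hY' hi hj w).1 h₁,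
      ⟨hlft h₂, (ThickTopo.quasiCompact_iff hX hX' hY hY' hi hj w).1 h₃⟩,
      (ThickTopo.univClosed_iff hX hX' hY hY' hi hj w).1 h₄⟩
  refine ⟨⟨fun h => ?_, fun h => repWith_bc hcart h⟩, ⟨hproper, fun ⟨h₁, ⟨h₂, h₃⟩, h₄⟩ => ?_⟩,
    ⟨fun h => ?_, fun h => ?_⟩, ⟨fun h => ?_, fun h => repWith_bc hcart h⟩⟩
  · have hI : RepWith @IsImmersion f.hom :=
      AlgSp.repWith_mono (fun g hg => (have : IsClosedImmersion g := hg; (inferInstance : IsImmersion g))) h
    obtain ⟨hm, hl⟩ := hmono hI
    exact UnramMono.repWith_isClosedImmersion f' hl ((ThickTopo.univClosed_iff hX hX' hY hY' hi hj w).1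
      (isUnivClosedMor_of_repWith
        (AlgSp.repWith_mono (fun g hg => (have : IsClosedImmersion g := hg; (inferInstance : UniversallyClosed g))) h)))
  · exact ⟨(ThickTopo.separated_iff hX hX' hY hY' hi hj w).2 h₁,
      ⟨locP_baseChange etaleLocal_locallyOfFiniteType hX' hY' hcart h₂,
        (ThickTopo.quasiCompact_iff hX hX' hY hY' hi hj w).2 h₃⟩,
      (ThickTopo.univClosed_iff hX hX' hY hY' hi hj w).2 h₄⟩
  · have hp := hproper ((Groth.Agent.AlgSpD.isFiniteMor_iff_proper f.hom).1 h).2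
    refine isFiniteMor_of_proper_lqf f'.hom hp (locP_of_cart hj hcart
      (fun U U' V V' a a' iU b b' iV g g' ha ha' hb hb' e e' sqU hc hs sq hg => ?_)
      (locP_of_repWith standard_locallyQuasiFinite.etaleLocal (AlgSp.repWith_mono
        (fun g (hg : IsFinite g) => (⟨inferInstance, inferInstance⟩ : LocallyQuasiFinite g ∧ LocallyOfFiniteType g))
        ((Groth.Agent.AlgSpD.isFiniteMor_iff f.hom).1 h))))
    have : LocallyOfFiniteType g'.left := hp.2.1.1 a' b' g' ha' hb' e'
    have : IsClosedImmersion iU.left := (hi.2 a' a iU sqU).1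
    have : Surjective iU.left := (hi.2 a' a iU sqU).2
    obtain ⟨hg₁, hg₂⟩ := hg
    exact ⟨(Groth.Agent.Thick.Topo.locallyQuasiFinite_iff iU.left iV.left g.left g'.left sq.w).1 hg₁, ‹_›⟩
  · exact (Groth.Agent.AlgSpD.isFiniteMor_iff f.hom).2
      (repWith_bc hcart ((Groth.Agent.AlgSpD.isFiniteMor_iff f'.hom).1 h))
  · obtain ⟨hm, hl⟩ := hmono h
    refine repWith_of_cart hj hcart (UnramMono.representable_of_mono_lft f' hl) hl
      (fun A A' B B' iA iB g g' sq hc hs hl' hg => ?_) h
    have := hc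
    have := hs
    have : IsImmersion g := hg
    exact (Groth.Agent.S1316.result iA iB g g' ⟨hc, hs⟩ sq).1 hg

end Groth.Agent.AlgSpCov.ThickCharts
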