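import Groth.Agent.AlgSpD.HasAt
import Groth.Agent.AlgSp.Space
import Groth.Agent.AlgSpB.Open
import Mathlib.CategoryTheory.Limits.Shapes.WidePullbacks

/-!
# Iterated fibre products of etale charts over an algebraic space

* `exists_wide`: for charts with separated sources, the iterated fibre product is a separated scheme etale over the
  space; it is affine when the charts are affine and the space is a separated scheme.
-/

set_option autoImplicit false
set_option backward.isDefEq.respectTransparency false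

universe u

open CategoryTheory CategoryTheory.Limits AlgebraicGeometry

namespace Groth.Agent.AlgSpCov.WidePB

open Groth.Agent

variable {S : Scheme.{u}}

theorem mono_pullback_pair {U V W : Over S} {p : W ⟶ U} {q : W ⟶ V} {F : AlgSp.Sp S}
    {a : (AlgSp.yon S).obj U ⟶ F} {b : (AlgSp.yon S).obj V ⟶ F}
    (sq : IsPullback ((AlgSp.yon S).map p) ((AlgSp.yon S).map q) a b) :
    Mono (prod.lift p.left q.left) := by
  constructor
  intro T f g e
  have e1 : f ≫ p.left = g ≫ p.left := by
    simpa using congrArg (fun m => m ≫ prod.fst) e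
  have e2 : f ≫ q.left = g ≫ q.left := by
    simpa using congrArg (fun m => m ≫ prod.snd) e
  have eh : g ≫ W.hom = f ≫ W.hom := by
    rw [← Over.w p, ← Category.assoc, ← Category.assoc, e1]
  let F' : Over.mk (f ≫ W.hom) ⟶ W := Over.homMk f rfl
  let G' : Over.mk (f ≫ W.hom) ⟶ W := Over.homMk g eh
  have : F' = G' := (AlgSp.yon S).map_injective (sq.hom_ext
    (by rw [← Functor.map_comp, ← Functor.map_comp]; exact congrArg (AlgSp.yon S).map (Over.OverMorphism.ext e1))
    (by rw [← Functor.map_comp, ← Functor.map_comp]; exact congrArg (AlgSp.yon S).map (Over.OverMorphism.ext e2)))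
  exact congrArg CommaMorphism.left this

theorem isSeparated_of_pullback {U V W : Over S} {p : W ⟶ U} {q : W ⟶ V} {F : AlgSp.Sp S}
    {a : (AlgSp.yon S).obj U ⟶ F} {b : (AlgSp.yon S).obj V ⟶ F}
    (sq : IsPullback ((AlgSp.yon S).map p) ((AlgSp.yon S).map q) a b)
    [U.left.IsSeparated] [V.left.IsSeparated] : W.left.IsSeparated := by
  have : Mono (prod.lift p.left q.left) := mono_pullback_pair sq
  have h1 : IsSeparated (Limits.prod.fst : U.left ⨯ V.left ⟶ U.left) := by
    have sqp : IsPullback (Limits.prod.fst : U.left ⨯ V.left ⟶ U.left) Limits.prod.snd (terminal.from U.left)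
        (terminal.from V.left) :=
      (IsPullback.of_is_product' (Limits.prodIsProd U.left V.left) terminalIsTerminal).of_iso
        (Iso.refl _) (Iso.refl _) (Iso.refl _) (Iso.refl _) (by simp) (by simp) (Subsingleton.elim _ _)
        (Subsingleton.elim _ _)
    exact MorphismProperty.of_isPullback (P := @IsSeparated) sqp.flip (inferInstance : IsSeparated (terminal.from V.left))
  refine ⟨?_⟩
  rw [show terminal.from W.left = (prod.lift p.left q.left ≫ Limits.prod.fst) ≫ terminal.from U.left from
    Subsingleton.elim _ _]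
  infer_instance

variable (X : AlgSp.Space S)

/-- The iterated fibre product of finitely many charts. -/
theorem exists_wide (n : ℕ) (U : Fin (n + 1) → Over S) (g : ∀ k, (AlgSp.yon S).obj (U k) ⟶ X.obj)
    (hg : ∀ k, AlgSp.RepWith @Etale (g k)) (hU : ∀ k, (U k).left.IsSeparated) :
    ∃ (Q : Over S) (b : (AlgSp.yon S).obj Q ⟶ X.obj) (π : ∀ k, Q ⟶ U k), AlgSp.RepWith @Etale b ∧
      Q.left.IsSeparated ∧ (∀ k, (AlgSp.yon S).map (π k) ≫ g k = b) ∧
      (∀ (T : AlgSp.Sp S) (l : T ⟶ X.obj) (m : ∀ k, T ⟶ (AlgSp.yon S).obj (U k)), (∀ k, m k ≫ g k = l) →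
        ∃! t : T ⟶ (AlgSp.yon S).obj Q, ∀ k, t ≫ (AlgSp.yon S).map (π k) = m k) ∧
      ((∀ k, IsAffine (U k).left) → (∃ Y : Over S, Y.left.IsSeparated ∧ Nonempty ((AlgSp.yon S).obj Y ≅ X.obj)) →
        IsAffine Q.left) := by
  induction n with
  | zero =>
    refine ⟨U 0, g 0, fun k => eqToHom (congrArg U (Fin.fin_one_eq_zero k).symm), hg 0, hU 0, fun k => ?_, ?_,
      fun h _ => h 0⟩
    · obtain rfl : k = 0 := Fin.fin_one_eq_zero k
      simp
    · intro T l m hm
      refine ⟨m 0, fun k => ?_, fun t ht => ?_⟩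
      · obtain rfl : k = 0 := Fin.fin_one_eq_zero k
        simp
      · simpa using ht 0
  | succ n ih =>
    obtain ⟨Q, b, π, hb, hQ, hπ, huniv, haff⟩ :=
      ih (fun k => U k.castSucc) (fun k => g k.castSucc) (fun k => hg _) (fun k => hU _)
    obtain ⟨Q', p, q, sq⟩ := AlgSpB.exists_pullback_yon hb.1 (g (Fin.last (n + 1)))
    have : Etale p.left := (hg (Fin.last (n + 1))).2 _ _ _ sq.flip
    have := hU (Fin.last (n + 1))
    refine ⟨Q', (AlgSp.yon S).map p ≫ b, Fin.lastCases q (fun k => p ≫ π k),
      AlgSpB.repWith_etale_map_comp p hb, isSeparated_of_pullback sq, ?_, ?_, ?_⟩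
    · refine Fin.lastCases ?_ fun k => ?_
      · simp only [Fin.lastCases_last]
        exact sq.w.symm
      · simp only [Fin.lastCases_castSucc, Functor.map_comp, Category.assoc, hπ k]
    · intro T l m hm
      obtain ⟨t₀, ht₀, hu₀⟩ := huniv T l (fun k => m k.castSucc) (fun k => hm _)
      have e0 : t₀ ≫ b = l := by rw [← hπ 0, ← Category.assoc, ht₀ 0, hm]
      refine ⟨sq.lift t₀ (m (Fin.last (n + 1))) (by rw [e0, hm]), ?_, fun t ht => ?_⟩
      · refine Fin.lastCases ?_ fun k => ?_
        · simp only [Fin.lastCases_last]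
          exact sq.lift_snd _ _ _
        · simp only [Fin.lastCases_castSucc, Functor.map_comp]
          rw [sq.lift_fst_assoc, ht₀ k]
      · apply sq.hom_ext
        · rw [sq.lift_fst]
          refine hu₀ _ fun k => ?_
          have := ht k.castSucc
          simp only [Fin.lastCases_castSucc, Functor.map_comp] at this
          rw [Category.assoc, this]
        · rw [sq.lift_snd]
          simpa using ht (Fin.last (n + 1))
    · intro hA hY
      have := haff (fun k => hA _) hY
      obtain ⟨Y, hYs, ⟨e⟩⟩ := hY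
      obtain ⟨g', hg'⟩ := (AlgSp.yon S).map_surjective (g (Fin.last (n + 1)) ≫ e.inv)
      obtain ⟨b', hb'⟩ := (AlgSp.yon S).map_surjective (b ≫ e.inv)
      have sq' : IsPullback ((AlgSp.yon S).map p) ((AlgSp.yon S).map q) ((AlgSp.yon S).map b') ((AlgSp.yon S).map g') :=
        sq.of_iso (Iso.refl _) (Iso.refl _) (Iso.refl _) e.symm (by simp) (by simp) (by simp [hb']) (by simp [hg'])
      have sqS := (sq'.of_map_of_faithful (F := AlgSp.yon S)).map (Over.forget S)
      have := hA (Fin.last (n + 1))
      have := hYs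
      have : IsAffineHom g'.left := by
        have : IsAffineHom (g'.left ≫ terminal.from Y.left) := by
          rw [terminal.comp_from]; infer_instance
        exact IsAffineHom.of_comp g'.left (terminal.from Y.left)
      have sqS' : IsPullback p.left q.left b'.left g'.left := sqS
      exact IsAffine.of_isPullback sqS'

/-- The iterated fibre product in sheaves. -/
theorem exists_iso_wide {n : ℕ} {U : Fin (n + 1) → Over S} {g : ∀ k, (AlgSp.yon S).obj (U k) ⟶ X.obj}
    {Q : Over S} {b : (AlgSp.yon S).obj Q ⟶ X.obj} (π : ∀ k, Q ⟶ U k)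
    (hπ : ∀ k, (AlgSp.yon S).map (π k) ≫ g k = b)
    (huniv : ∀ (T : AlgSp.Sp S) (l : T ⟶ X.obj) (m : ∀ k, T ⟶ (AlgSp.yon S).obj (U k)), (∀ k, m k ≫ g k = l) →
      ∃! t : T ⟶ (AlgSp.yon S).obj Q, ∀ k, t ≫ (AlgSp.yon S).map (π k) = m k) :
    ∃ e : widePullback X.obj (fun k => (AlgSp.yon S).obj (U k)) g ≅ (AlgSp.yon S).obj Q,
      e.hom ≫ b = WidePullback.base g := by
  obtain ⟨t, ht, -⟩ := huniv (widePullback X.obj _ g) (WidePullback.base g) (fun k => WidePullback.π g k)
    (fun k => WidePullback.π_arrow g k)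
  let s : (AlgSp.yon S).obj Q ⟶ widePullback X.obj _ g :=
    WidePullback.lift b (fun k => (AlgSp.yon S).map (π k)) hπ
  have hb : t ≫ b = WidePullback.base g := by
    rw [← hπ 0, ← Category.assoc, ht 0, WidePullback.π_arrow]
  refine ⟨⟨t, s, ?_, ?_⟩, hb⟩
  · refine WidePullback.hom_ext g _ _ (fun k => ?_) ?_
    · rw [Category.assoc, WidePullback.lift_π, ht k, Category.id_comp]
    · rw [Category.assoc, WidePullback.lift_base, hb, Category.id_comp]
  · obtain ⟨_, -, hu⟩ := huniv _ b (fun k => (AlgSp.yon S).map (π k)) hπ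
    refine (hu _ fun k => ?_).trans (hu _ fun k => Category.id_comp _).symm
    rw [Category.assoc, ht k, WidePullback.lift_π]

end Groth.Agent.AlgSpCov.WidePB
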